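import Mathlib
import Cfsg.Agent.Lib.KS2.DicSL2

set_option autoImplicit false
set_option linter.unusedSimpArgs false
set_option linter.unusedVariables false

namespace Cfsg.Agent.Lib.KS2.SL2

open Matrix
open scoped MatrixGroups

variable {F : Type*} [Field F]

/-- The Weyl element of the non-split torus. -/
def nwel (ν r s : F) (h : nform 0 ν r s = -1) : SL(2, F) :=
  mk r (ν * s) s (-r) (by simp only [nform] at h; linear_combination -h)

theorem isDic_torus (h2 : (2 : F) ≠ 0) (ν : F) (hf : ∀ u : F, u ^ 2 - 0 * u + ν ≠ 0) (r s : F)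
    (h : nform 0 ν r s = -1) : IsDic (torus 0 ν) (nwel ν r s h) where
  two_ne := h2
  comm := by
    rintro a ⟨h1, h3⟩ b ⟨h4, h5⟩
    apply ext4 <;> simp only [mul00, mul01, mul10, mul11, h1, h3, h4, h5] <;> ring
  neg_mem := by
    constructor <;> simp
  trig := by
    rintro x ⟨h1, h3⟩ y ⟨h4, h5⟩ htr
    have dx := det_rel x
    have dy := det_rel y
    rw [h1, h3] at dx
    rw [h4, h5] at dy
    simp only [tr, h3, h5] at htr
    have e0 : (y : Matrix (Fin 2) (Fin 2) F) 0 0 = (x : Matrix (Fin 2) (Fin 2) F) 0 0 := by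
      have : 2 * ((y : Matrix (Fin 2) (Fin 2) F) 0 0 - (x : Matrix (Fin 2) (Fin 2) F) 0 0) = 0 := by
        linear_combination -htr
      have := (mul_eq_zero.mp this).resolve_left h2
      linear_combination this
    have hν : ν ≠ 0 := by
      intro h0
      apply hf 0
      simp [h0]
    rw [e0] at dy
    have hfac : ν * (((y : Matrix (Fin 2) (Fin 2) F) 1 0 - (x : Matrix (Fin 2) (Fin 2) F) 1 0) *
        ((y : Matrix (Fin 2) (Fin 2) F) 1 0 + (x : Matrix (Fin 2) (Fin 2) F) 1 0)) = 0 := by
      linear_combination dy - dx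
    have hfac2 := (mul_eq_zero.mp hfac).resolve_left hν
    rcases mul_eq_zero.mp hfac2 with e | e
    · left
      have e1 : (y : Matrix (Fin 2) (Fin 2) F) 1 0 = (x : Matrix (Fin 2) (Fin 2) F) 1 0 := by linear_combination e
      apply ext4
      · exact e0
      · rw [h4, h1, e1]
      · exact e1
      · rw [h5, h3, e0, e1]
    · right
      have e1 : (y : Matrix (Fin 2) (Fin 2) F) 1 0 = -(x : Matrix (Fin 2) (Fin 2) F) 1 0 := by linear_combination e
      apply ext4
      · rw [inv00, h3, e0]; ring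
      · rw [inv01, h4, h1, e1]; ring
      · rw [inv10, e1]
      · rw [inv11, h5, e0]; ring
  cent := by
    rintro x ⟨h1, h3⟩ hxs g hg
    have hb : (x : Matrix (Fin 2) (Fin 2) F) 1 0 ≠ 0 := by
      intro e
      apply hxs
      refine ⟨by rw [h1, e]; ring, e, by rw [h3, e]; ring⟩
    have e00 := congrArg (fun g : SL(2, F) => (g : Matrix (Fin 2) (Fin 2) F) 0 0) hg
    have e10 := congrArg (fun g : SL(2, F) => (g : Matrix (Fin 2) (Fin 2) F) 1 0) hg
    simp only [mul00, mul10, h1, h3] at e00 e10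
    constructor
    · have : ((g : Matrix (Fin 2) (Fin 2) F) 0 1 + ν * (g : Matrix (Fin 2) (Fin 2) F) 1 0) * (x : Matrix (Fin 2) (Fin 2) F) 1 0 = 0 := by
        linear_combination e00
      have := (mul_eq_zero.mp this).resolve_right hb
      linear_combination this
    · have : ((g : Matrix (Fin 2) (Fin 2) F) 1 1 - (g : Matrix (Fin 2) (Fin 2) F) 0 0) * (x : Matrix (Fin 2) (Fin 2) F) 1 0 = 0 := by
        linear_combination e10
      have := (mul_eq_zero.mp this).resolve_right hb
      linear_combination this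
  ww := by
    simp only [nform] at h
    apply ext4 <;> simp only [mul00, mul01, mul10, mul11, nwel, mk00, mk01, mk10, mk11, sc00, sc01, sc10, sc11]
    · linear_combination h
    · ring
    · ring
    · linear_combination h
  wt := by
    simp only [nform] at h
    rintro t ⟨h1, h3⟩
    have dt := det_rel t
    apply ext4 <;> simp only [mul00, mul01, mul10, mul11, inv00, inv01, inv10, inv11, nwel, mk00, mk01, mk10, mk11, h1, h3]
    · linear_combination (-(t : Matrix (Fin 2) (Fin 2) F) 0 0) * h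
    · linear_combination (-ν * (t : Matrix (Fin 2) (Fin 2) F) 1 0) * h
    · linear_combination (-(t : Matrix (Fin 2) (Fin 2) F) 1 0) * (-h)
    · linear_combination (-(t : Matrix (Fin 2) (Fin 2) F) 0 0) * h
  wT := by
    rintro ⟨h1, h3⟩
    simp only [nwel, mk00, mk01, mk10, mk11] at h1 h3
    have hr : r = 0 := by
      have : 2 * r = 0 := by linear_combination -h3
      exact (mul_eq_zero.mp this).resolve_left h2
    subst hr
    simp only [nform] at h
    have hs : s ≠ 0 := by
      rintro rfl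
      have : (1 : F) = 0 := by linear_combination h
      exact one_ne_zero this
    apply hf (1 / s)
    field_simp
    linear_combination h

/-- Quotient of non-squares is a square. -/
lemma isSquare_div_of_not_isSquare [Fintype F] (h2 : ringChar F ≠ 2) (a b : F) (ha : ¬ IsSquare a)
    (hb : ¬ IsSquare b) : IsSquare (a / b) := by
  classical
  have ha0 : a ≠ 0 := by rintro rfl; exact ha (IsSquare.zero)
  have hb0 : b ≠ 0 := by rintro rfl; exact hb (IsSquare.zero)
  have h1 := (quadraticChar_neg_one_iff_not_isSquare).mpr ha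
  have h3 := (quadraticChar_neg_one_iff_not_isSquare).mpr hb
  rw [← quadraticChar_one_iff_isSquare (div_ne_zero ha0 hb0)]
  have : quadraticChar F (a / b) * quadraticChar F b = quadraticChar F a := by
    rw [← map_mul, div_mul_cancel₀ a hb0]
  rw [h1, h3] at this
  linarith

/-- The facts about a nonscalar-containing torus. -/
lemma exists_nonscalar_of_card {T : Subgroup SL(2, F)} [Finite F] (hc : 2 < Nat.card T) :
    ∃ x ∈ T, ¬ IsScalar x := by
  by_contra hno
  push Not at hno
  have hsub : (T : Set SL(2, F)) ⊆ {1, mone} := by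
    intro x hx
    exact isScalar_cases x (hno x hx)
  have h1 : Nat.card T ≤ 2 := by
    have h3 := Set.ncard_le_ncard hsub (Set.toFinite _)
    have h4 : ({1, mone} : Set SL(2, F)).ncard ≤ 2 := by
      have h6 := Set.ncard_insert_le (1 : SL(2, F)) ({mone} : Set SL(2, F))
      rw [Set.ncard_singleton] at h6
      exact h6
    have h5 : Nat.card T = (T : Set SL(2, F)).ncard := Nat.card_coe_set_eq _
    omega
  omega

/-- An element without eigenvector has no root of its characteristic polynomial. -/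
lemma no_root_of_no_eigen (g : SL(2, F))
    (h : ∀ (c : F) (v : Fin 2 → F), v ≠ 0 → (g : Matrix (Fin 2) (Fin 2) F).mulVec v ≠ c • v) (u : F) :
    u ^ 2 - tr g * u + 1 ≠ 0 := by
  intro hu
  have hd : ((g : Matrix (Fin 2) (Fin 2) F) - Matrix.scalar (Fin 2) u).det = 0 := by
    rw [Matrix.det_fin_two]
    have := det_rel g
    simp only [Matrix.sub_apply, Matrix.scalar_apply, Matrix.diagonal_apply, tr] at *
    simp
    linear_combination hu + this
  obtain ⟨v, hv, hv0⟩ := Matrix.exists_mulVec_eq_zero_iff.mpr hd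
  apply h u v hv
  rw [Matrix.sub_mulVec, sub_eq_zero] at hv0
  rw [hv0]
  simp [Matrix.scalar_apply, Matrix.mulVec_diagonal]

/-- All elements with no root are conjugate into the torus. -/
lemma exists_conj_torus [Fintype F] (h2r : ringChar F ≠ 2) (a : F) (ha : ¬ IsSquare a)
    (g : SL(2, F)) (hg : ∀ u : F, u ^ 2 - tr g * u + 1 ≠ 0) :
    ∃ h : SL(2, F), h * g * h⁻¹ ∈ torus 0 (-a) := by
  have h2 : (2 : F) ≠ 0 := Ring.two_ne_zero h2r
  have h2' : (4 : F) ≠ 0 := by
    have : (4 : F) = 2 * 2 := by norm_num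
    rw [this]
    exact mul_ne_zero h2 h2
  set τ := tr g with hτ
  have hD : ¬ IsSquare (τ ^ 2 - 4) := by
    rintro ⟨c, hc⟩
    apply hg ((τ + c) / 2)
    field_simp
    linear_combination -hc
  have ha0 : a ≠ 0 := by rintro rfl; exact ha (IsSquare.zero)
  obtain ⟨b, hb⟩ : IsSquare ((τ ^ 2 - 4) / a) := isSquare_div_of_not_isSquare h2r _ _ hD ha
  have hform : nform 0 (-a) (τ / 2) (b / 2) = 1 := by
    simp only [nform]
    have : τ ^ 2 - 4 = a * (b * b) := by
      rw [← hb]; field_simp
    field_simp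
    linear_combination this
  have htt : tr (tmk 0 (-a) (τ / 2) (b / 2) hform) = τ := by
    simp only [tr, tmk, mk00, mk11]
    field_simp
    ring
  have hτ2 : τ ^ 2 ≠ 4 := by
    intro e
    apply hD
    rw [e, sub_self]
    exact IsSquare.zero
  have hn1 : ¬ IsScalar g := not_scalar_of_tr g hτ2
  have hn2 : ¬ IsScalar (tmk 0 (-a) (τ / 2) (b / 2) hform) :=
    not_scalar_of_tr _ (by rw [htt]; exact hτ2)
  obtain ⟨h, hh⟩ := isConj_iff.mp (isConj_of_tr_eq g _ hn1 hn2 htt.symm (Or.inl hτ2))
  refine ⟨h, ?_⟩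
  rw [hh]
  exact tmk_mem _ _ _ _ _

/-- Existence of the non-split setting. -/
theorem exists_nonsplit [Fintype F] (h2r : ringChar F ≠ 2) :
    ∃ (a r s : F) (_ : ¬ IsSquare a) (h : nform 0 (-a) r s = -1),
      (∀ u : F, u ^ 2 - 0 * u + -a ≠ 0) ∧ IsDic (torus 0 (-a)) (nwel (-a) r s h) := by
  obtain ⟨a, ha⟩ := FiniteField.exists_nonsquare h2r
  have hf : ∀ u : F, u ^ 2 - 0 * u + -a ≠ 0 := by
    intro u hu
    apply ha
    exact ⟨u, by linear_combination -hu⟩
  obtain ⟨r, s, hrs⟩ := nform_universal 0 (-a) hf (-1)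
  exact ⟨a, r, s, ha, hrs, hf, isDic_torus (Ring.two_ne_zero h2r) _ hf r s hrs⟩

theorem nonsplit_main [Fintype F] (hodd : Odd (Fintype.card F)) :
    ∃ T' : Subgroup (Matrix.SpecialLinearGroup (Fin 2) F), IsCyclic T' ∧ Nat.card T' = Fintype.card F + 1 ∧
      Subgroup.centralizer ((T' : Set (Matrix.SpecialLinearGroup (Fin 2) F))) = T' ∧
      (∀ g : Matrix.SpecialLinearGroup (Fin 2) F, g ∈ T' → (g : Matrix (Fin 2) (Fin 2) F) ≠ 1 → (g : Matrix (Fin 2) (Fin 2) F) ≠ -1 → Subgroup.centralizer ({g} : Set (Matrix.SpecialLinearGroup (Fin 2) F)) = T') ∧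
      (∀ g : Matrix.SpecialLinearGroup (Fin 2) F, (∀ (c : F) (v : Fin 2 → F), v ≠ 0 → (g : Matrix (Fin 2) (Fin 2) F).mulVec v ≠ c • v) → ∃ h : Matrix.SpecialLinearGroup (Fin 2) F, h * g * h⁻¹ ∈ T') ∧
      Nat.card (Subgroup.normalizer (T' : Set (Matrix.SpecialLinearGroup (Fin 2) F))) = 2 * (Fintype.card F + 1) ∧
      Nat.card (ConjClasses (Subgroup.normalizer (T' : Set (Matrix.SpecialLinearGroup (Fin 2) F)))) = (Fintype.card F + 7) / 2 ∧
      ∀ g : Matrix.SpecialLinearGroup (Fin 2) F, g ∈ Subgroup.normalizer (T' : Set (Matrix.SpecialLinearGroup (Fin 2) F)) → g ∉ T' → ((g * g) : Matrix (Fin 2) (Fin 2) F) = -1 := by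
  have h2r : ringChar F ≠ 2 := by
    intro h
    have := FiniteField.even_card_of_char_two h
    obtain ⟨k, hk⟩ := hodd
    omega
  obtain ⟨a, r, s, ha, hrs, hf, hD⟩ := exists_nonsplit (F := F) h2r
  have hcard := card_torus 0 (-a) hf
  have hq : 2 ≤ Fintype.card F := Fintype.one_lt_card
  obtain ⟨x, hx, hxs⟩ := exists_nonscalar_of_card (T := torus 0 (-a)) (by rw [hcard]; omega)
  refine ⟨torus 0 (-a), torus_isCyclic 0 (-a) hf, hcard, hD.centralizer_self x hx hxs, ?_, ?_, ?_, ?_, ?_⟩
  · intro g hg h1 h3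
    apply hD.centralizer_eq g hg
    intro hs
    rcases isScalar_cases g hs with rfl | rfl
    · exact h1 rfl
    · exact h3 mone_coe
  · intro g hg
    exact exists_conj_torus h2r a ha g (no_root_of_no_eigen g hg)
  · rw [hD.card_normalizer x hx hxs, hcard]
  · have := hD.card_conjClasses x hx hxs
    rw [hcard] at this
    omega
  · intro g hg hgT
    have := hD.mul_self_of_not_mem x hx hxs g hg hgT
    have h3 := congrArg (fun g : Matrix.SpecialLinearGroup (Fin 2) F => (g : Matrix (Fin 2) (Fin 2) F)) this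
    simp only [Matrix.SpecialLinearGroup.coe_mul] at h3
    rw [h3, mone_coe]

end Cfsg.Agent.Lib.KS2.SL2
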