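import Mathlib
import Cfsg.Agent.Lib.KS2.DicSL2Nonsplit

set_option autoImplicit false
set_option linter.unusedSimpArgs false
set_option linter.unusedVariables false

namespace Cfsg.Agent.Lib.KS2.SL2

open Matrix
open scoped MatrixGroups

variable {F : Type*} [Field F]

lemma mone_conj (g : SL(2, F)) : g * mone * g⁻¹ = mone := by
  rw [← mone_comm, mul_inv_cancel_right]

namespace IsDic

variable {T : Subgroup SL(2, F)} {w : SL(2, F)}

/-- Conjugates of a dicyclic configuration. -/
theorem conj (h : IsDic T w) (g : SL(2, F)) :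
    IsDic (T.map (MulAut.conj g).toMonoidHom) (g * w * g⁻¹) where
  two_ne := h.two_ne
  comm := by
    rintro _ ⟨a, ha, rfl⟩ _ ⟨b, hb, rfl⟩
    simp only [MulEquiv.coe_toMonoidHom, MulAut.conj_apply]
    calc g * a * g⁻¹ * (g * b * g⁻¹) = g * (a * b) * g⁻¹ := by group
      _ = g * (b * a) * g⁻¹ := by rw [h.comm a ha b hb]
      _ = g * b * g⁻¹ * (g * a * g⁻¹) := by group
  neg_mem := ⟨mone, h.neg_mem, by simp only [MulEquiv.coe_toMonoidHom, MulAut.conj_apply]; exact mone_conj g⟩
  trig := by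
    rintro _ ⟨a, ha, rfl⟩ _ ⟨b, hb, rfl⟩ htr
    simp only [MulEquiv.coe_toMonoidHom, MulAut.conj_apply, tr_conj] at htr ⊢
    rcases h.trig a ha b hb htr with rfl | rfl
    · exact Or.inl rfl
    · right
      group
  cent := by
    rintro _ ⟨a, ha, rfl⟩ hs k hk
    simp only [MulEquiv.coe_toMonoidHom, MulAut.conj_apply] at hs hk
    have has : ¬ IsScalar a := fun e => hs (isScalar_conj e)
    have hmem : g⁻¹ * k * g ∈ T := by
      apply h.cent a ha has
      calc g⁻¹ * k * g * a = g⁻¹ * (k * (g * a * g⁻¹)) * g := by group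
        _ = g⁻¹ * ((g * a * g⁻¹) * k) * g := by rw [hk]
        _ = a * (g⁻¹ * k * g) := by group
    refine ⟨_, hmem, ?_⟩
    simp only [MulEquiv.coe_toMonoidHom, MulAut.conj_apply]
    group
  ww := by
    calc g * w * g⁻¹ * (g * w * g⁻¹) = g * (w * w) * g⁻¹ := by group
      _ = mone := by rw [h.ww, mone_conj]
  wt := by
    rintro _ ⟨a, ha, rfl⟩
    simp only [MulEquiv.coe_toMonoidHom, MulAut.conj_apply]
    calc g * w * g⁻¹ * (g * a * g⁻¹) * (g * w * g⁻¹)⁻¹ = g * (w * a * w⁻¹) * g⁻¹ := by group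
      _ = g * a⁻¹ * g⁻¹ := by rw [h.wt a ha]
      _ = (g * a * g⁻¹)⁻¹ := by group
  wT := by
    rintro ⟨a, ha, e⟩
    simp only [MulEquiv.coe_toMonoidHom, MulAut.conj_apply] at e
    apply h.wT
    have : a = w := by
      have e2 := congrArg (fun y => g⁻¹ * y * g) e
      simpa [mul_assoc] using e2
    rwa [← this]

/-- Sylow subgroups contained in an abelian subgroup coincide. -/
lemma sylow_unique (ℓ : ℕ) [Fact ℓ.Prime] (h : IsDic T w) (P Q : Sylow ℓ SL(2, F))
    (hP : (P : Subgroup SL(2, F)) ≤ T) (hQ : (Q : Subgroup SL(2, F)) ≤ T) :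
    (P : Subgroup SL(2, F)) = Q := by
  have hn : (Q : Subgroup SL(2, F)) ≤ Subgroup.normalizer ((P : Subgroup SL(2, F)) : Set SL(2, F)) := by
    intro y hy
    rw [Subgroup.mem_normalizer_iff]
    intro t
    have hyT := hQ hy
    constructor
    · intro ht
      have : y * t * y⁻¹ = t := by
        rw [h.comm y hyT t (hP ht), mul_inv_cancel_right]
      rwa [this]
    · intro ht
      by_cases htT : t ∈ T
      · have : y * t * y⁻¹ = t := by
          rw [h.comm y hyT t htT, mul_inv_cancel_right]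
        rwa [this] at ht
      · exact absurd (by
          have h1 := T.mul_mem (T.mul_mem (T.inv_mem hyT) (hP ht)) hyT
          have e : y⁻¹ * (y * t * y⁻¹) * y = t := by group
          rwa [e] at h1) htT
  have hg := IsPGroup.to_sup_of_normal_left' P.isPGroup' Q.isPGroup' hn
  have h1 := P.is_maximal' hg le_sup_left
  have h2 := Q.is_maximal' hg le_sup_right
  rw [← h1, h2]

/-- The main structural statement for a Sylow inside `T`. -/
theorem sylow_main (h : IsDic T w) (ℓ : ℕ) [Fact ℓ.Prime] (hℓ : ℓ ≠ 2) [Finite F]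
    (P : Sylow ℓ SL(2, F)) (hPT : (P : Subgroup SL(2, F)) ≤ T) (hne : (P : Subgroup SL(2, F)) ≠ ⊥) :
    Subgroup.centralizer ((P : Subgroup SL(2, F)) : Set SL(2, F)) = T ∧
    Subgroup.normalizer ((P : Subgroup SL(2, F)) : Set SL(2, F)) = Subgroup.normalizer (T : Set SL(2, F)) ∧
    ∃ x ∈ T, ¬ IsScalar x := by
  classical
  obtain ⟨x, hxP, hx1⟩ := (Subgroup.ne_bot_iff_exists_ne_one.mp hne) |>.imp (fun x hx => hx) |> fun ⟨x, hx⟩ =>
    (⟨x.1, x.2, fun e => hx (Subtype.ext e)⟩ : ∃ x ∈ (P : Subgroup SL(2, F)), x ≠ 1)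
  have hxm : x ≠ mone := by
    rintro rfl
    obtain ⟨k, hk⟩ := P.isPGroup' ⟨mone, hxP⟩
    have h1 : (mone : SL(2, F)) ^ (ℓ ^ k) = 1 := by
      simpa using congrArg Subtype.val hk
    have h2 : orderOf (mone : SL(2, F)) = 2 := by
      apply orderOf_eq_prime
      · rw [sq]; exact mone_mul_self
      · exact mone_ne_one h.two_ne
    have h3 := orderOf_dvd_of_pow_eq_one h1
    rw [h2] at h3
    have h4 := Nat.prime_two.dvd_of_dvd_pow h3
    exact hℓ ((Nat.prime_dvd_prime_iff_eq Nat.prime_two Fact.out).mp h4).symm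
  have hxs : ¬ IsScalar x := by
    intro hs
    rcases isScalar_cases x hs with e | e
    · exact hx1 e
    · exact hxm e
  have hxT := hPT hxP
  have hC : Subgroup.centralizer ((P : Subgroup SL(2, F)) : Set SL(2, F)) = T := by
    apply le_antisymm
    · intro g hg
      rw [Subgroup.mem_centralizer_iff] at hg
      exact h.cent x hxT hxs g (hg x hxP).symm
    · intro g hg
      rw [Subgroup.mem_centralizer_iff]
      intro y hy
      exact h.comm y (hPT hy) g hg
  refine ⟨hC, ?_, x, hxT, hxs⟩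
  apply le_antisymm
  · intro g hg
    rw [Subgroup.mem_normalizer_iff] at hg ⊢
    intro t
    rw [← hC]
    simp only [Subgroup.mem_centralizer_iff]
    constructor
    · intro ht y hy
      have hy' : g⁻¹ * y * g ∈ (P : Subgroup SL(2, F)) := by
        rw [hg]
        have e : g * (g⁻¹ * y * g) * g⁻¹ = y := by group
        rw [e]
        exact hy
      have := ht _ hy'
      calc y * (g * t * g⁻¹) = g * ((g⁻¹ * y * g) * t) * g⁻¹ := by group
        _ = g * (t * (g⁻¹ * y * g)) * g⁻¹ := by rw [this]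
        _ = g * t * g⁻¹ * y := by group
    · intro ht y hy
      have hy' : g * y * g⁻¹ ∈ (P : Subgroup SL(2, F)) := (hg y).mp hy
      have := ht _ hy'
      have e1 : g * y * g⁻¹ * (g * t * g⁻¹) = g * (y * t) * g⁻¹ := by group
      have e2 : g * t * g⁻¹ * (g * y * g⁻¹) = g * (t * y) * g⁻¹ := by group
      rw [e1, e2] at this
      have e3 := congrArg (fun z => g⁻¹ * z * g) this
      simpa [mul_assoc] using e3
  · -- the other inclusion
    have key : ∀ g ∈ Subgroup.normalizer (T : Set SL(2, F)), ∀ y ∈ (P : Subgroup SL(2, F)),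
        g * y * g⁻¹ ∈ (P : Subgroup SL(2, F)) := by
      intro g hg y hy
      have hle : ((g • P : Sylow ℓ SL(2, F)) : Subgroup SL(2, F)) ≤ T := by
        intro z hz
        rw [Sylow.coe_subgroup_smul, Subgroup.mem_pointwise_smul_iff_inv_smul_mem] at hz
        rw [Subgroup.mem_normalizer_iff] at hg
        have h1 := hPT hz
        have e : (MulAut.conj g)⁻¹ • z = g⁻¹ * z * g := by
          simp [MulAut.smul_def, MulAut.conj_inv_apply]
        rw [e] at h1
        have h2 := (hg _).mp h1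
        have e2 : g * (g⁻¹ * z * g) * g⁻¹ = z := by group
        rwa [e2] at h2
      have e := sylow_unique ℓ h _ _ hle hPT
      rw [← e, Sylow.coe_subgroup_smul, Subgroup.mem_pointwise_smul_iff_inv_smul_mem]
      have e3 : (MulAut.conj g)⁻¹ • (g * y * g⁻¹) = y := by
        simp [MulAut.smul_def, MulAut.conj_inv_apply, mul_assoc]
      rwa [e3]
    intro g hg
    rw [Subgroup.mem_normalizer_iff]
    intro t
    constructor
    · exact key g hg t
    · intro ht
      have := key g⁻¹ (Subgroup.inv_mem _ hg) _ ht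
      have e : g⁻¹ * (g * t * g⁻¹) * g⁻¹⁻¹ = t := by group
      rwa [e] at this

/-- The count for an arbitrary Sylow subgroup. -/
theorem sylow_card (h : IsDic T w) (hc : IsCyclic T) (ℓ : ℕ) [Fact ℓ.Prime] (hℓ : ℓ ≠ 2) [Finite F]
    (hdvd : ℓ ∣ Nat.card T) (hidx : ¬ ℓ ∣ T.index) (P : Sylow ℓ SL(2, F)) :
    Nat.card (Subgroup.centralizer ((P : Subgroup SL(2, F)) : Set SL(2, F))) = Nat.card T ∧
    IsCyclic (Subgroup.centralizer ((P : Subgroup SL(2, F)) : Set SL(2, F))) ∧
    Nat.card (Subgroup.normalizer ((P : Subgroup SL(2, F)) : Set SL(2, F))) = 2 * Nat.card T := by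
  classical
  -- a Sylow of `T`
  have : Fact ℓ.Prime := inferInstance
  obtain ⟨S⟩ : Nonempty (Sylow ℓ T) := inferInstance
  have hSp : IsPGroup ℓ ((S : Subgroup T).map T.subtype) := S.isPGroup'.map _
  have hSi : ¬ ℓ ∣ ((S : Subgroup T).map T.subtype).index := by
    rw [Subgroup.index_map_subtype]
    exact Nat.Prime.not_dvd_mul Fact.out S.not_dvd_index hidx
  let P₀ : Sylow ℓ SL(2, F) := hSp.toSylow hSi
  have hP₀ : (P₀ : Subgroup SL(2, F)) ≤ T := by
    show (S : Subgroup T).map T.subtype ≤ T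
    exact Subgroup.map_subtype_le _
  obtain ⟨g, hg⟩ := MulAction.exists_smul_eq SL(2, F) P₀ P
  -- transport
  have hD := h.conj g
  have hPT : (P : Subgroup SL(2, F)) ≤ T.map (MulAut.conj g).toMonoidHom := by
    rw [← hg]
    intro z hz
    rw [Sylow.coe_subgroup_smul, Subgroup.mem_pointwise_smul_iff_inv_smul_mem] at hz
    refine ⟨_, hP₀ hz, ?_⟩
    simp [MulAut.smul_def, MulAut.conj_inv_apply, mul_assoc]
  have hne : (P : Subgroup SL(2, F)) ≠ ⊥ := by
    intro e
    have h1 := P.not_dvd_index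
    rw [e, Subgroup.index_bot] at h1
    apply h1
    exact hdvd.trans (Subgroup.card_subgroup_dvd_card T)
  obtain ⟨hC, hN, x, hxT, hxs⟩ := hD.sylow_main ℓ hℓ P hPT hne
  have hinj : Function.Injective (MulAut.conj g).toMonoidHom := (MulAut.conj g).injective
  have hcard : Nat.card (T.map (MulAut.conj g).toMonoidHom) = Nat.card T :=
    (Nat.card_congr (Subgroup.equivMapOfInjective T _ hinj).toEquiv).symm
  rw [hC, hN, hD.card_normalizer x hxT hxs, hcard]
  refine ⟨rfl, ?_, rfl⟩
  exact (Subgroup.equivMapOfInjective T _ hinj).isCyclic.mp hc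

end IsDic

/-- `S2430`. -/
theorem sylow_odd_main [Fintype F] (hodd : Odd (Fintype.card F)) (ℓ : ℕ) [Fact ℓ.Prime] (hℓ : ℓ ≠ 2)
    (P : Sylow ℓ (Matrix.SpecialLinearGroup (Fin 2) F)) :
    (ℓ ∣ Fintype.card F - 1 →
      Nat.card (Subgroup.centralizer ((P : Subgroup (Matrix.SpecialLinearGroup (Fin 2) F)) : Set (Matrix.SpecialLinearGroup (Fin 2) F))) = Fintype.card F - 1 ∧
      IsCyclic (Subgroup.centralizer ((P : Subgroup (Matrix.SpecialLinearGroup (Fin 2) F)) : Set (Matrix.SpecialLinearGroup (Fin 2) F))) ∧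
      Nat.card (Subgroup.normalizer ((P : Subgroup (Matrix.SpecialLinearGroup (Fin 2) F)) : Set (Matrix.SpecialLinearGroup (Fin 2) F))) = 2 * (Fintype.card F - 1)) ∧
    (ℓ ∣ Fintype.card F + 1 →
      Nat.card (Subgroup.centralizer ((P : Subgroup (Matrix.SpecialLinearGroup (Fin 2) F)) : Set (Matrix.SpecialLinearGroup (Fin 2) F))) = Fintype.card F + 1 ∧
      IsCyclic (Subgroup.centralizer ((P : Subgroup (Matrix.SpecialLinearGroup (Fin 2) F)) : Set (Matrix.SpecialLinearGroup (Fin 2) F))) ∧
      Nat.card (Subgroup.normalizer ((P : Subgroup (Matrix.SpecialLinearGroup (Fin 2) F)) : Set (Matrix.SpecialLinearGroup (Fin 2) F))) = 2 * (Fintype.card F + 1)) := by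
  have h2 := two_ne_zero_of_odd hodd
  have hp : ℓ.Prime := Fact.out
  set q := Fintype.card F with hq
  have hq2 : 2 ≤ q := Fintype.one_lt_card
  have hcardG : Nat.card SL(2, F) = q * (q - 1) * (q + 1) := by
    rw [card_SL2]
    have key : ∀ q : ℕ, 2 ≤ q → q * (q ^ 2 - 1) = q * (q - 1) * (q + 1) := by
      intro q hq
      obtain ⟨k, rfl⟩ : ∃ k, q = k + 1 := ⟨q - 1, by omega⟩
      simp only [Nat.add_sub_cancel]
      have : (k + 1) ^ 2 - 1 = k * (k + 1 + 1) := by
        have : (k + 1) ^ 2 = k * (k + 1 + 1) + 1 := by ring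
        omega
      rw [this]; ring
    exact key q hq2
  have hnot2 : ¬ ℓ ∣ 2 := fun e => hℓ ((Nat.prime_dvd_prime_iff_eq hp Nat.prime_two).mp e)
  constructor
  · intro hdvd
    have hc := card_dtor (F := F)
    have hcy := isCyclic_dtor (F := F)
    have hidx : (dtor F).index = q * (q + 1) := by
      have h1 := Subgroup.card_mul_index (dtor F)
      rw [hc, hcardG] at h1
      have : (q - 1) * (dtor F).index = (q - 1) * (q * (q + 1)) := by
        rw [h1]; ring
      exact Nat.eq_of_mul_eq_mul_left (by omega) this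
    have hnd : ¬ ℓ ∣ (dtor F).index := by
      rw [hidx]
      apply Nat.Prime.not_dvd_mul hp
      · intro e
        apply hp.one_lt.ne'
        have : ℓ ∣ 1 := by
          have := (Nat.dvd_sub e hdvd)
          rwa [show q - (q - 1) = 1 by omega] at this
        exact Nat.dvd_one.mp this
      · intro e
        apply hnot2
        have := (Nat.dvd_sub e hdvd)
        rwa [show q + 1 - (q - 1) = 2 by omega] at this
    have := (isDic_dtor h2).sylow_card hcy ℓ hℓ (by rw [hc]; exact hdvd) hnd P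
    rwa [hc] at this
  · intro hdvd
    have h2r : ringChar F ≠ 2 := by
      intro h
      have := FiniteField.even_card_of_char_two h
      obtain ⟨k, hk⟩ := hodd
      omega
    obtain ⟨a, r, s, ha, hrs, hf, hD⟩ := exists_nonsplit (F := F) h2r
    have hc := card_torus 0 (-a) hf
    have hcy := torus_isCyclic 0 (-a) hf
    have hidx : (torus 0 (-a)).index = q * (q - 1) := by
      have h1 := Subgroup.card_mul_index (torus 0 (-a))
      rw [hc, hcardG] at h1
      have : (q + 1) * (torus 0 (-a)).index = (q + 1) * (q * (q - 1)) := by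
        rw [h1]; ring
      exact Nat.eq_of_mul_eq_mul_left (by omega) this
    have hnd : ¬ ℓ ∣ (torus 0 (-a)).index := by
      rw [hidx]
      apply Nat.Prime.not_dvd_mul hp
      · intro e
        apply hp.one_lt.ne'
        have : ℓ ∣ 1 := by
          have := (Nat.dvd_sub hdvd e)
          rwa [show q + 1 - q = 1 by omega] at this
        exact Nat.dvd_one.mp this
      · intro e
        apply hnot2
        have := (Nat.dvd_sub hdvd e)
        rwa [show q + 1 - (q - 1) = 2 by omega] at this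
    have := hD.sylow_card hcy ℓ hℓ (by rw [hc]; exact hdvd) hnd P
    rwa [hc] at this

end Cfsg.Agent.Lib.KS2.SL2
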