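import Mathlib
import Cfsg.Agent.Lib.KS2.DicSylow

set_option autoImplicit false
set_option linter.unusedSimpArgs false
set_option linter.unusedVariables false

namespace Cfsg.Agent.Lib.KS2.SL2

open Matrix
open scoped MatrixGroups

variable {F : Type*} [Field F]

/-- An element with `c² = -1` has trace zero. -/
lemma tr_zero_of_mul_self (h2 : (2 : F) ≠ 0) (c : SL(2, F)) (hc : c * c = mone) :
    (c : Matrix (Fin 2) (Fin 2) F) 1 1 = -(c : Matrix (Fin 2) (Fin 2) F) 0 0 := by
  have hd := det_rel c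
  have h00 := congrArg (fun g : SL(2, F) => (g : Matrix (Fin 2) (Fin 2) F) 0 0) hc
  have h01 := congrArg (fun g : SL(2, F) => (g : Matrix (Fin 2) (Fin 2) F) 0 1) hc
  have h10 := congrArg (fun g : SL(2, F) => (g : Matrix (Fin 2) (Fin 2) F) 1 0) hc
  have h11 := congrArg (fun g : SL(2, F) => (g : Matrix (Fin 2) (Fin 2) F) 1 1) hc
  simp only [mul00, mul01, mul10, mul11, sc00, sc01, sc10, sc11] at h00 h01 h10 h11
  set a := (c : Matrix (Fin 2) (Fin 2) F) 0 0
  set b := (c : Matrix (Fin 2) (Fin 2) F) 0 1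
  set e := (c : Matrix (Fin 2) (Fin 2) F) 1 0
  set d := (c : Matrix (Fin 2) (Fin 2) F) 1 1
  by_contra hne
  have hs : a + d ≠ 0 := fun h => hne (by linear_combination h)
  have hb : b = 0 := by
    have : b * (a + d) = 0 := by linear_combination h01
    exact (mul_eq_zero.mp this).resolve_right hs
  have he : e = 0 := by
    have : e * (a + d) = 0 := by linear_combination h10
    exact (mul_eq_zero.mp this).resolve_right hs
  have ha : a * (a + d) = 0 := by
    linear_combination h00 + hd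
  have hd' : d * (a + d) = 0 := by
    linear_combination h11 + hd
  have ha0 := (mul_eq_zero.mp ha).resolve_right hs
  have hd0 := (mul_eq_zero.mp hd').resolve_right hs
  apply hs
  rw [ha0, hd0]; ring

/-- The quaternion element `(-1 + c + w + c w) / 2` -/
noncomputable def quatY (h2 : (2 : F) ≠ 0) (c w : SL(2, F)) (hc : c * c = mone) (hw : w * w = mone)
    (hcw : w * c = mone * (c * w)) : SL(2, F) :=
  mk (((-1 : F) + (c : Matrix (Fin 2) (Fin 2) F) 0 0 + (w : Matrix (Fin 2) (Fin 2) F) 0 0 +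
        ((c * w : SL(2, F)) : Matrix (Fin 2) (Fin 2) F) 0 0) / 2)
     (((c : Matrix (Fin 2) (Fin 2) F) 0 1 + (w : Matrix (Fin 2) (Fin 2) F) 0 1 +
        ((c * w : SL(2, F)) : Matrix (Fin 2) (Fin 2) F) 0 1) / 2)
     (((c : Matrix (Fin 2) (Fin 2) F) 1 0 + (w : Matrix (Fin 2) (Fin 2) F) 1 0 +
        ((c * w : SL(2, F)) : Matrix (Fin 2) (Fin 2) F) 1 0) / 2)
     (((-1 : F) + (c : Matrix (Fin 2) (Fin 2) F) 1 1 + (w : Matrix (Fin 2) (Fin 2) F) 1 1 +
        ((c * w : SL(2, F)) : Matrix (Fin 2) (Fin 2) F) 1 1) / 2)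
     (by
      have d1 := det_rel c
      have d2 := det_rel w
      have t1 := tr_zero_of_mul_self h2 c hc
      have t2 := tr_zero_of_mul_self h2 w hw
      have h3 := congrArg (fun g : SL(2, F) => (g : Matrix (Fin 2) (Fin 2) F) 0 0) hcw
      simp only [mul00, mul01, mul10, mul11, sc00, sc01, sc10, sc11, t1, t2] at d1 d2 h3 ⊢
      generalize (c : Matrix (Fin 2) (Fin 2) F) 0 0 = a at *
      generalize (c : Matrix (Fin 2) (Fin 2) F) 0 1 = b at *
      generalize (c : Matrix (Fin 2) (Fin 2) F) 1 0 = e at *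
      generalize (w : Matrix (Fin 2) (Fin 2) F) 0 0 = r at *
      generalize (w : Matrix (Fin 2) (Fin 2) F) 0 1 = s at *
      generalize (w : Matrix (Fin 2) (Fin 2) F) 1 0 = t at *
      field_simp
      grind)

section quat

variable (h2 : (2 : F) ≠ 0) (c w : SL(2, F)) (hc : c * c = mone) (hw : w * w = mone)
    (hcw : w * c = mone * (c * w))
include h2 hc hw hcw

lemma quatY_conj1 : quatY h2 c w hc hw hcw * c = (c * w) * quatY h2 c w hc hw hcw := by
  have d1 := det_rel c
  have d2 := det_rel w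
  have t1 := tr_zero_of_mul_self h2 c hc
  have t2 := tr_zero_of_mul_self h2 w hw
  have h3 := congrArg (fun g : SL(2, F) => (g : Matrix (Fin 2) (Fin 2) F) 0 0) hcw
  apply ext4 <;>
  simp only [quatY, mk00, mk01, mk10, mk11, mul00, mul01, mul10, mul11, sc00, sc01, sc10, sc11, t1, t2] at d1 d2 h3 ⊢ <;>
  (generalize (c : Matrix (Fin 2) (Fin 2) F) 0 0 = a at *
   generalize (c : Matrix (Fin 2) (Fin 2) F) 0 1 = b at *
   generalize (c : Matrix (Fin 2) (Fin 2) F) 1 0 = e at *
   generalize (w : Matrix (Fin 2) (Fin 2) F) 0 0 = r at *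
   generalize (w : Matrix (Fin 2) (Fin 2) F) 0 1 = s at *
   generalize (w : Matrix (Fin 2) (Fin 2) F) 1 0 = t at *
   field_simp
   grind)

lemma quatY_conj2 : quatY h2 c w hc hw hcw * (c * w) = w * quatY h2 c w hc hw hcw := by
  have d1 := det_rel c
  have d2 := det_rel w
  have t1 := tr_zero_of_mul_self h2 c hc
  have t2 := tr_zero_of_mul_self h2 w hw
  have h3 := congrArg (fun g : SL(2, F) => (g : Matrix (Fin 2) (Fin 2) F) 0 0) hcw
  apply ext4 <;>
  simp only [quatY, mk00, mk01, mk10, mk11, mul00, mul01, mul10, mul11, sc00, sc01, sc10, sc11, t1, t2] at d1 d2 h3 ⊢ <;>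
  (generalize (c : Matrix (Fin 2) (Fin 2) F) 0 0 = a at *
   generalize (c : Matrix (Fin 2) (Fin 2) F) 0 1 = b at *
   generalize (c : Matrix (Fin 2) (Fin 2) F) 1 0 = e at *
   generalize (w : Matrix (Fin 2) (Fin 2) F) 0 0 = r at *
   generalize (w : Matrix (Fin 2) (Fin 2) F) 0 1 = s at *
   generalize (w : Matrix (Fin 2) (Fin 2) F) 1 0 = t at *
   field_simp
   grind)

lemma quatY_conj3 : quatY h2 c w hc hw hcw * w = c * quatY h2 c w hc hw hcw := by
  have d1 := det_rel c
  have d2 := det_rel w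
  have t1 := tr_zero_of_mul_self h2 c hc
  have t2 := tr_zero_of_mul_self h2 w hw
  have h3 := congrArg (fun g : SL(2, F) => (g : Matrix (Fin 2) (Fin 2) F) 0 0) hcw
  apply ext4 <;>
  simp only [quatY, mk00, mk01, mk10, mk11, mul00, mul01, mul10, mul11, sc00, sc01, sc10, sc11, t1, t2] at d1 d2 h3 ⊢ <;>
  (generalize (c : Matrix (Fin 2) (Fin 2) F) 0 0 = a at *
   generalize (c : Matrix (Fin 2) (Fin 2) F) 0 1 = b at *
   generalize (c : Matrix (Fin 2) (Fin 2) F) 1 0 = e at *
   generalize (w : Matrix (Fin 2) (Fin 2) F) 0 0 = r at *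
   generalize (w : Matrix (Fin 2) (Fin 2) F) 0 1 = s at *
   generalize (w : Matrix (Fin 2) (Fin 2) F) 1 0 = t at *
   field_simp
   grind)

lemma quatY_tr : tr (quatY h2 c w hc hw hcw) = -1 := by
  have d1 := det_rel c
  have d2 := det_rel w
  have t1 := tr_zero_of_mul_self h2 c hc
  have t2 := tr_zero_of_mul_self h2 w hw
  have h3 := congrArg (fun g : SL(2, F) => (g : Matrix (Fin 2) (Fin 2) F) 0 0) hcw
  simp only [tr, quatY, mk00, mk01, mk10, mk11, mul00, mul01, mul10, mul11, sc00, sc01, sc10, sc11, t1, t2] at d1 d2 h3 ⊢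
  generalize (c : Matrix (Fin 2) (Fin 2) F) 0 0 = a at *
  generalize (c : Matrix (Fin 2) (Fin 2) F) 0 1 = b at *
  generalize (c : Matrix (Fin 2) (Fin 2) F) 1 0 = e at *
  generalize (w : Matrix (Fin 2) (Fin 2) F) 0 0 = r at *
  generalize (w : Matrix (Fin 2) (Fin 2) F) 0 1 = s at *
  generalize (w : Matrix (Fin 2) (Fin 2) F) 1 0 = t at *
  field_simp
  grind

lemma quatY_ne_one : quatY h2 c w hc hw hcw ≠ 1 := by
  intro hy
  have d1 := det_rel c
  have d2 := det_rel w
  have t1 := tr_zero_of_mul_self h2 c hc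
  have t2 := tr_zero_of_mul_self h2 w hw
  have h3 := congrArg (fun g : SL(2, F) => (g : Matrix (Fin 2) (Fin 2) F) 0 0) hcw
  have y00 := congrArg (fun g : SL(2, F) => (g : Matrix (Fin 2) (Fin 2) F) 0 0) hy
  have y01 := congrArg (fun g : SL(2, F) => (g : Matrix (Fin 2) (Fin 2) F) 0 1) hy
  have y10 := congrArg (fun g : SL(2, F) => (g : Matrix (Fin 2) (Fin 2) F) 1 0) hy
  have y11 := congrArg (fun g : SL(2, F) => (g : Matrix (Fin 2) (Fin 2) F) 1 1) hy
  simp only [quatY, mk00, mk01, mk10, mk11, mul00, mul01, mul10, mul11, sc00, sc01, sc10, sc11, t1, t2, one00, one01, one10, one11] at d1 d2 h3 y00 y01 y10 y11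
  generalize (c : Matrix (Fin 2) (Fin 2) F) 0 0 = a at *
  generalize (c : Matrix (Fin 2) (Fin 2) F) 0 1 = b at *
  generalize (c : Matrix (Fin 2) (Fin 2) F) 1 0 = e at *
  generalize (w : Matrix (Fin 2) (Fin 2) F) 0 0 = r at *
  generalize (w : Matrix (Fin 2) (Fin 2) F) 0 1 = s at *
  generalize (w : Matrix (Fin 2) (Fin 2) F) 1 0 = t at *
  field_simp at y00 y01 y10 y11
  apply h2
  grind

end quat

/-- An element of trace `-1` has order dividing `3`. -/
lemma cube_of_tr (g : SL(2, F)) (hg : tr g = -1) : g ^ 3 = 1 := by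
  have hd := det_rel g
  have ht : (g : Matrix (Fin 2) (Fin 2) F) 1 1 = -1 - (g : Matrix (Fin 2) (Fin 2) F) 0 0 := by
    simp only [tr] at hg; linear_combination hg
  rw [pow_succ, pow_succ, pow_one]
  rw [ht] at hd
  apply ext4 <;> simp only [mul00, mul01, mul10, mul11, ht, one00, one01, one10, one11] <;> grind

end Cfsg.Agent.Lib.KS2.SL2
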