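import Mathlib
import Cfsg.Agent.Lib.KS2.QuatSL2

set_option autoImplicit false
set_option linter.unusedSimpArgs false
set_option linter.unusedVariables false

namespace Cfsg.Agent.Lib.KS2.SL2

open Matrix
open scoped MatrixGroups

variable {F : Type*} [Field F]

/-- The data of a 2-part of a dicyclic configuration. -/
structure QData (T : Subgroup SL(2, F)) (w : SL(2, F)) (Q : Subgroup SL(2, F)) : Prop where
  dic : IsDic T w
  le : Q ≤ T
  two : IsPGroup 2 Q
  max : ∀ t ∈ T, ∀ k : ℕ, t ^ (2 ^ k) = 1 → t ∈ Q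

namespace QData

variable {T : Subgroup SL(2, F)} {w : SL(2, F)} {Q : Subgroup SL(2, F)}

lemma mone_mem (h : QData T w Q) : mone ∈ Q :=
  h.max _ h.dic.neg_mem 1 (by rw [pow_one, sq]; exact mone_mul_self)

/-- The generalized quaternion group `Q ∪ wQ`. -/
def S (h : QData T w Q) : Subgroup SL(2, F) where
  carrier := {g | g ∈ Q ∨ w⁻¹ * g ∈ Q}
  one_mem' := Or.inl Q.one_mem
  mul_mem' := by
    rintro a b (ha | ha) (hb | hb)
    · exact Or.inl (Q.mul_mem ha hb)
    · right
      have e := h.dic.wt' a (h.le ha)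
      have : w⁻¹ * (a * b) = (w⁻¹ * a * w) * (w⁻¹ * b) := by group
      rw [this, e]
      exact Q.mul_mem (Q.inv_mem ha) hb
    · right
      have : w⁻¹ * (a * b) = (w⁻¹ * a) * b := by group
      rw [this]
      exact Q.mul_mem ha hb
    · left
      set α := w⁻¹ * a with hα
      set β := w⁻¹ * b with hβ
      have ha' : a = w * α := by rw [hα]; group
      have hb' : b = w * β := by rw [hβ]; group
      have : a * b = (w * α * w⁻¹) * (w * w) * β := by rw [ha', hb']; group
      rw [this, h.dic.wt α (h.le ha), h.dic.ww]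
      exact Q.mul_mem (Q.mul_mem (Q.inv_mem ha) h.mone_mem) hb
  inv_mem' := by
    rintro a (ha | ha)
    · exact Or.inl (Q.inv_mem ha)
    · right
      set α := w⁻¹ * a with hα
      have ha' : a = w * α := by rw [hα]; group
      have hww : w⁻¹ * w⁻¹ = mone := by
        have h1 : (w * w) * (w⁻¹ * w⁻¹) = 1 := by group
        rw [h.dic.ww] at h1
        have h2 := mone_mul_self (F := F)
        exact (mul_left_cancel (h1.trans h2.symm))
      have e := h.dic.wt' α⁻¹ (T.inv_mem (h.le ha))
      rw [inv_inv] at e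
      have : w⁻¹ * a⁻¹ = (w⁻¹ * α⁻¹ * w) * (w⁻¹ * w⁻¹) := by rw [ha']; group
      rw [this, e, hww]
      exact Q.mul_mem ha h.mone_mem

lemma mem_S (h : QData T w Q) {g : SL(2, F)} : g ∈ h.S ↔ g ∈ Q ∨ w⁻¹ * g ∈ Q := Iff.rfl

lemma le_S (h : QData T w Q) : Q ≤ h.S := fun _ hg => Or.inl hg

lemma w_mem (h : QData T w Q) : w ∈ h.S := Or.inr (by simpa using Q.one_mem)

lemma mem_of_mem_S_T (h : QData T w Q) {g : SL(2, F)} (hg : g ∈ h.S) (hT : g ∈ T) : g ∈ Q := by
  rcases hg with hg | hg
  · exact hg
  · exfalso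
    apply h.dic.wT
    have h1 := T.mul_mem (h.le hg) (T.inv_mem hT)
    have : w⁻¹ * g * g⁻¹ = w⁻¹ := by group
    rw [this] at h1
    simpa using T.inv_mem h1

lemma card_S (h : QData T w Q) [Finite F] : Nat.card h.S = 2 * Nat.card Q := by
  classical
  have : Fintype F := Fintype.ofFinite F
  rw [Nat.card_eq_fintype_card, Nat.card_eq_fintype_card, Fintype.card_subtype, Fintype.card_subtype]
  have e : Finset.univ.filter (fun g => g ∈ h.S) =
      Finset.univ.filter (fun g => g ∈ Q) ∪ (Finset.univ.filter (fun g => g ∈ Q)).image (fun t => w * t) := by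
    ext g
    simp only [Finset.mem_filter, Finset.mem_univ, true_and, Finset.mem_union, Finset.mem_image]
    rw [mem_S]
    constructor
    · rintro (h1 | h1)
      · exact Or.inl h1
      · exact Or.inr ⟨_, h1, by group⟩
    · rintro (h1 | ⟨t, ht, rfl⟩)
      · exact Or.inl h1
      · right
        simpa using ht
  rw [e, Finset.card_union_of_disjoint, Finset.card_image_of_injective _ (mul_right_injective w)]
  · ring
  · rw [Finset.disjoint_left]
    intro g hg hg2
    simp only [Finset.mem_filter, Finset.mem_univ, true_and, Finset.mem_image] at hg hg2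
    obtain ⟨t, ht, rfl⟩ := hg2
    apply h.dic.wT
    have := T.mul_mem (h.le hg) (T.inv_mem (h.le ht))
    simpa using this

lemma isPGroup_S (h : QData T w Q) [Finite F] : IsPGroup 2 h.S := by
  obtain ⟨n, hn⟩ := (IsPGroup.iff_card (p := 2) (G := Q)).mp h.two
  rw [IsPGroup.iff_card]
  exact ⟨n + 1, by rw [h.card_S, hn]; ring⟩

lemma mul_self_of_not_mem (h : QData T w Q) {g : SL(2, F)} (hg : g ∈ h.S) (hgQ : g ∉ Q) : g * g = mone := by
  have ht := hg.resolve_left hgQ
  set t := w⁻¹ * g with htd
  have hgt : g = w * t := by rw [htd]; group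
  rw [hgt]
  calc w * t * (w * t) = (w * t * w⁻¹) * (w * w) * t := by group
    _ = t⁻¹ * mone * t := by rw [h.dic.wt t (h.le ht), h.dic.ww]
    _ = t⁻¹ * (t * mone) := by rw [mul_assoc, mone_comm]
    _ = mone := by group

/-- The centraliser of the quaternion group is the centre. -/
lemma centralizer_S (h : QData T w Q) (x : SL(2, F)) (hx : x ∈ Q) (hxs : ¬ IsScalar x) :
    Subgroup.centralizer (h.S : Set SL(2, F)) = Subgroup.center SL(2, F) := by
  apply le_antisymm
  · intro g hg
    rw [Subgroup.mem_centralizer_iff] at hg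
    rw [← isScalar_iff_center]
    have hgT : g ∈ T := h.dic.cent x (h.le hx) hxs g (hg x (h.le_S hx)).symm
    have h1 := h.dic.wt g hgT
    have h3 : w * g = g * w := (hg w h.w_mem)
    rw [h3, mul_inv_cancel_right] at h1
    apply isScalar_of_mul_self h.dic.two_ne
    nth_rewrite 1 [h1]
    simp
  · intro g hg
    rw [Subgroup.mem_centralizer_iff]
    intro y _
    exact (Subgroup.mem_center_iff.mp hg y)

/-- Elements of `N(S)` that move `x` inside `Q` lie in `S`. -/
lemma mem_S_of_normalizer (h : QData T w Q) [Finite F] (x : SL(2, F)) (hx : x ∈ Q) (hxs : ¬ IsScalar x)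
    (g : SL(2, F)) (hg : g ∈ Subgroup.normalizer (h.S : Set SL(2, F))) (hgx : g * x * g⁻¹ ∈ Q) : g ∈ h.S := by
  -- `g ∈ T` or `w⁻¹ g ∈ T`
  have hxT := h.le hx
  have hT : g ∈ T ∨ w⁻¹ * g ∈ T := by
    have htr : tr x = tr (g * x * g⁻¹) := (tr_conj g x).symm
    rcases h.dic.trig x hxT _ (h.le hgx) htr with e | e
    · left
      apply h.dic.cent x hxT hxs
      calc g * x = g * x * g⁻¹ * g := by group
        _ = x * g := by rw [e]
    · right
      apply h.dic.cent x hxT hxs
      have h1 := h.dic.wt' x⁻¹ (T.inv_mem hxT)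
      rw [inv_inv] at h1
      calc w⁻¹ * g * x = w⁻¹ * (g * x * g⁻¹) * w * (w⁻¹ * g) := by group
        _ = w⁻¹ * x⁻¹ * w * (w⁻¹ * g) := by rw [e]
        _ = x * (w⁻¹ * g) := by rw [h1]
  -- the key point for `t ∈ T ∩ N(S)`
  have key : ∀ t ∈ T, t ∈ Subgroup.normalizer (h.S : Set SL(2, F)) → t ∈ Q := by
    intro t ht htN
    rw [Subgroup.mem_normalizer_iff] at htN
    have h1 : t * w * t⁻¹ ∈ h.S := (htN w).mp h.w_mem
    have h3 : t * w * t⁻¹ = t * t * w := by
      have := h.dic.wt t⁻¹ (T.inv_mem ht)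
      rw [inv_inv] at this
      calc t * w * t⁻¹ = t * (w * t⁻¹ * w⁻¹) * w := by group
        _ = t * t * w := by rw [this]
    rw [h3] at h1
    have htt : t * t ∈ Q := by
      rcases h1 with h4 | h4
      · exfalso
        apply h.dic.wT
        have := T.mul_mem (T.inv_mem (T.mul_mem ht ht)) (h.le h4)
        have e : (t * t)⁻¹ * (t * t * w) = w := by group
        rwa [e] at this
      · have e : w⁻¹ * (t * t * w) = (t * t)⁻¹ := by
          rw [show w⁻¹ * (t * t * w) = w⁻¹ * (t * t) * w by group]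
          exact h.dic.wt' (t * t) (T.mul_mem ht ht)
        rw [e] at h4
        simpa using Q.inv_mem h4
    obtain ⟨k, hk⟩ := h.two ⟨t * t, htt⟩
    apply h.max t ht (k + 1)
    have hk' : (t * t) ^ (2 ^ k) = 1 := by simpa using congrArg Subtype.val hk
    rw [pow_succ', pow_mul, ← sq] at *
    rw [sq] at *
    simpa using hk'
  rcases hT with ht | ht
  · exact h.le_S (key g ht hg)
  · have hwN : w⁻¹ * g ∈ Subgroup.normalizer (h.S : Set SL(2, F)) :=
      Subgroup.mul_mem _ (Subgroup.inv_mem _ (Subgroup.le_normalizer h.w_mem)) hg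
    exact Or.inr (key _ ht hwN)

/-- If `8 ∣ |Q|`, then `S` is self-normalising. -/
theorem normalizer_S_of_eight (h : QData T w Q) [Finite F] (hcyc : IsCyclic Q) (h8 : 8 ∣ Nat.card Q) :
    Subgroup.normalizer (h.S : Set SL(2, F)) = h.S := by
  obtain ⟨⟨c, hc⟩, hord⟩ := IsCyclic.exists_ofOrder_eq_natCard (α := Q)
  have hord' : orderOf c = Nat.card Q := by
    rw [← hord, Subgroup.orderOf_mk]
  have hcs : ¬ IsScalar c := by
    intro hs
    have := orderOf_dvd_of_pow_eq_one (scalar_sq_eq_one c hs)
    rw [hord'] at this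
    have := h8.trans this
    omega
  apply le_antisymm
  · intro g hg
    apply h.mem_S_of_normalizer c hc hcs g hg
    by_contra hy
    have hyS : g * c * g⁻¹ ∈ h.S := ((Subgroup.mem_normalizer_iff.mp hg) c).mp (h.le_S hc)
    have h1 := h.mul_self_of_not_mem hyS hy
    have h2 : (g * c * g⁻¹) ^ 4 = 1 := by
      have h1' : (g * c * g⁻¹) ^ 2 = mone := by rw [sq]; exact h1
      rw [show 4 = 2 * 2 by norm_num, pow_mul, h1', sq]
      exact mone_mul_self
    rw [conj_pow] at h2
    have h3 : c ^ 4 = 1 := by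
      have := congrArg (fun z => g⁻¹ * z * g) h2
      simpa [mul_assoc] using this
    have h4 := orderOf_dvd_of_pow_eq_one h3
    rw [hord'] at h4
    have := h8.trans h4
    omega
  · exact Subgroup.le_normalizer

/-- If `|Q| = 4`, then `S` has index three in its normaliser. -/
theorem normalizer_S_of_four (h : QData T w Q) [Finite F] (hcyc : IsCyclic Q) (h4 : Nat.card Q = 4) :
    Nat.card (Subgroup.normalizer (h.S : Set SL(2, F))) = 3 * Nat.card h.S := by
  classical
  have : Fintype F := Fintype.ofFinite F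
  have h2F := h.dic.two_ne
  have hS8 : Nat.card h.S = 8 := by rw [h.card_S, h4]
  obtain ⟨⟨c, hc⟩, hord⟩ := IsCyclic.exists_ofOrder_eq_natCard (α := Q)
  have hord' : orderOf c = 4 := by
    rw [← h4, ← hord, Subgroup.orderOf_mk]
  have hcs : ¬ IsScalar c := by
    intro hs
    have := orderOf_dvd_of_pow_eq_one (scalar_sq_eq_one c hs)
    rw [hord'] at this
    omega
  have hcc : c * c = mone := by
    have h1 : (c * c) * (c * c) = 1 := by
      have := pow_orderOf_eq_one c
      rw [hord', show 4 = 2 + 2 from rfl, pow_add, sq] at this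
      exact this
    rcases isScalar_cases _ (isScalar_of_mul_self h2F _ h1) with e | e
    · exfalso
      have := orderOf_dvd_of_pow_eq_one (by rw [sq]; exact e : c ^ 2 = 1)
      rw [hord'] at this
      omega
    · exact e
  have hcw : w * c = mone * (c * w) := by
    have h1 := h.dic.wt c (h.le hc)
    have h3 : c⁻¹ = mone * c := by
      apply inv_eq_of_mul_eq_one_left
      rw [mul_assoc, hcc]
      exact mone_mul_self
    rw [h3] at h1
    calc w * c = w * c * w⁻¹ * w := by group
      _ = mone * c * w := by rw [h1]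
      _ = mone * (c * w) := by group
  set y := quatY h2F c w hcc h.dic.ww hcw with hy
  have hy1 := quatY_conj1 h2F c w hcc h.dic.ww hcw
  have hy2 := quatY_conj2 h2F c w hcc h.dic.ww hcw
  have hy3 := quatY_conj3 h2F c w hcc h.dic.ww hcw
  have hy0 := quatY_ne_one h2F c w hcc h.dic.ww hcw
  have hytr := quatY_tr h2F c w hcc h.dic.ww hcw
  have hy3' : y ^ 3 = 1 := cube_of_tr _ hytr
  rw [← hy] at hy1 hy2 hy3 hy0 hytr
  have hyo : orderOf y = 3 := orderOf_eq_prime hy3' hy0
  have hQgen : ∀ a ∈ Q, ∃ n : ℤ, a = c ^ n := by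
    intro a ha
    have htop : Subgroup.zpowers (⟨c, hc⟩ : Q) = ⊤ := by
      apply Subgroup.eq_top_of_card_eq
      rw [Nat.card_zpowers, hord]
    have : (⟨a, ha⟩ : Q) ∈ Subgroup.zpowers (⟨c, hc⟩ : Q) := by rw [htop]; trivial
    obtain ⟨n, hn⟩ := this
    refine ⟨n, ?_⟩
    have := congrArg Subtype.val hn
    simpa using this.symm
  have hkS : c * w ∈ h.S := h.S.mul_mem (h.le_S hc) h.w_mem
  have hconj : ∀ g ∈ h.S, y * g * y⁻¹ ∈ h.S := by
    have hc1 : y * c * y⁻¹ = c * w := by rw [hy1]; group
    have hc3 : y * w * y⁻¹ = c := by rw [hy3]; group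
    have hQ : ∀ a ∈ Q, y * a * y⁻¹ ∈ h.S := by
      intro a ha
      obtain ⟨n, rfl⟩ := hQgen a ha
      rw [← conj_zpow, hc1]
      exact h.S.zpow_mem hkS n
    rintro g (hg | hg)
    · exact hQ g hg
    · set a := w⁻¹ * g with ha
      have hga : g = w * a := by rw [ha]; group
      have : y * g * y⁻¹ = (y * w * y⁻¹) * (y * a * y⁻¹) := by rw [hga]; group
      rw [this, hc3]
      exact h.S.mul_mem (h.le_S hc) (hQ a hg)
  have hyN : y ∈ Subgroup.normalizer (h.S : Set SL(2, F)) := by
    rw [Subgroup.mem_normalizer_iff]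
    intro g
    refine ⟨hconj g, ?_⟩
    intro hg
    have h1 := hconj _ (hconj _ hg)
    have e : y * (y * (y * g * y⁻¹) * y⁻¹) * y⁻¹ = y ^ 3 * g * (y ^ 3)⁻¹ := by
      simp only [pow_succ, pow_zero, one_mul]
      group
    rw [e, hy3', one_mul, inv_one, mul_one] at h1
    exact h1
  -- divisibility
  set N := Subgroup.normalizer (h.S : Set SL(2, F)) with hN
  have hd3 : 3 ∣ Nat.card N := by
    have := orderOf_dvd_natCard (⟨y, hyN⟩ : N)
    rwa [Subgroup.orderOf_mk, hyo] at this
  have hd8 : 8 ∣ Nat.card N := by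
    have := Subgroup.card_dvd_of_le (Subgroup.le_normalizer (H := h.S))
    rwa [hS8] at this
  have hd24 : 24 ∣ Nat.card N := by
    have : Nat.Coprime 3 8 := by norm_num
    exact this.mul_dvd_of_dvd_of_dvd hd3 hd8
  -- upper bound
  have hub : Nat.card N ≤ 24 := by
    rw [Nat.card_eq_fintype_card, Fintype.card_subtype]
    set Nf := Finset.univ.filter (fun g => g ∈ N) with hNf
    let f : SL(2, F) → SL(2, F) := fun g => g * c * g⁻¹
    have himg : (Nf.image f) ⊆ ((Finset.univ.filter (fun g => g ∈ h.S)).erase 1).erase mone := by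
      intro a ha
      obtain ⟨g, hg, rfl⟩ := Finset.mem_image.mp ha
      simp only [Finset.mem_erase, Finset.mem_filter, Finset.mem_univ, true_and, hNf] at hg ⊢
      have hcne : ∀ z : SL(2, F), IsScalar z → f g ≠ z := by
        intro z hz e
        apply hcs
        have : c = g⁻¹ * z * g := by
          rw [← e]; simp only [f]; group
        rw [this]
        have := isScalar_conj (c := g⁻¹) hz
        simpa using this
      refine ⟨hcne _ isScalar_mone, hcne _ isScalar_one, ((Subgroup.mem_normalizer_iff.mp hg) c).mp (h.le_S hc)⟩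
    have hcardX : (((Finset.univ.filter (fun g => g ∈ h.S)).erase 1).erase mone).card = 6 := by
      rw [Finset.card_erase_of_mem, Finset.card_erase_of_mem]
      · have : (Finset.univ.filter (fun g => g ∈ h.S)).card = 8 := by
          rw [← hS8, Nat.card_eq_fintype_card, Fintype.card_subtype]
        omega
      · simp [h.S.one_mem]
      · simp only [Finset.mem_erase, Finset.mem_filter, Finset.mem_univ, true_and]
        exact ⟨mone_ne_one h2F, h.le_S h.mone_mem⟩
    have himgc : (Nf.image f).card ≤ 6 := by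
      rw [← hcardX]; exact Finset.card_le_card himg
    have hfib : ∀ a ∈ Nf.image f, (Nf.filter (fun g => f g = a)).card ≤ 4 := by
      intro a ha
      obtain ⟨g₀, hg₀, rfl⟩ := Finset.mem_image.mp ha
      have hg₀N : g₀ ∈ N := by simpa [hNf] using hg₀
      have hQc : (Finset.univ.filter (fun g => g ∈ Q)).card = 4 := by
        rw [← h4, Nat.card_eq_fintype_card, Fintype.card_subtype]
      rw [← hQc]
      apply Finset.card_le_card_of_injOn (fun g => g₀⁻¹ * g)
      · intro g hg
        simp only [Finset.coe_filter, Set.mem_ofPred_eq, Finset.mem_filter, hNf, Finset.mem_univ, true_and] at hg ⊢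
        obtain ⟨hgN, hfg⟩ := hg
        have hkN : g₀⁻¹ * g ∈ N := N.mul_mem (N.inv_mem hg₀N) hgN
        have hcomm : (g₀⁻¹ * g) * c = c * (g₀⁻¹ * g) := by
          simp only [f] at hfg
          calc (g₀⁻¹ * g) * c = g₀⁻¹ * (g * c * g⁻¹) * g := by group
            _ = g₀⁻¹ * (g₀ * c * g₀⁻¹) * g := by rw [hfg]
            _ = c * (g₀⁻¹ * g) := by group
        have hT : g₀⁻¹ * g ∈ T := h.dic.cent c (h.le hc) hcs _ hcomm
        have hSm : g₀⁻¹ * g ∈ h.S := by
          apply h.mem_S_of_normalizer c hc hcs _ hkN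
          rw [hcomm, mul_inv_cancel_right]
          exact hc
        exact h.mem_of_mem_S_T hSm hT
      · intro a _ b _ hab
        exact mul_left_cancel hab
    have := Finset.card_le_mul_card_image (f := f) Nf 4 hfib
    calc Nf.card ≤ 4 * (Nf.image f).card := this
      _ ≤ 4 * 6 := by gcongr
      _ = 24 := by norm_num
  rw [hS8]
  have hpos : 0 < Nat.card N := Nat.card_pos
  have := Nat.le_of_dvd hpos hd24
  omega

end QData

/-- The complete analysis for Sylow 2-subgroups, given a cyclic dicyclic configuration. -/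
theorem sylow2_main {T : Subgroup SL(2, F)} {w : SL(2, F)} [Finite F] (hD : IsDic T w) (hcyc : IsCyclic T)
    (h4 : 4 ∣ Nat.card T) (hidx : ¬ 4 ∣ T.index) (P : Sylow 2 SL(2, F)) :
    Subgroup.centralizer ((P : Subgroup SL(2, F)) : Set SL(2, F)) = Subgroup.center SL(2, F) ∧
    (8 ∣ Nat.card T → Subgroup.normalizer ((P : Subgroup SL(2, F)) : Set SL(2, F)) = (P : Subgroup SL(2, F))) ∧
    (¬ 8 ∣ Nat.card T → Nat.card (Subgroup.normalizer ((P : Subgroup SL(2, F)) : Set SL(2, F))) =
      3 * Nat.card (P : Subgroup SL(2, F))) := by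
  classical
  have hf2 : Fact (Nat.Prime 2) := ⟨Nat.prime_two⟩
  obtain ⟨Q₀⟩ : Nonempty (Sylow 2 T) := inferInstance
  set Q := (Q₀ : Subgroup T).map T.subtype with hQ
  have hQcard : Nat.card Q = Nat.card Q₀ :=
    (Nat.card_congr (Subgroup.equivMapOfInjective (Q₀ : Subgroup T) T.subtype T.subtype_injective).toEquiv).symm
  have hQmul : Nat.card Q₀ * (Q₀ : Subgroup T).index = Nat.card T := Subgroup.card_mul_index _
  have hQodd : ¬ 2 ∣ (Q₀ : Subgroup T).index := Q₀.not_dvd_index
  have hQ4 : 4 ∣ Nat.card Q := by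
    rw [hQcard]
    have hco : Nat.Coprime 4 (Q₀ : Subgroup T).index :=
      (Nat.Coprime.pow_left 2 ((Nat.Prime.coprime_iff_not_dvd Nat.prime_two).mpr hQodd))
    rw [← hQmul] at h4
    exact hco.dvd_of_dvd_mul_right h4
  have hData : QData T w Q := by
    refine ⟨hD, Subgroup.map_subtype_le _, Q₀.isPGroup'.map _, ?_⟩
    intro t ht k htk
    have hnorm : Subgroup.zpowers (⟨t, ht⟩ : T) ≤ Subgroup.normalizer ((Q₀ : Subgroup T) : Set T) := by
      intro y _
      rw [Subgroup.mem_normalizer_iff]
      intro z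
      have : y * z * y⁻¹ = z := by
        apply Subtype.ext
        have := hD.comm y.1 y.2 z.1 z.2
        simp only [Subgroup.coe_mul, Subgroup.coe_inv]
        rw [this, mul_inv_cancel_right]
      rw [this]
    have hp : IsPGroup 2 (Subgroup.zpowers (⟨t, ht⟩ : T)) := by
      rintro ⟨_, n, rfl⟩
      refine ⟨k, ?_⟩
      apply Subtype.ext
      show ((⟨t, ht⟩ : T) ^ n) ^ (2 ^ k) = 1
      have h1 : (⟨t, ht⟩ : T) ^ (2 ^ k) = 1 := Subtype.ext htk
      rw [← zpow_natCast, ← _root_.zpow_mul, mul_comm, _root_.zpow_mul, zpow_natCast, h1, _root_.one_zpow]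
    have hsup := IsPGroup.to_sup_of_normal_left' Q₀.isPGroup' hp hnorm
    have hmax := Q₀.is_maximal' hsup le_sup_left
    have hmem : (⟨t, ht⟩ : T) ∈ (Q₀ : Subgroup T) := by
      rw [← hmax]
      exact Subgroup.mem_sup_right (Subgroup.mem_zpowers _)
    exact ⟨_, hmem, rfl⟩
  have hQcyc : IsCyclic Q := by
    have : IsCyclic (Q₀ : Subgroup T) := inferInstance
    exact (Subgroup.equivMapOfInjective (Q₀ : Subgroup T) T.subtype T.subtype_injective).isCyclic.mp this
  -- `S` is Sylow
  have hSi : ¬ 2 ∣ hData.S.index := by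
    intro hdvd
    apply hidx
    have h1 := Subgroup.card_mul_index hData.S
    have h3 := Subgroup.card_mul_index T
    rw [hData.card_S, hQcard] at h1
    rw [← hQmul, ← h1] at h3
    have hpos : 0 < Nat.card Q₀ := Nat.card_pos
    have h5 : (Q₀ : Subgroup T).index * T.index = 2 * hData.S.index := by
      apply Nat.eq_of_mul_eq_mul_left hpos
      calc Nat.card Q₀ * ((Q₀ : Subgroup T).index * T.index) = Nat.card Q₀ * (Q₀ : Subgroup T).index * T.index := by ring
        _ = 2 * Nat.card Q₀ * hData.S.index := h3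
        _ = _ := by ring
    have h6 : 4 ∣ (Q₀ : Subgroup T).index * T.index := by
      rw [h5]
      obtain ⟨m, hm⟩ := hdvd
      exact ⟨m, by rw [hm]; ring⟩
    have hco : Nat.Coprime 4 (Q₀ : Subgroup T).index :=
      (Nat.Coprime.pow_left 2 ((Nat.Prime.coprime_iff_not_dvd Nat.prime_two).mpr hQodd))
    exact hco.dvd_of_dvd_mul_left h6
  let S₀ : Sylow 2 SL(2, F) := hData.isPGroup_S.toSylow hSi
  obtain ⟨g, hg⟩ := MulAction.exists_smul_eq SL(2, F) S₀ P
  have hPS : (P : Subgroup SL(2, F)) = hData.S.map (MulAut.conj g).toMonoidHom := by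
    rw [← hg]
    ext z
    rw [Sylow.coe_subgroup_smul, Subgroup.mem_pointwise_smul_iff_inv_smul_mem]
    constructor
    · intro hz
      refine ⟨_, hz, ?_⟩
      simp [MulAut.smul_def, MulAut.conj_inv_apply, mul_assoc]
    · rintro ⟨a, ha, rfl⟩
      have : (MulAut.conj g)⁻¹ • ((MulAut.conj g).toMonoidHom a) = a := by
        simp [MulAut.smul_def, MulAut.conj_inv_apply, mul_assoc]
      rw [this]
      exact ha
  have hNP : Subgroup.normalizer ((P : Subgroup SL(2, F)) : Set SL(2, F)) =
      (Subgroup.normalizer (hData.S : Set SL(2, F))).map (MulAut.conj g).toMonoidHom := by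
    rw [hPS]
    exact (Subgroup.map_equiv_normalizer_eq hData.S (MulAut.conj g)).symm
  have hinj : Function.Injective (MulAut.conj g).toMonoidHom := (MulAut.conj g).injective
  obtain ⟨x, hx, hxs⟩ : ∃ x ∈ Q, ¬ IsScalar x := by
    apply exists_nonscalar_of_card
    have := Nat.le_of_dvd Nat.card_pos hQ4
    omega
  refine ⟨?_, ?_, ?_⟩
  · have hC := hData.centralizer_S x hx hxs
    apply le_antisymm
    · intro y hy
      rw [Subgroup.mem_centralizer_iff] at hy
      have hmem : g⁻¹ * y * g ∈ Subgroup.centralizer (hData.S : Set SL(2, F)) := by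
        rw [Subgroup.mem_centralizer_iff]
        intro z hz
        have hz' : g * z * g⁻¹ ∈ (P : Subgroup SL(2, F)) := by
          rw [hPS]
          exact ⟨z, hz, rfl⟩
        have := hy _ hz'
        calc z * (g⁻¹ * y * g) = g⁻¹ * ((g * z * g⁻¹) * y) * g := by group
          _ = g⁻¹ * (y * (g * z * g⁻¹)) * g := by rw [this]
          _ = g⁻¹ * y * g * z := by group
      rw [hC, ← isScalar_iff_center] at hmem
      rw [← isScalar_iff_center]
      have := isScalar_conj (c := g) hmem
      simpa [mul_assoc] using this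
    · intro y hy
      rw [Subgroup.mem_centralizer_iff]
      intro z _
      exact (Subgroup.mem_center_iff.mp hy z)
  · intro h8
    have h8Q : 8 ∣ Nat.card Q := by
      rw [hQcard]
      have hco : Nat.Coprime 8 (Q₀ : Subgroup T).index :=
        (Nat.Coprime.pow_left 3 ((Nat.Prime.coprime_iff_not_dvd Nat.prime_two).mpr hQodd))
      rw [← hQmul] at h8
      exact hco.dvd_of_dvd_mul_right h8
    rw [hNP, hData.normalizer_S_of_eight hQcyc h8Q, ← hPS]
  · intro h8
    have hQ4' : Nat.card Q = 4 := by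
      obtain ⟨n, hn⟩ := (IsPGroup.iff_card (p := 2) (G := Q)).mp hData.two
      rw [hn] at hQ4 ⊢
      have hn2 : 2 ≤ n := by
        by_contra hlt
        have : n = 0 ∨ n = 1 := by omega
        rcases this with rfl | rfl <;> omega
      have hn3 : n < 3 := by
        by_contra hge
        apply h8
        have h1 : (2 : ℕ) ^ 3 ∣ 2 ^ n := pow_dvd_pow 2 (by omega)
        have h3 : (2 : ℕ) ^ n ∣ Nat.card T := by
          rw [← hn, hQcard, ← hQmul]
          exact dvd_mul_right _ _
        exact h1.trans h3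
      have : n = 2 := by omega
      rw [this]; norm_num
    have e1 : Nat.card ((Subgroup.normalizer (hData.S : Set SL(2, F))).map (MulAut.conj g).toMonoidHom) =
        Nat.card (Subgroup.normalizer (hData.S : Set SL(2, F))) :=
      (Nat.card_congr (Subgroup.equivMapOfInjective _ _ hinj).toEquiv).symm
    have e2 : Nat.card (hData.S.map (MulAut.conj g).toMonoidHom) = Nat.card hData.S :=
      (Nat.card_congr (Subgroup.equivMapOfInjective _ _ hinj).toEquiv).symm
    rw [hNP, e1, hPS, e2]
    exact hData.normalizer_S_of_four hQcyc hQ4'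

/-- `S2431` -/
theorem sylow2_odd_main [Fintype F] (hodd : Odd (Fintype.card F)) (S : Sylow 2 (Matrix.SpecialLinearGroup (Fin 2) F)) :
    Subgroup.centralizer ((S : Subgroup (Matrix.SpecialLinearGroup (Fin 2) F)) : Set (Matrix.SpecialLinearGroup (Fin 2) F)) = Subgroup.center (Matrix.SpecialLinearGroup (Fin 2) F) ∧
    ((Fintype.card F % 8 = 1 ∨ Fintype.card F % 8 = 7) →
      Subgroup.normalizer ((S : Subgroup (Matrix.SpecialLinearGroup (Fin 2) F)) : Set (Matrix.SpecialLinearGroup (Fin 2) F)) = (S : Subgroup (Matrix.SpecialLinearGroup (Fin 2) F))) ∧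
    ((Fintype.card F % 8 = 3 ∨ Fintype.card F % 8 = 5) →
      Nat.card (Subgroup.normalizer ((S : Subgroup (Matrix.SpecialLinearGroup (Fin 2) F)) : Set (Matrix.SpecialLinearGroup (Fin 2) F))) = 3 * Nat.card S) := by
  have h2 := two_ne_zero_of_odd hodd
  set q := Fintype.card F with hq
  have hq2 : 2 ≤ q := Fintype.one_lt_card
  have hcardG : Nat.card SL(2, F) = q * (q - 1) * (q + 1) := by
    rw [card_SL2]
    have key : ∀ q : ℕ, 2 ≤ q → q * (q ^ 2 - 1) = q * (q - 1) * (q + 1) := by
      intro q hq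
      obtain ⟨k, rfl⟩ : ∃ k, q = k + 1 := ⟨q - 1, by omega⟩
      simp only [Nat.add_sub_cancel]
      have : (k + 1) ^ 2 - 1 = k * (k + 1 + 1) := by
        have : (k + 1) ^ 2 = k * (k + 1 + 1) + 1 := by ring
        omega
      rw [this]; ring
    exact key q hq2
  obtain ⟨k, hk⟩ := hodd
  by_cases h14 : q % 4 = 1
  · -- split torus
    have hc := card_dtor (F := F)
    have hidx : (dtor F).index = q * (q + 1) := by
      have h1 := Subgroup.card_mul_index (dtor F)
      rw [hc, hcardG] at h1
      have : (q - 1) * (dtor F).index = (q - 1) * (q * (q + 1)) := by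
        rw [h1]; ring
      exact Nat.eq_of_mul_eq_mul_left (by omega) this
    have hni : ¬ 4 ∣ (dtor F).index := by
      rw [hidx]
      intro hd
      have h5 : (q * (q + 1)) % 4 = 0 := Nat.mod_eq_zero_of_dvd hd
      rw [Nat.mul_mod, Nat.add_mod, h14] at h5
      norm_num at h5
    obtain ⟨hC, hN1, hN2⟩ := sylow2_main (isDic_dtor h2) isCyclic_dtor (by rw [hc]; omega) hni S
    refine ⟨hC, ?_, ?_⟩
    · intro h8
      exact hN1 (by rw [hc]; omega)
    · intro h8
      exact hN2 (by rw [hc]; omega)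
  · have h2r : ringChar F ≠ 2 := by
      intro h
      have := FiniteField.even_card_of_char_two h
      omega
    have h34 : q % 4 = 3 := by omega
    obtain ⟨a, r, s, ha, hrs, hf, hD⟩ := exists_nonsplit (F := F) h2r
    have hc := card_torus 0 (-a) hf
    have hidx : (torus 0 (-a)).index = q * (q - 1) := by
      have h1 := Subgroup.card_mul_index (torus 0 (-a))
      rw [hc, hcardG] at h1
      have : (q + 1) * (torus 0 (-a)).index = (q + 1) * (q * (q - 1)) := by
        rw [h1]; ring
      exact Nat.eq_of_mul_eq_mul_left (by omega) this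
    have hni : ¬ 4 ∣ (torus 0 (-a)).index := by
      rw [hidx]
      intro hd
      obtain ⟨m, hm⟩ : ∃ m, q = 4 * m + 3 := ⟨q / 4, by omega⟩
      have h5 : q * (q - 1) = 4 * (4 * m * m + 5 * m + 1) + 2 := by
        rw [hm, show 4 * m + 3 - 1 = 4 * m + 2 by omega]; ring
      rw [h5] at hd
      omega
    obtain ⟨hC, hN1, hN2⟩ := sylow2_main hD (torus_isCyclic 0 (-a) hf) (by rw [hc]; omega) hni S
    refine ⟨hC, ?_, ?_⟩
    · intro h8
      exact hN1 (by rw [hc]; omega)
    · intro h8
      exact hN2 (by rw [hc]; omega)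

end Cfsg.Agent.Lib.KS2.SL2
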