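import Mathlib
import Cfsg.Agent.Lib.Char.Constituent
import Cfsg.Agent.Lib.Char.Burnside

set_option autoImplicit false
set_option linter.unusedSimpArgs false
set_option linter.unusedVariables false
set_option linter.unusedSectionVars false

namespace Cfsg.Agent.Lib.KS2.RK

open Cfsg Cfsg.Agent.Lib.Char Module
open scoped ComplexConjugate

universe u

variable {G : Type u} [Group G] [Fintype G]

/-- A generalized character of norm two is a signed sum of two different irreducible characters. -/
theorem norm_two_gen {θ : G → ℂ} (h : IsGeneralizedCharacter G θ) (hn : classInner θ θ = 2) :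
    ∃ (a b : IrrCharacter G) (s t : ℤ), a ≠ b ∧ (s = 1 ∨ s = -1) ∧ (t = 1 ∨ t = -1) ∧
      θ = (s : ℂ) • (a : G → ℂ) + (t : ℂ) • (b : G → ℂ) := by
  classical
  obtain ⟨c, rfl⟩ := generalized_eq_sum h
  rw [classInner_self_eq_sum_int] at hn
  have h1 : ∑ χ, c χ ^ 2 = 2 := by exact_mod_cast hn
  obtain ⟨a, ha⟩ : ∃ a, c a ≠ 0 := by
    by_contra hcon
    push Not at hcon
    simp [hcon] at h1
  have hpos : ∀ χ, 0 ≤ c χ ^ 2 := fun χ => sq_nonneg _
  obtain ⟨b, hab, hb⟩ : ∃ b, b ≠ a ∧ c b ≠ 0 := by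
    by_contra hcon
    push Not at hcon
    rw [Finset.sum_eq_single a (fun χ _ hχ => by rw [hcon χ hχ]; norm_num) (by simp)] at h1
    have h2 : 1 ≤ c a ^ 2 := by
      have := sq_pos_of_ne_zero ha
      omega
    have h3 : c a ^ 2 ≠ 2 := by
      intro h3
      have h4 : |c a| ≤ 1 := by nlinarith [sq_abs (c a), abs_nonneg (c a)]
      have h5 : |c a| ≠ 0 := abs_ne_zero.mpr ha
      have h6 : |c a| = 1 := by
        have := abs_nonneg (c a)
        omega
      have h7 : c a ^ 2 = 1 := by rw [← sq_abs, h6]; norm_num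
      omega
    exact h3 h1
  have hsub : ({a, b} : Finset (IrrCharacter G)) ⊆ Finset.univ := Finset.subset_univ _
  have hsum2 : c a ^ 2 + c b ^ 2 + ∑ χ ∈ Finset.univ \ {a, b}, c χ ^ 2 = 2 := by
    have h5 := Finset.sum_sdiff hsub (f := fun χ => c χ ^ 2)
    rw [Finset.sum_pair (Ne.symm hab)] at h5
    linarith
  have hr : 0 ≤ ∑ χ ∈ Finset.univ \ {a, b}, c χ ^ 2 := Finset.sum_nonneg fun χ _ => hpos χ
  have ha1 : 1 ≤ c a ^ 2 := by
    have := sq_pos_of_ne_zero ha
    omega
  have hb1 : 1 ≤ c b ^ 2 := by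
    have := sq_pos_of_ne_zero hb
    omega
  have ha2 : c a ^ 2 = 1 := by omega
  have hb2 : c b ^ 2 = 1 := by omega
  have hr0 : ∑ χ ∈ Finset.univ \ {a, b}, c χ ^ 2 = 0 := by omega
  have hzero : ∀ χ, χ ≠ a → χ ≠ b → c χ = 0 := by
    intro χ h1' h2'
    have hmem : χ ∈ Finset.univ \ ({a, b} : Finset (IrrCharacter G)) := by
      simp [h1', h2']
    have := (Finset.sum_eq_zero_iff_of_nonneg (fun χ _ => hpos χ)).mp hr0 χ hmem
    exact pow_eq_zero_iff (by norm_num) |>.mp this
  refine ⟨a, b, c a, c b, Ne.symm hab, ?_, ?_, ?_⟩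
  · exact mul_self_eq_one_iff.mp (by rw [← pow_two]; exact ha2)
  · exact mul_self_eq_one_iff.mp (by rw [← pow_two]; exact hb2)
  · have h6 := Finset.sum_pair (f := fun χ : IrrCharacter G => (c χ : ℂ) • (χ : G → ℂ)) (Ne.symm hab)
    rw [← h6]
    symm
    apply Finset.sum_subset hsub
    intro χ _ hχ
    simp only [Finset.mem_insert, Finset.mem_singleton, not_or] at hχ
    rw [hzero χ hχ.1 hχ.2]
    simp

/-- A character of norm two is a sum of two different irreducible characters. -/
theorem norm_two_char {θ : G → ℂ} (h : IsCharacter G θ) (hn : classInner θ θ = 2) :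
    ∃ a b : IrrCharacter G, a ≠ b ∧ θ = (a : G → ℂ) + (b : G → ℂ) := by
  classical
  obtain ⟨a, b, s, t, hab, hs, ht, he⟩ := norm_two_gen (IsGeneralizedCharacter.of_isCharacter h) hn
  have hinner : ∀ χ : IrrCharacter G, classInner θ (χ : G → ℂ) =
      (s : ℂ) * (if (a : G → ℂ) = χ then 1 else 0) + (t : ℂ) * (if (b : G → ℂ) = χ then 1 else 0) := by
    intro χ
    rw [he, classInner_add_left, classInner_smul_left, classInner_smul_left,
      classInner_irr a.2 χ.2, classInner_irr b.2 χ.2]
  have hs1 : s = 1 := by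
    obtain ⟨n, hn'⟩ := classInner_isCharacter_nat h (IsIrrCharacter.isCharacter a.2)
    have h2 := hinner a
    have h3 : ¬ (b : G → ℂ) = a := fun e => hab (Subtype.ext e).symm
    rw [if_pos rfl, if_neg h3, hn'] at h2
    have h4 : (n : ℤ) = s := by
      have : ((n : ℤ) : ℂ) = (s : ℂ) := by
        push_cast
        simpa using h2
      exact_mod_cast this
    rcases hs with h5 | h5
    · exact h5
    · omega
  have ht1 : t = 1 := by
    obtain ⟨n, hn'⟩ := classInner_isCharacter_nat h (IsIrrCharacter.isCharacter b.2)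
    have h2 := hinner b
    have h3 : ¬ (a : G → ℂ) = b := fun e => hab (Subtype.ext e)
    rw [if_pos rfl, if_neg h3, hn'] at h2
    have h4 : (n : ℤ) = t := by
      have : ((n : ℤ) : ℂ) = (t : ℂ) := by
        push_cast
        simpa using h2
      exact_mod_cast this
    rcases ht with h5 | h5
    · exact h5
    · omega
  refine ⟨a, b, hab, ?_⟩
  rw [he, hs1, ht1]
  simp

/-- An element at which a character takes the value of the degree acts trivially. -/
theorem rep_eq_one_of_char {n : ℕ} (ρ : Representation ℂ G (Fin n → ℂ)) (g : G)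
    (h : ρ.character g = ρ.character 1) : ρ g = 1 := by
  classical
  obtain ⟨b, ζ, hζ, hb⟩ := exists_eigenbasis_rep ρ g (isOfFinOrder_of_finite g)
  have h1 : ∀ i, ρ g (b i) = ζ i • b i := by
    intro i
    have := hb i 1
    simpa using this
  have htr : ρ.character g = ∑ i, ζ i := trace_of_diagonal b (ρ g) ζ h1
  have hone : ρ.character 1 = (finrank ℂ (Fin n → ℂ) : ℂ) := Representation.char_one ρ
  have hnorm : ∀ i, ‖ζ i‖ = 1 := fun i => root_norm (orderOf_pos g).ne' (hζ i)
  have hre : ∀ i, (ζ i).re ≤ 1 := by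
    intro i
    have := Complex.re_le_norm (ζ i)
    rwa [hnorm] at this
  have hsum : ∑ i, (ζ i).re = ∑ i : Fin (finrank ℂ (Fin n → ℂ)), (1 : ℝ) := by
    have h2 := congrArg Complex.re (htr.symm.trans (h.trans hone))
    rw [Complex.re_sum] at h2
    rw [h2]
    simp
  have hall := (Finset.sum_eq_sum_iff_of_le (fun i _ => hre i)).mp hsum
  have hz1 : ∀ i, ζ i = 1 := by
    intro i
    have h3 := hall i (Finset.mem_univ i)
    have h4 := Complex.sq_norm (ζ i)
    rw [hnorm, Complex.normSq_apply, h3] at h4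
    have h5 : (ζ i).im = 0 := by nlinarith
    apply Complex.ext
    · simpa using h3
    · simpa using h5
  apply b.ext
  intro i
  rw [h1, hz1]
  simp

end Cfsg.Agent.Lib.KS2.RK
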