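import Mathlib
import Cfsg.Agent.Lib.Char.Induced
import Cfsg.Agent.Lib.Char.Burnside

set_option autoImplicit false
set_option linter.unusedSimpArgs false
set_option linter.unusedVariables false

namespace Cfsg.Agent.Lib.KS2.RK

open Cfsg Cfsg.Agent.Lib.Char
open scoped ComplexConjugate

universe u

variable {G : Type u} [Group G] [Fintype G]

/-- The inner product of two induced functions, as a double sum. -/
theorem classInner_indFun_indFun (H K : Subgroup G) [Fintype H] (θ : H → ℂ) (φ : K → ℂ) :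
    classInner (indFun H θ) (indFun K φ) =
      ((Nat.card H : ℂ) * (Nat.card K : ℂ))⁻¹ *
        ∑ x : G, ∑ h : H, θ h * conj (extendByZero K φ (x⁻¹ * h * x)) := by
  rw [frobenius_reciprocity H θ (indFun K φ) (indFun_isClassFunction K φ)]
  simp only [classInner_def, indFun_apply, map_mul, map_sum, map_inv₀, Complex.conj_natCast]
  rw [mul_inv, mul_assoc]
  congr 1
  rw [Finset.sum_comm, Finset.mul_sum]
  refine Finset.sum_congr rfl fun h _ => ?_
  rw [← Finset.mul_sum]
  ring

/-- Orthogonality of linear characters. -/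
theorem sum_hom_conj {A : Type u} [Group A] [Fintype A] (l m : A →* ℂˣ) [Decidable (l = m)] :
    ∑ a : A, ((l a : ℂˣ) : ℂ) * conj ((m a : ℂˣ) : ℂ) = if l = m then (Nat.card A : ℂ) else 0 := by
  have h1 := isIrrCharacter_of_hom l
  have h2 := isIrrCharacter_of_hom m
  have h3 := classInner_irr h1 h2
  rw [classInner_def] at h3
  have hne : (Nat.card A : ℂ) ≠ 0 := by exact_mod_cast (Nat.card_pos (α := A)).ne'
  have h4 : ∑ a : A, ((l a : ℂˣ) : ℂ) * conj ((m a : ℂˣ) : ℂ) =
      (Nat.card A : ℂ) * ((Nat.card A : ℂ)⁻¹ * ∑ a : A, ((l a : ℂˣ) : ℂ) * conj ((m a : ℂˣ) : ℂ)) := by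
    rw [← mul_assoc, mul_inv_cancel₀ hne, one_mul]
  rw [h4, h3]
  by_cases hlm : l = m
  · subst hlm
    simp
  · have : ¬ ((fun g => ((l g : ℂˣ) : ℂ)) = fun g => ((m g : ℂˣ) : ℂ)) := by
      intro e
      apply hlm
      ext a
      exact congrFun e a
    simp [this, hlm]

/-- Conjugating the value of a linear character gives the inverse value. -/
lemma conj_hom_val {A : Type u} [Group A] [Finite A] (m : A →* ℂˣ) (a : A) :
    conj ((m a : ℂˣ) : ℂ) = ((m a⁻¹ : ℂˣ) : ℂ) := by
  have h1 : ((m a : ℂˣ) : ℂ) ^ (orderOf a) = 1 := by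
    have : (m a) ^ (orderOf a) = 1 := by
      rw [← map_pow, pow_orderOf_eq_one, map_one]
    simpa using congrArg Units.val this
  have h2 := (root_inv_eq_conj (orderOf_pos a).ne' h1)
  rw [← h2, map_inv]
  simp

lemma hom_val_norm {A : Type u} [Group A] [Finite A] (m : A →* ℂˣ) (a : A) :
    ‖((m a : ℂˣ) : ℂ)‖ = 1 := by
  have h1 : ((m a : ℂˣ) : ℂ) ^ (orderOf a) = 1 := by
    have : (m a) ^ (orderOf a) = 1 := by
      rw [← map_pow, pow_orderOf_eq_one, map_one]
    simpa using congrArg Units.val this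
  exact root_norm (orderOf_pos a).ne' h1

end Cfsg.Agent.Lib.KS2.RK
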