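import Mathlib
import Cfsg.Prelude.Def_ParabolicCharacters
import Cfsg.Agent.Lib.KS2.GL2Basic
import Cfsg.Agent.Lib.KS2.Mackey

set_option autoImplicit false
set_option linter.unusedSimpArgs false
set_option linter.unusedVariables false

namespace Cfsg.Agent.Lib.KS2.RK

open Matrix Cfsg Cfsg.Agent.Lib.Char
open scoped MatrixGroups ComplexConjugate

universe u

/-- A group between `SL₂(F)` and `GL₂(F)`. -/
structure GLike (F : Type*) [Field F] (G : Type u) [Group G] where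
  ι : G →* GL (Fin 2) F
  inj : Function.Injective ι
  s : SL(2, F) →* G
  ιs : ∀ g, ι (s g) = Matrix.SpecialLinearGroup.toGL g
  H : Subgroup G
  hH : ∀ g, g ∈ H ↔ ((ι g : GL (Fin 2) F) : Matrix (Fin 2) (Fin 2) F) 1 0 = 0

namespace GLike

variable {F : Type*} [Field F] {G : Type u} [Group G] (L : GLike F G)

/-- Entries. -/
def e (g : G) (i j : Fin 2) : F := ((L.ι g : GL (Fin 2) F) : Matrix (Fin 2) (Fin 2) F) i j

lemma e_mul00 (g h : G) : L.e (g * h) 0 0 = L.e g 0 0 * L.e h 0 0 + L.e g 0 1 * L.e h 1 0 := by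
  simp only [e, map_mul, GL2.mul00]
lemma e_mul01 (g h : G) : L.e (g * h) 0 1 = L.e g 0 0 * L.e h 0 1 + L.e g 0 1 * L.e h 1 1 := by
  simp only [e, map_mul, GL2.mul01]
lemma e_mul10 (g h : G) : L.e (g * h) 1 0 = L.e g 1 0 * L.e h 0 0 + L.e g 1 1 * L.e h 1 0 := by
  simp only [e, map_mul, GL2.mul10]
lemma e_mul11 (g h : G) : L.e (g * h) 1 1 = L.e g 1 0 * L.e h 0 1 + L.e g 1 1 * L.e h 1 1 := by
  simp only [e, map_mul, GL2.mul11]
lemma e_one00 : L.e 1 0 0 = 1 := by simp [e]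
lemma e_one01 : L.e 1 0 1 = 0 := by simp [e]
lemma e_one10 : L.e 1 1 0 = 0 := by simp [e]
lemma e_one11 : L.e 1 1 1 = 1 := by simp [e]

lemma ext' {g h : G} (h00 : L.e g 0 0 = L.e h 0 0) (h01 : L.e g 0 1 = L.e h 0 1)
    (h10 : L.e g 1 0 = L.e h 1 0) (h11 : L.e g 1 1 = L.e h 1 1) : g = h :=
  L.inj (GL2.ext4 h00 h01 h10 h11)

lemma det_ne (g : G) : L.e g 0 0 * L.e g 1 1 - L.e g 0 1 * L.e g 1 0 ≠ 0 := GL2.det_ne (L.ι g)

lemma e_s (g : SL(2, F)) (i j : Fin 2) : L.e (L.s g) i j = (g : Matrix (Fin 2) (Fin 2) F) i j := by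
  simp only [e, L.ιs]
  rfl

/-- The trace. -/
lemma tr_conj (x g : G) : L.e (x⁻¹ * g * x) 0 0 + L.e (x⁻¹ * g * x) 1 1 = L.e g 0 0 + L.e g 1 1 := by
  have : IsConj (L.ι (x⁻¹ * g * x)) (L.ι g) := by
    rw [isConj_comm, isConj_iff]
    exact ⟨L.ι x⁻¹, by simp [map_mul, map_inv]⟩
  exact GL2.tr_of_isConj this

/-- The determinant. -/
lemma dt_conj (x g : G) : L.e (x⁻¹ * g * x) 0 0 * L.e (x⁻¹ * g * x) 1 1 - L.e (x⁻¹ * g * x) 0 1 * L.e (x⁻¹ * g * x) 1 0 =
    L.e g 0 0 * L.e g 1 1 - L.e g 0 1 * L.e g 1 0 := by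
  have : IsConj (L.ι (x⁻¹ * g * x)) (L.ι g) := by
    rw [isConj_comm, isConj_iff]
    exact ⟨L.ι x⁻¹, by simp [map_mul, map_inv]⟩
  exact GL2.dt_of_isConj this

section conjsec

variable (x g : G)

/-- The matrix equation for a conjugate. -/
lemma conj_eqs : 
    L.e g 0 0 * L.e x 0 0 + L.e g 0 1 * L.e x 1 0 =
      L.e x 0 0 * L.e (x⁻¹ * g * x) 0 0 + L.e x 0 1 * L.e (x⁻¹ * g * x) 1 0 ∧
    L.e g 1 0 * L.e x 0 0 + L.e g 1 1 * L.e x 1 0 =
      L.e x 1 0 * L.e (x⁻¹ * g * x) 0 0 + L.e x 1 1 * L.e (x⁻¹ * g * x) 1 0 ∧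
    L.e g 0 0 * L.e x 0 1 + L.e g 0 1 * L.e x 1 1 =
      L.e x 0 0 * L.e (x⁻¹ * g * x) 0 1 + L.e x 0 1 * L.e (x⁻¹ * g * x) 1 1 ∧
    L.e g 1 0 * L.e x 0 1 + L.e g 1 1 * L.e x 1 1 =
      L.e x 1 0 * L.e (x⁻¹ * g * x) 0 1 + L.e x 1 1 * L.e (x⁻¹ * g * x) 1 1 := by
  set y := x⁻¹ * g * x with hy
  have h : g * x = x * y := by rw [hy]; group
  have h1 := congrArg (fun z => L.e z 0 0) h
  have h2 := congrArg (fun z => L.e z 1 0) h
  have h3 := congrArg (fun z => L.e z 0 1) h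
  have h4 := congrArg (fun z => L.e z 1 1) h
  simp only [e_mul00, e_mul01, e_mul10, e_mul11] at h1 h2 h3 h4
  exact ⟨h1, h2, h3, h4⟩

/-- Determination of the lower-left entry of a conjugate. -/
lemma conj_e10 : (L.e x 0 0 * L.e x 1 1 - L.e x 0 1 * L.e x 1 0) * L.e (x⁻¹ * g * x) 1 0 =
    - L.e x 1 0 * (L.e g 0 0 * L.e x 0 0 + L.e g 0 1 * L.e x 1 0) +
      L.e x 0 0 * (L.e g 1 0 * L.e x 0 0 + L.e g 1 1 * L.e x 1 0) := by
  obtain ⟨h1, h2, _, _⟩ := L.conj_eqs x g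
  rw [h1, h2]
  ring

lemma conj_e10_eq_zero_iff : L.e (x⁻¹ * g * x) 1 0 = 0 ↔
    - L.e x 1 0 * (L.e g 0 0 * L.e x 0 0 + L.e g 0 1 * L.e x 1 0) +
      L.e x 0 0 * (L.e g 1 0 * L.e x 0 0 + L.e g 1 1 * L.e x 1 0) = 0 := by
  rw [← L.conj_e10]
  simp [L.det_ne x]

end conjsec

/-- The transvection. -/
def u (c : F) : G := L.s (SL2.ux (1 : F) c (by ring))

lemma u00 (c : F) : L.e (L.u c) 0 0 = 1 := by simp [u, e_s]
lemma u01 (c : F) : L.e (L.u c) 0 1 = c := by simp [u, e_s]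
lemma u10 (c : F) : L.e (L.u c) 1 0 = 0 := by simp [u, e_s]
lemma u11 (c : F) : L.e (L.u c) 1 1 = 1 := by simp [u, e_s]

lemma u_zero : L.u 0 = 1 := by
  apply L.ext' <;> simp only [u00, u01, u10, u11, e_one00, e_one01, e_one10, e_one11]

lemma u_add (c d : F) : L.u (c + d) = L.u c * L.u d := by
  apply L.ext' <;> simp only [u00, u01, u10, u11, e_mul00, e_mul01, e_mul10, e_mul11] <;> ring

lemma u_neg (c : F) : L.u (-c) = (L.u c)⁻¹ := by
  apply eq_inv_of_mul_eq_one_left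
  rw [← u_add, neg_add_cancel, u_zero]

/-- The Weyl element `[[0, 1], [-1, 0]]`. -/
def w : G := L.s (SL2.mk 0 1 (-1) 0 (by ring))

lemma w00 : L.e L.w 0 0 = 0 := by simp [w, e_s]
lemma w01 : L.e L.w 0 1 = 1 := by simp [w, e_s]
lemma w10 : L.e L.w 1 0 = -1 := by simp [w, e_s]
lemma w11 : L.e L.w 1 1 = 0 := by simp [w, e_s]

/-- The element `w g w⁻¹` for `g` diagonal. -/
lemma w_conj_diag (g : G) (h01 : L.e g 0 1 = 0) (h10 : L.e g 1 0 = 0) :
    L.e (L.w * g * L.w⁻¹) 0 0 = L.e g 1 1 ∧ L.e (L.w * g * L.w⁻¹) 0 1 = 0 ∧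
    L.e (L.w * g * L.w⁻¹) 1 0 = 0 ∧ L.e (L.w * g * L.w⁻¹) 1 1 = L.e g 0 0 := by
  -- `w g = y w` determines y
  set y := L.w * g * L.w⁻¹ with hy
  have h : y * L.w = L.w * g := by rw [hy]; group
  have h1 := congrArg (fun z => L.e z 0 0) h
  have h2 := congrArg (fun z => L.e z 1 0) h
  have h3 := congrArg (fun z => L.e z 0 1) h
  have h4 := congrArg (fun z => L.e z 1 1) h
  simp only [e_mul00, e_mul01, e_mul10, e_mul11, w00, w01, w10, w11, h01, h10] at h1 h2 h3 h4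
  refine ⟨?_, ?_, ?_, ?_⟩
  · linear_combination h3
  · linear_combination -h1
  · linear_combination h4
  · linear_combination -h2

lemma mem_H {g : G} : g ∈ L.H ↔ L.e g 1 0 = 0 := L.hH g

lemma e00_ne_of_mem {g : G} (hg : L.e g 1 0 = 0) : L.e g 0 0 ≠ 0 := by
  intro h
  apply L.det_ne g
  rw [hg, h]; ring

lemma e11_ne_of_mem {g : G} (hg : L.e g 1 0 = 0) : L.e g 1 1 ≠ 0 := by
  intro h
  apply L.det_ne g
  rw [hg, h]; ring

/-- Either of the first column entries is nonzero. -/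
lemma first_col_ne (x : G) : ¬ (L.e x 0 0 = 0 ∧ L.e x 1 0 = 0) := by
  rintro ⟨h1, h2⟩
  apply L.det_ne x
  rw [h1, h2]; ring

section ind

variable [Fintype G]

lemma card_r0 [DecidablePred fun x : G => L.e x 1 0 = 0] :
    (Finset.univ.filter (fun x : G => L.e x 1 0 = 0)).card = Nat.card L.H := by
  classical
  rw [Nat.card_eq_fintype_card, Fintype.card_subtype]
  congr 1
  ext x
  simp [L.mem_H]

lemma card_p0 [DecidablePred fun x : G => L.e x 0 0 = 0] :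
    (Finset.univ.filter (fun x : G => L.e x 0 0 = 0)).card = Nat.card L.H := by
  classical
  rw [← L.card_r0]
  apply Finset.card_bij (fun x _ => L.w * x)
  · intro x hx
    simp only [Finset.mem_filter, Finset.mem_univ, true_and] at hx ⊢
    simp only [e_mul10, w10, w11, hx]; ring
  · intro a _ b _ hab
    exact mul_left_cancel hab
  · intro b hb
    simp only [Finset.mem_filter, Finset.mem_univ, true_and] at hb
    refine ⟨L.w⁻¹ * b, ?_, by group⟩
    simp only [Finset.mem_filter, Finset.mem_univ, true_and]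
    have h := L.e_mul10 L.w (L.w⁻¹ * b)
    rw [mul_inv_cancel_left, hb, w10, w11] at h
    linear_combination h

/-- Generic form of the sums below. -/
lemma sum_two_cond {M : Type*} [AddCommMonoid M] (A A' : M) (P P' : G → Prop)
    [DecidablePred P] [DecidablePred P'] :
    ∑ x : G, ((if P x then A else 0) + (if P' x then A' else 0)) =
      (Finset.univ.filter P).card • A + (Finset.univ.filter P').card • A' := by
  rw [Finset.sum_add_distrib, ← Finset.sum_filter, ← Finset.sum_filter, Finset.sum_const,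
    Finset.sum_const]

variable (φ : L.H → ℂ)

lemma card_H_ne : (Nat.card L.H : ℂ) ≠ 0 := card_subgroup_ne_zero L.H

/-- `x⁻¹ g x` for scalar `g`. -/
lemma conj_scalar {g : G} (h01 : L.e g 0 1 = 0) (h10 : L.e g 1 0 = 0) (h3 : L.e g 0 0 = L.e g 1 1) (x : G) :
    x⁻¹ * g * x = g := by
  have : g * x = x * g := by
    apply L.ext' <;> simp only [e_mul00, e_mul01, e_mul10, e_mul11, h01, h10, h3] <;> ring
  rw [mul_assoc, this, inv_mul_cancel_left]

/-- The value at a scalar. -/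
theorem ind_scalar {g : G} (h01 : L.e g 0 1 = 0) (h10 : L.e g 1 0 = 0) (h3 : L.e g 0 0 = L.e g 1 1) :
    indFun L.H φ g = (Nat.card L.H : ℂ)⁻¹ * (Nat.card G : ℂ) * φ ⟨g, L.mem_H.mpr h10⟩ := by
  rw [indFun_apply, mul_assoc]
  congr 1
  simp only [L.conj_scalar h01 h10 h3]
  rw [extendByZero_of_mem L.H φ (L.mem_H.mpr h10), Finset.sum_const, Finset.card_univ, nsmul_eq_mul,
    Fintype.card_eq_nat_card]

/-- The value at an element without eigenvector. -/
theorem ind_no_eig {g : G} (hne : ∀ p r : F, ¬ (p = 0 ∧ r = 0) →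
    - r * (L.e g 0 0 * p + L.e g 0 1 * r) + p * (L.e g 1 0 * p + L.e g 1 1 * r) ≠ 0) :
    indFun L.H φ g = 0 := by
  rw [indFun_apply]
  have : ∀ x : G, extendByZero L.H φ (x⁻¹ * g * x) = 0 := by
    intro x
    apply extendByZero_of_not_mem
    rw [L.mem_H, L.conj_e10_eq_zero_iff]
    exact hne _ _ (L.first_col_ne x)
  simp [this]

/-- Analysis of a conjugate, when `x ∈ H` and `g ∈ H`. -/
lemma conj_r0 {x g : G} (hx : L.e x 1 0 = 0) (hg : L.e g 1 0 = 0) :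
    L.e (x⁻¹ * g * x) 1 0 = 0 ∧ L.e (x⁻¹ * g * x) 0 0 = L.e g 0 0 ∧
      L.e (x⁻¹ * g * x) 1 1 = L.e g 1 1 := by
  have h0 : L.e (x⁻¹ * g * x) 1 0 = 0 := by
    rw [L.conj_e10_eq_zero_iff, hx, hg]; ring
  obtain ⟨e1, _, _, _⟩ := L.conj_eqs x g
  rw [hx, h0] at e1
  have hp := L.e00_ne_of_mem hx
  have h1 : L.e (x⁻¹ * g * x) 0 0 = L.e g 0 0 := by
    apply mul_left_cancel₀ hp
    linear_combination -e1
  refine ⟨h0, h1, ?_⟩
  have := L.tr_conj x g
  rw [h1] at this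
  linear_combination this

/-- Analysis of a conjugate, when `x ∉ H` and `g ∈ H`. -/
lemma conj_rne {x g : G} (hx : L.e x 1 0 ≠ 0) (hg : L.e g 1 0 = 0) :
    (L.e (x⁻¹ * g * x) 1 0 = 0 ↔ (L.e g 1 1 - L.e g 0 0) * L.e x 0 0 = L.e g 0 1 * L.e x 1 0) ∧
    (L.e (x⁻¹ * g * x) 1 0 = 0 → L.e (x⁻¹ * g * x) 0 0 = L.e g 1 1 ∧
      L.e (x⁻¹ * g * x) 1 1 = L.e g 0 0) := by
  constructor
  · rw [L.conj_e10_eq_zero_iff, hg]
    constructor
    · intro h
      apply mul_left_cancel₀ hx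
      linear_combination h
    · intro h
      linear_combination (L.e x 1 0) * h
  · intro h0
    obtain ⟨_, e2, _, _⟩ := L.conj_eqs x g
    rw [hg, h0] at e2
    have h1 : L.e (x⁻¹ * g * x) 0 0 = L.e g 1 1 := by
      apply mul_left_cancel₀ hx
      linear_combination -e2
    refine ⟨h1, ?_⟩
    have := L.tr_conj x g
    rw [h1] at this
    linear_combination this

/-- The sum of the induced function over `G` for `g ∈ H`, as a sum over `G`. -/
lemma ind_upper_sum (f : F → F → ℂ) (hφ : ∀ b : L.H, φ b = f (L.e b 0 0) (L.e b 1 1))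
    [DecidablePred fun x : G => L.e x 1 0 = 0]
    {g : G} (hg : L.e g 1 0 = 0) (x : G)
    [Decidable ((L.e g 1 1 - L.e g 0 0) * L.e x 0 0 = L.e g 0 1 * L.e x 1 0)] :
    extendByZero L.H φ (x⁻¹ * g * x) =
      if L.e x 1 0 = 0 then f (L.e g 0 0) (L.e g 1 1) else
      if (L.e g 1 1 - L.e g 0 0) * L.e x 0 0 = L.e g 0 1 * L.e x 1 0 then
        f (L.e g 1 1) (L.e g 0 0) else 0 := by
  split_ifs with h1 h2
  · obtain ⟨h3, h4, h5⟩ := L.conj_r0 h1 hg
    rw [extendByZero_of_mem L.H φ (L.mem_H.mpr h3), hφ]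
    simp only [h4, h5]
  · obtain ⟨h3, h4⟩ := L.conj_rne h1 hg
    have h5 := h3.mpr h2
    obtain ⟨h6, h7⟩ := h4 h5
    rw [extendByZero_of_mem L.H φ (L.mem_H.mpr h5), hφ]
    simp only [h6, h7]
  · obtain ⟨h3, _⟩ := L.conj_rne h1 hg
    apply extendByZero_of_not_mem
    rw [L.mem_H, h3]
    exact h2

/-- The value at a non-scalar element of `H` with equal diagonal entries. -/
theorem ind_unip (f : F → F → ℂ) (hφ : ∀ b : L.H, φ b = f (L.e b 0 0) (L.e b 1 1))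
    {g : G} (h10 : L.e g 1 0 = 0) (h3 : L.e g 0 0 = L.e g 1 1) (h01 : L.e g 0 1 ≠ 0) :
    indFun L.H φ g = f (L.e g 0 0) (L.e g 0 0) := by
  classical
  rw [indFun_apply]
  have hF : ∀ x : G, extendByZero L.H φ (x⁻¹ * g * x) =
      (if L.e x 1 0 = 0 then f (L.e g 0 0) (L.e g 0 0) else 0) := by
    intro x
    rw [L.ind_upper_sum φ f hφ h10 x, ← h3]
    by_cases hx : L.e x 1 0 = 0
    · simp [hx]
    · have : ¬ ((L.e g 0 0 - L.e g 0 0) * L.e x 0 0 = L.e g 0 1 * L.e x 1 0) := by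
        intro h
        rw [sub_self, zero_mul] at h
        exact (mul_ne_zero h01 hx) h.symm
      rw [if_neg hx, if_neg hx, if_neg this]
  simp only [hF]
  rw [← Finset.sum_filter, Finset.sum_const, L.card_r0, nsmul_eq_mul]
  field_simp [L.card_H_ne]

/-- The value at a regular upper triangular element. -/
theorem ind_reg (f : F → F → ℂ) (hφ : ∀ b : L.H, φ b = f (L.e b 0 0) (L.e b 1 1))
    {g : G} (h10 : L.e g 1 0 = 0) (h3 : L.e g 0 0 ≠ L.e g 1 1) :
    indFun L.H φ g = f (L.e g 0 0) (L.e g 1 1) + f (L.e g 1 1) (L.e g 0 0) := by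
  classical
  rw [indFun_apply]
  have hd : L.e g 1 1 - L.e g 0 0 ≠ 0 := sub_ne_zero.mpr (Ne.symm h3)
  set c := L.e g 0 1 / (L.e g 1 1 - L.e g 0 0) with hc
  have hF : ∀ x : G, extendByZero L.H φ (x⁻¹ * g * x) =
      (if L.e x 1 0 = 0 then f (L.e g 0 0) (L.e g 1 1) else 0) +
      (if L.e (L.u (-c) * x) 0 0 = 0 then f (L.e g 1 1) (L.e g 0 0) else 0) := by
    intro x
    rw [L.ind_upper_sum φ f hφ h10 x]
    have key : L.e (L.u (-c) * x) 0 0 = 0 ↔ (L.e g 1 1 - L.e g 0 0) * L.e x 0 0 = L.e g 0 1 * L.e x 1 0 := by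
      rw [L.e_mul00, L.u00, L.u01, hc]
      constructor
      · intro h
        field_simp at h
        linear_combination h
      · intro h
        field_simp
        linear_combination h
    simp only [key]
    by_cases hx : L.e x 1 0 = 0
    · have hp := L.e00_ne_of_mem hx
      have : ¬ ((L.e g 1 1 - L.e g 0 0) * L.e x 0 0 = L.e g 0 1 * L.e x 1 0) := by
        rw [hx, mul_zero]
        exact mul_ne_zero hd hp
      rw [if_pos hx, if_pos hx, if_neg this, add_zero]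
    · simp [hx]
  simp only [hF]
  rw [sum_two_cond, L.card_r0]
  have hcard : (Finset.univ.filter (fun x : G => L.e (L.u (-c) * x) 0 0 = 0)).card = Nat.card L.H := by
    rw [← L.card_p0]
    apply Finset.card_bij (fun x _ => L.u (-c) * x)
    · intro x hx
      simpa using hx
    · intro a _ b _ hab
      exact mul_left_cancel hab
    · intro b hb
      refine ⟨(L.u (-c))⁻¹ * b, ?_, by group⟩
      simpa using hb
  rw [hcard, nsmul_eq_mul, nsmul_eq_mul]
  field_simp [L.card_H_ne]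

end ind

end GLike

end Cfsg.Agent.Lib.KS2.RK
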