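import Mathlib
import Cfsg.Agent.Lib.KS2.GLike

set_option autoImplicit false
set_option linter.unusedSimpArgs false
set_option linter.unusedVariables false
set_option linter.unusedSectionVars false

namespace Cfsg.Agent.Lib.KS2.RK

open Matrix Cfsg Cfsg.Agent.Lib.Char
open scoped MatrixGroups ComplexConjugate

universe u

namespace GLike

variable {F : Type*} [Field F] {G : Type u} [Group G] (L : GLike F G)

/-- The inverse of a diagonal element. -/
lemma diag_inv {g : G} (h01 : L.e g 0 1 = 0) (h10 : L.e g 1 0 = 0) :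
    L.e g⁻¹ 0 1 = 0 ∧ L.e g⁻¹ 1 0 = 0 ∧ L.e g 0 0 * L.e g⁻¹ 0 0 = 1 ∧ L.e g 1 1 * L.e g⁻¹ 1 1 = 1 := by
  have h := mul_inv_cancel g
  have h1 := congrArg (fun z => L.e z 0 0) h
  have h2 := congrArg (fun z => L.e z 0 1) h
  have h3 := congrArg (fun z => L.e z 1 0) h
  have h4 := congrArg (fun z => L.e z 1 1) h
  simp only [e_mul00, e_mul01, e_mul10, e_mul11, e_one00, e_one01, e_one10, e_one11, h01, h10,
    zero_mul, add_zero, zero_add] at h1 h2 h3 h4
  have ha := L.e00_ne_of_mem h10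
  have hd := L.e11_ne_of_mem h10
  exact ⟨(mul_eq_zero.mp h2).resolve_left ha, (mul_eq_zero.mp h3).resolve_left hd, h1, h4⟩

/-- The diagonal subgroup. -/
def D : Subgroup G where
  carrier := {g | L.e g 0 1 = 0 ∧ L.e g 1 0 = 0}
  mul_mem' := by
    rintro a b ⟨h1, h2⟩ ⟨h3, h4⟩
    constructor
    · rw [e_mul01, h1, h3]; ring
    · rw [e_mul10, h2, h4]; ring
  one_mem' := ⟨L.e_one01, L.e_one10⟩
  inv_mem' := by
    rintro a ⟨h1, h2⟩
    exact ⟨(L.diag_inv h1 h2).1, (L.diag_inv h1 h2).2.1⟩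

lemma mem_D {g : G} : g ∈ L.D ↔ L.e g 0 1 = 0 ∧ L.e g 1 0 = 0 := Iff.rfl

/-- Equal diagonal entries in `D`. -/
lemma D_ext {a b : L.D} (h0 : L.e a 0 0 = L.e b 0 0) (h1 : L.e a 1 1 = L.e b 1 1) : a = b := by
  apply Subtype.ext
  apply L.ext' h0
  · rw [a.2.1, b.2.1]
  · rw [a.2.2, b.2.2]
  · exact h1

lemma D_le : L.D ≤ L.H := fun g hg => L.mem_H.mpr hg.2

/-- The diagonal part of an element of `H`. -/
def dg (b : L.H) : L.D :=
  ⟨(b : G) * L.u (-(L.e b 0 1 / L.e b 0 0)), by
    have h10 := L.mem_H.mp b.2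
    have h00 := L.e00_ne_of_mem h10
    constructor
    · rw [e_mul01, u01, u11]
      field_simp
      ring
    · rw [e_mul10, u00, u10, h10]
      ring⟩

lemma dg00 (b : L.H) : L.e (L.dg b) 0 0 = L.e b 0 0 := by
  have h10 := L.mem_H.mp b.2
  simp only [dg, e_mul00, u00, u10]
  ring

lemma dg11 (b : L.H) : L.e (L.dg b) 1 1 = L.e b 1 1 := by
  have h10 := L.mem_H.mp b.2
  simp only [dg, e_mul11, u01, u11, h10]
  ring

/-- The diagonal part as a homomorphism. -/
def dgHom : L.H →* L.D :=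
  MonoidHom.mk' L.dg (by
    intro a b
    have ha := L.mem_H.mp a.2
    have hb := L.mem_H.mp b.2
    apply L.D_ext
    · simp only [dg00, Subgroup.coe_mul, e_mul00, hb, (L.dg a).2.1]
      ring
    · simp only [dg11, Subgroup.coe_mul, e_mul11, ha, (L.dg a).2.2]
      ring)

lemma dgHom00 (b : L.H) : L.e (L.dgHom b) 0 0 = L.e b 0 0 := L.dg00 b
lemma dgHom11 (b : L.H) : L.e (L.dgHom b) 1 1 = L.e b 1 1 := L.dg11 b

lemma dgHom_of_D (t : L.D) : L.dgHom ⟨t, L.D_le t.2⟩ = t := by
  apply L.D_ext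
  · rw [dgHom00]
  · rw [dgHom11]

lemma dgHom_eq_iff (a b : L.H) : L.dgHom a = L.dgHom b ↔ L.e a 0 0 = L.e b 0 0 ∧ L.e a 1 1 = L.e b 1 1 := by
  constructor
  · intro h
    constructor
    · rw [← dgHom00, h, dgHom00]
    · rw [← dgHom11, h, dgHom11]
  · rintro ⟨h0, h1⟩
    apply L.D_ext
    · rw [dgHom00, dgHom00, h0]
    · rw [dgHom11, dgHom11, h1]

/-- The Weyl conjugation on `D`. -/
def sg : L.D →* L.D where
  toFun t := ⟨L.w * t * L.w⁻¹, (L.w_conj_diag t t.2.1 t.2.2).2.1, (L.w_conj_diag t t.2.1 t.2.2).2.2.1⟩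
  map_one' := by
    apply Subtype.ext
    simp
  map_mul' a b := by
    apply Subtype.ext
    simp only [Subgroup.coe_mul]
    group

lemma sg00 (t : L.D) : L.e (L.sg t) 0 0 = L.e t 1 1 := (L.w_conj_diag t t.2.1 t.2.2).1
lemma sg11 (t : L.D) : L.e (L.sg t) 1 1 = L.e t 0 0 := (L.w_conj_diag t t.2.1 t.2.2).2.2.2

lemma sg_sg (t : L.D) : L.sg (L.sg t) = t := by
  apply L.D_ext
  · rw [sg00, sg11]
  · rw [sg11, sg00]

/-- Entry homomorphisms. -/
def ent0 : L.D →* Fˣ where
  toFun t := Units.mk0 (L.e t 0 0) (L.e00_ne_of_mem t.2.2)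
  map_one' := by ext; simp [e_one00]
  map_mul' a b := by
    ext
    simp [e_mul00, a.2.1]

def ent1 : L.D →* Fˣ where
  toFun t := Units.mk0 (L.e t 1 1) (L.e11_ne_of_mem t.2.2)
  map_one' := by ext; simp [e_one11]
  map_mul' a b := by
    ext
    simp [e_mul11, a.2.2]

lemma ent0_coe (t : L.D) : ((L.ent0 t : Fˣ) : F) = L.e t 0 0 := rfl
lemma ent1_coe (t : L.D) : ((L.ent1 t : Fˣ) : F) = L.e t 1 1 := rfl

lemma mem_of_mul_u (t : L.D) (c : F) : (t : G) * L.u c ∈ L.H := by
  rw [L.mem_H, e_mul10, u00, u10, t.2.2]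
  ring

/-- The decomposition of `H`. -/
noncomputable def splitH : L.D × F ≃ L.H where
  toFun p := ⟨p.1 * L.u p.2, L.mem_of_mul_u p.1 p.2⟩
  invFun b := (L.dg b, L.e b 0 1 / L.e b 0 0)
  left_inv := by
    rintro ⟨t, c⟩
    have h00 := L.e00_ne_of_mem t.2.2
    have h1 : L.e ((t : G) * L.u c) 0 1 / L.e ((t : G) * L.u c) 0 0 = c := by
      rw [e_mul01, e_mul00, t.2.1, u00, u01, u11, u10]
      simp only [mul_one, mul_zero, add_zero, zero_mul]
      exact mul_div_cancel_left₀ c h00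
    ext1
    · apply L.D_ext
      · rw [dg00, e_mul00, t.2.1, u00, u10]
        ring
      · rw [dg11, e_mul11, t.2.2, u01, u11]
        ring
    · exact h1
  right_inv := by
    intro b
    apply Subtype.ext
    have h10 := L.mem_H.mp b.2
    have h00 := L.e00_ne_of_mem h10
    simp only [dg]
    rw [mul_assoc, ← L.u_add]
    simp [L.u_zero]

lemma splitH_coe (t : L.D) (c : F) : ((L.splitH (t, c) : L.H) : G) = t * L.u c := rfl

lemma dgHom_splitH (t : L.D) (c : F) : L.dgHom (L.splitH (t, c)) = t := by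
  apply L.D_ext
  · rw [dgHom00, splitH_coe, e_mul00, t.2.1, u00, u10]
    ring
  · rw [dgHom11, splitH_coe, e_mul11, t.2.2, u01, u11]
    ring

lemma splitH_00 (t : L.D) (c : F) : L.e (L.splitH (t, c)) 0 0 = L.e t 0 0 := by
  rw [splitH_coe, e_mul00, t.2.1, u00, u10]
  ring
lemma splitH_01 (t : L.D) (c : F) : L.e (L.splitH (t, c)) 0 1 = L.e t 0 0 * c := by
  rw [splitH_coe, e_mul01, t.2.1, u01, u11]
  ring
lemma splitH_10 (t : L.D) (c : F) : L.e (L.splitH (t, c)) 1 0 = 0 := by
  rw [splitH_coe, e_mul10, t.2.2, u00, u10]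
  ring
lemma splitH_11 (t : L.D) (c : F) : L.e (L.splitH (t, c)) 1 1 = L.e t 1 1 := by
  rw [splitH_coe, e_mul11, t.2.2, u01, u11]
  ring

section card

variable [Fintype F]

lemma card_H [Finite L.D] : Nat.card L.H = Nat.card L.D * Fintype.card F := by
  rw [← Nat.card_congr L.splitH, Nat.card_prod, Nat.card_eq_fintype_card (α := F)]

variable [Fintype G]

lemma card_ne_r0 [DecidablePred fun x : G => ¬ L.e x 1 0 = 0] :
    (Finset.univ.filter (fun x : G => ¬ L.e x 1 0 = 0)).card = Fintype.card F * Nat.card L.H := by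
  classical
  rw [← L.card_p0, ← Finset.card_univ, ← Finset.card_product]
  symm
  apply Finset.card_bij (fun (z : F × G) _ => L.u z.1 * z.2)
  · rintro ⟨c, y⟩ hz
    simp only [Finset.mem_product, Finset.mem_univ, Finset.mem_filter, true_and] at hz
    simp only [Finset.mem_filter, Finset.mem_univ, true_and, e_mul10, u10, u11]
    have := L.first_col_ne y
    simp only [hz, true_and] at this
    simpa using this
  · rintro ⟨c, y⟩ hz ⟨c', y'⟩ hz' h
    simp only [Finset.mem_coe, Finset.mem_product, Finset.mem_univ, Finset.mem_filter, true_and] at hz hz'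
    simp only at h
    have h1 := congrArg (fun z => L.e z 0 0) h
    have h2 := congrArg (fun z => L.e z 1 0) h
    simp only [e_mul00, e_mul10, u00, u01, u10, u11, hz, hz'] at h1 h2
    have h3 : L.e y 1 0 ≠ 0 := by
      intro h0
      exact L.first_col_ne y ⟨hz, h0⟩
    have h4 : c = c' := by
      apply mul_right_cancel₀ h3
      linear_combination h1 + c' * (-h2)
    subst h4
    have := mul_left_cancel h
    rw [this]
  · intro b hb
    simp only [Finset.mem_filter, Finset.mem_univ, true_and] at hb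
    refine ⟨(L.e b 0 0 / L.e b 1 0, L.u (-(L.e b 0 0 / L.e b 1 0)) * b), ?_, ?_⟩
    · simp only [Finset.mem_product, Finset.mem_univ, Finset.mem_filter, true_and, e_mul00, u00, u01]
      field_simp
      ring
    · simp only
      rw [← mul_assoc, ← L.u_add]
      simp [L.u_zero]

/-- The order of `G`. -/
lemma card_G : Nat.card G = (Fintype.card F + 1) * Nat.card L.H := by
  classical
  have h := Finset.card_filter_add_card_filter_not (s := (Finset.univ : Finset G)) (fun x : G => L.e x 1 0 = 0)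
  rw [L.card_r0, L.card_ne_r0, Finset.card_univ] at h
  rw [Nat.card_eq_fintype_card, ← h]
  ring

end card

end GLike

end Cfsg.Agent.Lib.KS2.RK
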