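import Mathlib
import Cfsg.Agent.Lib.KS2.GLikeB

set_option autoImplicit false
set_option linter.unusedSimpArgs false
set_option linter.unusedVariables false
set_option linter.unusedSectionVars false

namespace Cfsg.Agent.Lib.KS2.RK

open Matrix Cfsg Cfsg.Agent.Lib.Char
open scoped MatrixGroups ComplexConjugate

universe u

namespace GLike

variable {F : Type*} [Field F] [Fintype F] {G : Type u} [Group G] [Fintype G] (L : GLike F G)

/-- The parabolically induced function. -/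
noncomputable def R (l : L.D →* ℂˣ) : G → ℂ :=
  indFun L.H (fun b => ((l (L.dgHom b) : ℂˣ) : ℂ))

lemma R_isCharacter (l : L.D →* ℂˣ) : IsCharacter G (L.R l) :=
  indFun_isCharacter L.H (IsIrrCharacter.isCharacter (isIrrCharacter_of_hom (l.comp L.dgHom)))

lemma R_isClass (l : L.D →* ℂˣ) : IsClassFunction G (L.R l) := indFun_isClassFunction _ _

open Classical in
/-- The function on pairs of entries. -/
noncomputable def fOf (l : L.D →* ℂˣ) (a d : F) : ℂ :=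
  if h : ∃ t : L.D, L.e t 0 0 = a ∧ L.e t 1 1 = d then ((l h.choose : ℂˣ) : ℂ) else 0

lemma fOf_eq (l : L.D →* ℂˣ) (t : L.D) : L.fOf l (L.e t 0 0) (L.e t 1 1) = ((l t : ℂˣ) : ℂ) := by
  have h : ∃ s : L.D, L.e s 0 0 = L.e t 0 0 ∧ L.e s 1 1 = L.e t 1 1 := ⟨t, rfl, rfl⟩
  rw [fOf, dif_pos h]
  have := h.choose_spec
  rw [L.D_ext this.1 this.2]

lemma phi_eq (l : L.D →* ℂˣ) (b : L.H) :
    ((l (L.dgHom b) : ℂˣ) : ℂ) = L.fOf l (L.e b 0 0) (L.e b 1 1) := by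
  rw [← dgHom00, ← dgHom11, fOf_eq]

/-- `R` at a regular upper triangular element. -/
theorem R_reg (l : L.D →* ℂˣ) {g : G} (hg : g ∈ L.H) (h3 : L.e g 0 0 ≠ L.e g 1 1) :
    L.R l g = ((l (L.dgHom ⟨g, hg⟩) : ℂˣ) : ℂ) + ((l (L.sg (L.dgHom ⟨g, hg⟩)) : ℂˣ) : ℂ) := by
  rw [R, L.ind_reg _ (L.fOf l) (L.phi_eq l) (L.mem_H.mp hg) h3, ← fOf_eq, ← fOf_eq, dgHom00, dgHom11, sg00, sg11,
    dgHom00, dgHom11]

/-- `R` at a non-semisimple upper triangular element. -/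
theorem R_unip (l : L.D →* ℂˣ) {g : G} (hg : g ∈ L.H) (h3 : L.e g 0 0 = L.e g 1 1)
    (h01 : L.e g 0 1 ≠ 0) :
    L.R l g = ((l (L.dgHom ⟨g, hg⟩) : ℂˣ) : ℂ) := by
  rw [R, L.ind_unip _ (L.fOf l) (L.phi_eq l) (L.mem_H.mp hg) h3 h01, ← fOf_eq, dgHom00, dgHom11, h3]

/-- `R` at a scalar. -/
theorem R_scalar (l : L.D →* ℂˣ) {g : G} (hg : g ∈ L.H) (h3 : L.e g 0 0 = L.e g 1 1)
    (h01 : L.e g 0 1 = 0) :
    L.R l g = ((Fintype.card F : ℂ) + 1) * ((l (L.dgHom ⟨g, hg⟩) : ℂˣ) : ℂ) := by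
  rw [R, L.ind_scalar _ h01 (L.mem_H.mp hg) h3, L.card_G]
  have := L.card_H_ne
  push_cast
  field_simp

/-- `R` at an element without eigenvector. -/
theorem R_no_eig (l : L.D →* ℂˣ) {g : G} (hne : ∀ p r : F, ¬ (p = 0 ∧ r = 0) →
    - r * (L.e g 0 0 * p + L.e g 0 1 * r) + p * (L.e g 1 0 * p + L.e g 1 1 * r) ≠ 0) :
    L.R l g = 0 := L.ind_no_eig _ hne

/-- Summing over `H`. -/
lemma sum_H {M : Type*} [AddCommMonoid M] [Fintype L.H] [Fintype L.D] (f : L.H → M) :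
    ∑ b : L.H, f b = ∑ t : L.D, ∑ c : F, f (L.splitH (t, c)) := by
  rw [← Equiv.sum_comp L.splitH, Fintype.sum_prod_type]

/-- The inner sum for `x ∈ H`. -/
lemma inner_r0 [Fintype L.H] [Fintype L.D] (l m : L.D →* ℂˣ) {x : G} (hx : L.e x 1 0 = 0) :
    ∑ h : L.H, ((l (L.dgHom h) : ℂˣ) : ℂ) *
        conj (extendByZero L.H (fun b => ((m (L.dgHom b) : ℂˣ) : ℂ)) (x⁻¹ * h * x)) =
      (Fintype.card F : ℂ) * ∑ t : L.D, ((l t : ℂˣ) : ℂ) * conj ((m t : ℂˣ) : ℂ) := by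
  rw [L.sum_H, Finset.mul_sum]
  refine Finset.sum_congr rfl fun t _ => ?_
  have : ∀ c : F, ((l (L.dgHom (L.splitH (t, c))) : ℂˣ) : ℂ) *
        conj (extendByZero L.H (fun b => ((m (L.dgHom b) : ℂˣ) : ℂ)) (x⁻¹ * (L.splitH (t, c) : L.H) * x)) =
      ((l t : ℂˣ) : ℂ) * conj ((m t : ℂˣ) : ℂ) := by
    intro c
    rw [dgHom_splitH]
    obtain ⟨h1, h2, h3⟩ := L.conj_r0 hx (L.mem_H.mp (L.splitH (t, c)).2)
    rw [extendByZero_of_mem L.H _ (L.mem_H.mpr h1)]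
    have e : L.dgHom ⟨x⁻¹ * (L.splitH (t, c) : L.H) * x, L.mem_H.mpr h1⟩ = t := by
      apply L.D_ext
      · rw [dgHom00, h2, splitH_00]
      · rw [dgHom11, h3, splitH_11]
    rw [e]
  simp only [this, Finset.sum_const, Finset.card_univ, nsmul_eq_mul]

/-- The inner sum for `x ∉ H`. -/
lemma inner_rne [Fintype L.H] [Fintype L.D] (l m : L.D →* ℂˣ) {x : G} (hx : L.e x 1 0 ≠ 0) :
    ∑ h : L.H, ((l (L.dgHom h) : ℂˣ) : ℂ) *
        conj (extendByZero L.H (fun b => ((m (L.dgHom b) : ℂˣ) : ℂ)) (x⁻¹ * h * x)) =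
      ∑ t : L.D, ((l t : ℂˣ) : ℂ) * conj ((m (L.sg t) : ℂˣ) : ℂ) := by
  classical
  rw [L.sum_H]
  refine Finset.sum_congr rfl fun t _ => ?_
  have ha := L.e00_ne_of_mem t.2.2
  have hz : ∀ c : F, ((l (L.dgHom (L.splitH (t, c))) : ℂˣ) : ℂ) *
        conj (extendByZero L.H (fun b => ((m (L.dgHom b) : ℂˣ) : ℂ)) (x⁻¹ * (L.splitH (t, c) : L.H) * x)) =
      if c = (L.e t 1 1 - L.e t 0 0) * L.e x 0 0 / (L.e t 0 0 * L.e x 1 0) then
        ((l t : ℂˣ) : ℂ) * conj ((m (L.sg t) : ℂˣ) : ℂ) else 0 := by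
    intro c
    rw [dgHom_splitH]
    obtain ⟨h1, h2⟩ := L.conj_rne hx (L.mem_H.mp (L.splitH (t, c)).2)
    have hkey : (L.e (L.splitH (t, c)) 1 1 - L.e (L.splitH (t, c)) 0 0) * L.e x 0 0 =
        L.e (L.splitH (t, c)) 0 1 * L.e x 1 0 ↔
        c = (L.e t 1 1 - L.e t 0 0) * L.e x 0 0 / (L.e t 0 0 * L.e x 1 0) := by
      rw [splitH_00, splitH_01, splitH_11]
      rw [eq_div_iff (mul_ne_zero ha hx)]
      constructor
      · intro h; linear_combination -h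
      · intro h; linear_combination -h
    split_ifs with hc
    · have h3 := h1.mpr (hkey.mpr hc)
      obtain ⟨h4, h5⟩ := h2 h3
      rw [extendByZero_of_mem L.H _ (L.mem_H.mpr h3)]
      have e : L.dgHom ⟨x⁻¹ * (L.splitH (t, c) : L.H) * x, L.mem_H.mpr h3⟩ = L.sg t := by
        apply L.D_ext
        · rw [dgHom00, h4, splitH_11, sg00]
        · rw [dgHom11, h5, splitH_00, sg11]
      rw [e]
    · rw [extendByZero_of_not_mem]
      · simp
      · rw [L.mem_H, h1, hkey]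
        exact hc
  simp only [hz]
  rw [Finset.sum_ite_eq' Finset.univ]
  simp

/-- The Mackey formula for the Borel subgroup. -/
theorem classInner_R (l m : L.D →* ℂˣ) [Decidable (l = m)] [Decidable (l = m.comp L.sg)] :
    classInner (L.R l) (L.R m) = (if l = m then 1 else 0) + (if l = m.comp L.sg then 1 else 0) := by
  classical
  letI : Fintype L.H := Fintype.ofFinite _
  letI : Fintype L.D := Fintype.ofFinite _
  rw [R, R, classInner_indFun_indFun]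
  set S0 := ∑ t : L.D, ((l t : ℂˣ) : ℂ) * conj ((m t : ℂˣ) : ℂ) with hS0
  set S1 := ∑ t : L.D, ((l t : ℂˣ) : ℂ) * conj ((m (L.sg t) : ℂˣ) : ℂ) with hS1
  have hI : ∀ x : G, ∑ h : L.H, ((l (L.dgHom h) : ℂˣ) : ℂ) *
        conj (extendByZero L.H (fun b => ((m (L.dgHom b) : ℂˣ) : ℂ)) (x⁻¹ * h * x)) =
      (if L.e x 1 0 = 0 then (Fintype.card F : ℂ) * S0 else 0) + (if ¬ L.e x 1 0 = 0 then S1 else 0) := by
    intro x
    by_cases hx : L.e x 1 0 = 0
    · rw [L.inner_r0 l m hx, if_pos hx, if_neg (not_not.mpr hx), add_zero]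
    · rw [L.inner_rne l m hx, if_neg hx, if_pos hx, zero_add]
  simp only [hI]
  rw [sum_two_cond, L.card_r0, L.card_ne_r0]
  have h0 : S0 = (if l = m then (Nat.card L.D : ℂ) else 0) := by
    rw [hS0, sum_hom_conj]
  have h1 : S1 = (if l = m.comp L.sg then (Nat.card L.D : ℂ) else 0) := by
    rw [hS1]
    have := sum_hom_conj l (m.comp L.sg)
    simpa using this
  have hH : Nat.card L.H = Nat.card L.D * Fintype.card F := L.card_H
  have hDne : (Nat.card L.D : ℂ) ≠ 0 := by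
    exact_mod_cast (Nat.card_pos (α := L.D)).ne'
  have hqne : (Fintype.card F : ℂ) ≠ 0 := by
    exact_mod_cast Fintype.card_ne_zero
  simp only [nsmul_eq_mul, hH]
  push_cast
  rw [h0, h1]
  split_ifs <;> field_simp <;> ring

end GLike

end Cfsg.Agent.Lib.KS2.RK
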