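import Mathlib
import Cfsg.Agent.Lib.KS2.GLikeR
import Cfsg.Agent.Lib.KS2.Borel

set_option autoImplicit false
set_option linter.unusedSimpArgs false
set_option linter.unusedVariables false
set_option linter.unusedSectionVars false

namespace Cfsg.Agent.Lib.KS2.RK

open Matrix Cfsg Cfsg.Agent.Lib.Char
open scoped MatrixGroups ComplexConjugate

universe u

variable {F : Type*} [Field F]

/-- The `GLike` structure on `SL₂`. -/
def slLike (F : Type*) [Field F] : GLike F SL(2, F) where
  ι := Matrix.SpecialLinearGroup.toGL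
  inj := fun a b h => by
    apply Subtype.ext
    exact congrArg Units.val h
  s := MonoidHom.id _
  ιs _ := rfl
  H := (upperTriangularGL 2 F).comap Matrix.SpecialLinearGroup.toGL
  hH g := SL2.mem_bor

/-- The `GLike` structure on `GL₂`. -/
def glLike (F : Type*) [Field F] : GLike F (GL (Fin 2) F) where
  ι := MonoidHom.id _
  inj := Function.injective_id
  s := Matrix.SpecialLinearGroup.toGL
  ιs _ := rfl
  H := upperTriangularGL 2 F
  hH g := SL2.mem_upperTriangularGL_iff g

@[simp] lemma sl_e (g : SL(2, F)) (i j : Fin 2) :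
    (slLike F).e g i j = (g : Matrix (Fin 2) (Fin 2) F) i j := rfl

@[simp] lemma gl_e (g : GL (Fin 2) F) (i j : Fin 2) :
    (glLike F).e g i j = (g : Matrix (Fin 2) (Fin 2) F) i j := rfl

/-- Conversion of the no-eigenvector hypothesis. -/
lemma no_eig_conv (M : Matrix (Fin 2) (Fin 2) F)
    (h : ∀ (c : F) (v : Fin 2 → F), v ≠ 0 → M.mulVec v ≠ c • v) :
    ∀ p r : F, ¬ (p = 0 ∧ r = 0) →
      - r * (M 0 0 * p + M 0 1 * r) + p * (M 1 0 * p + M 1 1 * r) ≠ 0 := by
  intro p r hpr he
  have hv : (![p, r] : Fin 2 → F) ≠ 0 := by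
    intro h0
    apply hpr
    exact ⟨by simpa using congrFun h0 0, by simpa using congrFun h0 1⟩
  by_cases hp : p = 0
  · have hr : r ≠ 0 := fun h0 => hpr ⟨hp, h0⟩
    apply h ((M 1 0 * p + M 1 1 * r) / r) ![p, r] hv
    ext i
    fin_cases i
    · simp [Matrix.mulVec, dotProduct, Fin.sum_univ_two]
      subst hp
      field_simp
      linear_combination -he
    · simp [Matrix.mulVec, dotProduct, Fin.sum_univ_two]
      field_simp
  · apply h ((M 0 0 * p + M 0 1 * r) / p) ![p, r] hv
    ext i
    fin_cases i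
    · simp [Matrix.mulVec, dotProduct, Fin.sum_univ_two]
      field_simp
    · simp [Matrix.mulVec, dotProduct, Fin.sum_univ_two]
      field_simp
      linear_combination he

section labels

/-- A diagonal element of `SL₂`. -/
def slDiag (a : Fˣ) : (slLike F).D :=
  ⟨SL2.mk (a : F) 0 0 ((a⁻¹ : Fˣ) : F) (by simp), rfl, rfl⟩

@[simp] lemma slDiag00 (a : Fˣ) : (slLike F).e (slDiag a) 0 0 = a := rfl
@[simp] lemma slDiag11 (a : Fˣ) : (slLike F).e (slDiag a) 1 1 = ((a⁻¹ : Fˣ) : F) := rfl

/-- A diagonal element of `GL₂`. -/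
noncomputable def glDiag (a d : Fˣ) : (glLike F).D :=
  ⟨GL2.mk (a : F) 0 0 (d : F) (by simp), rfl, rfl⟩

@[simp] lemma glDiag00 (a d : Fˣ) : (glLike F).e (glDiag a d) 0 0 = a := rfl
@[simp] lemma glDiag11 (a d : Fˣ) : (glLike F).e (glDiag a d) 1 1 = d := rfl

/-- The label of a multiplicative character on `SL₂`. -/
noncomputable def slLab [Finite F] (α : MulChar F ℂ) : (slLike F).D →* ℂˣ :=
  α.toUnitHom.comp (slLike F).ent0

lemma slLab_val [Finite F] (α : MulChar F ℂ) (t : (slLike F).D) :
    ((slLab α t : ℂˣ) : ℂ) = α ((slLike F).e t 0 0) := by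
  simp [slLab, MulChar.coe_toUnitHom, GLike.ent0_coe]

/-- The label of a pair of multiplicative characters on `GL₂`. -/
noncomputable def glLab [Finite F] (α β : MulChar F ℂ) : (glLike F).D →* ℂˣ :=
  α.toUnitHom.comp (glLike F).ent0 * β.toUnitHom.comp (glLike F).ent1

lemma glLab_val [Finite F] (α β : MulChar F ℂ) (t : (glLike F).D) :
    ((glLab α β t : ℂˣ) : ℂ) = α ((glLike F).e t 0 0) * β ((glLike F).e t 1 1) := by
  simp [glLab, MulChar.coe_toUnitHom, GLike.ent0_coe, GLike.ent1_coe]

lemma slLab_inj [Finite F] (α β : MulChar F ℂ) : slLab α = slLab β ↔ α = β := by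
  constructor
  · intro h
    ext a
    have := congrArg (fun l : (slLike F).D →* ℂˣ => ((l (slDiag a) : ℂˣ) : ℂ)) h
    simpa only [slLab_val, slDiag00] using this
  · rintro rfl
    rfl

lemma slLab_sg [Finite F] (β : MulChar F ℂ) : (slLab β).comp (slLike F).sg = slLab β⁻¹ := by
  ext t
  simp only [MonoidHom.comp_apply, slLab_val, GLike.sg00]
  have hdet := (slLike F).D_le t.2
  have h1 : (slLike F).e t 1 1 = ((slLike F).e t 0 0)⁻¹ := by
    have := (t : SL(2, F)).2
    rw [Matrix.det_fin_two] at this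
    have h2 : (slLike F).e t 0 1 = 0 := t.2.1
    simp only [sl_e] at h2 ⊢
    rw [h2] at this
    have h3 : ((t : SL(2, F)) : Matrix (Fin 2) (Fin 2) F) 0 0 * ((t : SL(2, F)) : Matrix (Fin 2) (Fin 2) F) 1 1 = 1 := by
      linear_combination this
    exact eq_inv_of_mul_eq_one_right h3
  rw [h1, MulChar.inv_apply']

lemma glLab_inj [Finite F] (α β α' β' : MulChar F ℂ) :
    glLab α β = glLab α' β' ↔ α = α' ∧ β = β' := by
  constructor
  · intro h
    constructor
    · ext a
      have := congrArg (fun l : (glLike F).D →* ℂˣ => ((l (glDiag a 1) : ℂˣ) : ℂ)) h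
      simpa only [glLab_val, glDiag00, glDiag11, Units.val_one, MulChar.map_one, mul_one] using this
    · ext a
      have := congrArg (fun l : (glLike F).D →* ℂˣ => ((l (glDiag 1 a) : ℂˣ) : ℂ)) h
      simpa only [glLab_val, glDiag00, glDiag11, Units.val_one, MulChar.map_one, one_mul] using this
  · rintro ⟨rfl, rfl⟩
    rfl

lemma glLab_sg [Finite F] (α β : MulChar F ℂ) : (glLab α β).comp (glLike F).sg = glLab β α := by
  ext t
  simp only [MonoidHom.comp_apply, glLab_val, GLike.sg00, GLike.sg11]
  ring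

end labels

section generic

variable {G : Type u} [Group G] [Fintype F] [Fintype G] (L : GLike F G)

lemma GLike.classInner_R_self (l : L.D →* ℂˣ) [Decidable (l = l.comp L.sg)] :
    classInner (L.R l) (L.R l) = 1 + (if l = l.comp L.sg then 1 else 0) := by
  classical
  rw [L.classInner_R l l]
  simp only [if_true]

lemma GLike.sg_comp_sg (l : L.D →* ℂˣ) : (l.comp L.sg).comp L.sg = l := by
  ext t
  simp [GLike.sg_sg]

/-- `R` is invariant under the Weyl conjugation. -/
lemma GLike.R_comp_sg (l : L.D →* ℂˣ) : L.R (l.comp L.sg) = L.R l := by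
  classical
  rw [← sub_eq_zero]
  apply classInner_self_eq_zero.mp
  rw [classInner_sub_left, classInner_sub_right, classInner_sub_right]
  simp only [L.classInner_R, GLike.sg_comp_sg]
  by_cases h : l = l.comp L.sg
  · have h' : l.comp L.sg = l := h.symm
    simp [h']
  · have h' : ¬ l.comp L.sg = l := fun e => h e.symm
    simp [h, h']

/-- `R` is irreducible if `l` is not Weyl-invariant. -/
lemma GLike.R_irr (l : L.D →* ℂˣ) (h : l ≠ l.comp L.sg) : IsIrrCharacter G (L.R l) := by
  classical
  apply isIrr_of_character_norm_one (L.R_isCharacter l)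
  rw [L.classInner_R_self, if_neg h, add_zero]

lemma GLike.R_not_irr (l : L.D →* ℂˣ) (h : l = l.comp L.sg) : ¬ IsIrrCharacter G (L.R l) := by
  classical
  intro hi
  have h1 := classInner_irr_self hi
  rw [L.classInner_R_self, if_pos h] at h1
  norm_num at h1

end generic

end Cfsg.Agent.Lib.KS2.RK
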