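import Mathlib
import Cfsg.Agent.Lib.KS2.GLikeInst
import Cfsg.Agent.Lib.KS2.Torus

set_option autoImplicit false
set_option linter.unusedSimpArgs false
set_option linter.unusedVariables false
set_option linter.unusedSectionVars false

namespace Cfsg.Agent.Lib.KS2.RK

open Matrix Cfsg Cfsg.Agent.Lib.Char
open scoped MatrixGroups ComplexConjugate

universe u

/-- The non-split torus of a `GLike` group. -/
def GLike.T {F : Type*} [Field F] {G : Type u} [Group G] (L : GLike F G) (ν : F) : Subgroup G :=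
  (SL2.dtorus 1 ν).comap L.ι

/-- A `GLike` group with the data of a non-split torus. -/
structure Cx (F : Type*) [Field F] [Fintype F] (G : Type u) [Group G] extends GLike F G where
  ν : F
  hν : ∀ u : F, u ^ 2 - 1 * u + ν ≠ 0
  wr : F
  ws : F
  hw : SL2.nform 1 ν wr ws = -1
  δ : ℕ
  hδ : 0 < δ
  hD : Nat.card toGLike.D = δ * (Fintype.card F - 1)
  hT : Nat.card (toGLike.T ν) = δ * (Fintype.card F + 1)

namespace Cx

variable {F : Type*} [Field F] [Fintype F] {G : Type u} [Group G] (C : Cx F G)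

/-- The torus. -/
abbrev T : Subgroup G := C.toGLike.T C.ν

lemma mem_T {g : G} : g ∈ C.T ↔ C.e g 0 1 = -C.ν * C.e g 1 0 ∧ C.e g 1 1 = C.e g 0 0 + C.e g 1 0 := by
  show (_ ∧ _) ↔ _
  simp only [GLike.e, one_mul]

/-- The norm form is anisotropic. -/
lemma nform_ne {p r : F} (h : ¬ (p = 0 ∧ r = 0)) : p ^ 2 + p * r + C.ν * r ^ 2 ≠ 0 := by
  intro h0
  apply h
  apply SL2.nform_eq_zero 1 C.ν C.hν
  simp only [SL2.nform]
  linear_combination h0

lemma ν_ne : C.ν ≠ 0 := by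
  have := C.hν 0
  simpa using this

/-- Nonscalar elements of `T` have no eigenvector. -/
lemma T_no_eig {t : G} (ht : t ∈ C.T) (hb : C.e t 1 0 ≠ 0) (p r : F) (h : ¬ (p = 0 ∧ r = 0)) :
    - r * (C.e t 0 0 * p + C.e t 0 1 * r) + p * (C.e t 1 0 * p + C.e t 1 1 * r) ≠ 0 := by
  obtain ⟨h1, h2⟩ := (C.mem_T).mp ht
  rw [h1, h2]
  have : - r * (C.e t 0 0 * p + -C.ν * C.e t 1 0 * r) + p * (C.e t 1 0 * p + (C.e t 0 0 + C.e t 1 0) * r) =
      C.e t 1 0 * (p ^ 2 + p * r + C.ν * r ^ 2) := by ring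
  rw [this]
  exact mul_ne_zero hb (C.nform_ne h)

/-- Commuting with a nonscalar element of `T` implies belonging to `T`. -/
lemma mem_T_of_comm {t x : G} (ht : t ∈ C.T) (hb : C.e t 1 0 ≠ 0) (h : t * x = x * t) : x ∈ C.T := by
  obtain ⟨h1, h2⟩ := (C.mem_T).mp ht
  have e1 := congrArg (fun z => C.e z 0 0) h
  have e2 := congrArg (fun z => C.e z 0 1) h
  have e3 := congrArg (fun z => C.e z 1 0) h
  have e4 := congrArg (fun z => C.e z 1 1) h
  simp only [GLike.e_mul00, GLike.e_mul01, GLike.e_mul10, GLike.e_mul11, h1, h2] at e1 e2 e3 e4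
  rw [C.mem_T]
  have hν := C.ν_ne
  constructor
  · apply mul_left_cancel₀ hb
    linear_combination -e1
  · apply mul_left_cancel₀ hb
    linear_combination -e3

/-- Entries of a product in `T`. -/
lemma T_comm {a b : G} (ha : a ∈ C.T) (hb : b ∈ C.T) : a * b = b * a := by
  obtain ⟨h1, h2⟩ := (C.mem_T).mp ha
  obtain ⟨h3, h4⟩ := (C.mem_T).mp hb
  apply C.ext' <;> simp only [GLike.e_mul00, GLike.e_mul01, GLike.e_mul10, GLike.e_mul11, h1, h2, h3, h4] <;> ring

/-- Elements of `T` with the same trace and determinant. -/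
lemma T_same_tr_dt {t y : G} (ht : t ∈ C.T) (hy : y ∈ C.T)
    (htr : C.e y 0 0 + C.e y 1 1 = C.e t 0 0 + C.e t 1 1)
    (hdt : C.e y 0 0 * C.e y 1 1 - C.e y 0 1 * C.e y 1 0 = C.e t 0 0 * C.e t 1 1 - C.e t 0 1 * C.e t 1 0) :
    (C.e y 0 0 = C.e t 0 0 ∧ C.e y 1 0 = C.e t 1 0) ∨
      (C.e y 0 0 = C.e t 0 0 + C.e t 1 0 ∧ C.e y 1 0 = - C.e t 1 0) := by
  obtain ⟨h1, h2⟩ := (C.mem_T).mp ht
  obtain ⟨h3, h4⟩ := (C.mem_T).mp hy
  rw [h1, h2, h3, h4] at hdt
  rw [h2, h4] at htr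
  set a := C.e t 0 0
  set b := C.e t 1 0
  set a' := C.e y 0 0
  set b' := C.e y 1 0
  have hmul := SL2.nform_mul 1 C.ν (a' - a) (b' - b) (a' - a - b) (b' + b)
  have e1 : (a' - a) * (a' - a - b) - (b' - b) * (b' + b) * C.ν = 0 := by
    linear_combination -hdt + a' * htr
  have e2 : (a' - a) * (b' + b) + (b' - b) * (a' - a - b) + (b' - b) * (b' + b) * 1 = 0 := by
    linear_combination b' * htr
  rw [e1, e2] at hmul
  have h0 : SL2.nform 1 C.ν 0 0 = 0 := by simp [SL2.nform]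
  rw [h0] at hmul
  rcases mul_eq_zero.mp hmul.symm with h5 | h5
  · obtain ⟨h6, h7⟩ := SL2.nform_eq_zero 1 C.ν C.hν h5
    left
    exact ⟨sub_eq_zero.mp h6, sub_eq_zero.mp h7⟩
  · obtain ⟨h6, h7⟩ := SL2.nform_eq_zero 1 C.ν C.hν h5
    right
    constructor
    · linear_combination h6
    · linear_combination h7

/-- The Weyl element of the torus. -/
def wt : G := C.s (SL2.mk C.wr (C.wr + C.ν * C.ws) C.ws (-C.wr) (by
  have := C.hw
  simp only [SL2.nform] at this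
  linear_combination -this))

lemma wt00 : C.e C.wt 0 0 = C.wr := by simp [wt, GLike.e_s]
lemma wt01 : C.e C.wt 0 1 = C.wr + C.ν * C.ws := by simp [wt, GLike.e_s]
lemma wt10 : C.e C.wt 1 0 = C.ws := by simp [wt, GLike.e_s]
lemma wt11 : C.e C.wt 1 1 = -C.wr := by simp [wt, GLike.e_s]

/-- The conjugation by the Weyl element on `T`. -/
lemma wt_conj {t : G} (ht : t ∈ C.T) :
    C.e (C.wt⁻¹ * t * C.wt) 0 0 = C.e t 0 0 + C.e t 1 0 ∧
    C.e (C.wt⁻¹ * t * C.wt) 1 0 = - C.e t 1 0 ∧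
    (C.wt⁻¹ * t * C.wt) ∈ C.T := by
  obtain ⟨h1, h2⟩ := (C.mem_T).mp ht
  obtain ⟨e1, e2, e3, e4⟩ := C.conj_eqs C.wt t
  set y := C.wt⁻¹ * t * C.wt with hy
  simp only [wt00, wt01, wt10, wt11, h1, h2] at e1 e2 e3 e4
  have hw := C.hw
  simp only [SL2.nform] at hw
  set a := C.e t 0 0
  set b := C.e t 1 0
  set r := C.wr
  set s := C.ws
  have hy00 : C.e y 0 0 = a + b := by
    linear_combination r * e1 + (r + C.ν * s) * e2 + (C.e y 0 0 - a - b) * hw
  have hy10 : C.e y 1 0 = - b := by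
    linear_combination s * e1 - r * e2 + (C.e y 1 0 + b) * hw
  have hy01 : C.e y 0 1 = C.ν * b := by
    linear_combination r * e3 + (r + C.ν * s) * e4 + (C.e y 0 1 - C.ν * b) * hw
  have hy11 : C.e y 1 1 = a := by
    linear_combination s * e3 - r * e4 + (C.e y 1 1 - a) * hw
  refine ⟨hy00, hy10, ?_⟩
  rw [C.mem_T, hy01, hy10, hy00, hy11]
  constructor <;> ring

lemma wt_not_mem : C.wt ∉ C.T := by
  intro h
  obtain ⟨h1, h2, h3⟩ := C.wt_conj h
  have e : C.wt⁻¹ * C.wt * C.wt = C.wt := by group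
  rw [e] at h1
  have hs : C.e C.wt 1 0 = 0 := by linear_combination -h1
  obtain ⟨h4, h5⟩ := (C.mem_T).mp h
  rw [hs, mul_zero] at h4
  rw [wt10] at hs
  rw [wt01, hs, mul_zero, add_zero] at h4
  have := C.hw
  simp only [SL2.nform, h4, hs] at this
  norm_num at this

/-- The conjugation on the torus. -/
def sgT : C.T →* C.T where
  toFun t := ⟨C.wt⁻¹ * t * C.wt, (C.wt_conj t.2).2.2⟩
  map_one' := by
    apply Subtype.ext
    simp
  map_mul' a b := by
    apply Subtype.ext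
    simp only [Subgroup.coe_mul]
    group

lemma sgT00 (t : C.T) : C.e (C.sgT t) 0 0 = C.e t 0 0 + C.e t 1 0 := (C.wt_conj t.2).1
lemma sgT10 (t : C.T) : C.e (C.sgT t) 1 0 = - C.e t 1 0 := (C.wt_conj t.2).2.1

lemma T_ext {a b : G} (ha : a ∈ C.T) (hb : b ∈ C.T) (h0 : C.e a 0 0 = C.e b 0 0)
    (h1 : C.e a 1 0 = C.e b 1 0) : a = b := by
  obtain ⟨a1, a2⟩ := (C.mem_T).mp ha
  obtain ⟨b1, b2⟩ := (C.mem_T).mp hb
  apply C.ext' h0
  · rw [a1, b1, h1]
  · exact h1
  · rw [a2, b2, h0, h1]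

lemma sgT_sgT (t : C.T) : C.sgT (C.sgT t) = t := by
  apply Subtype.ext
  apply C.T_ext (C.sgT (C.sgT t)).2 t.2
  · rw [sgT00, sgT00, sgT10]; ring
  · rw [sgT10, sgT10]; ring

/-- The scalars. -/
def Z : Subgroup G where
  carrier := {g | C.e g 0 1 = 0 ∧ C.e g 1 0 = 0 ∧ C.e g 0 0 = C.e g 1 1}
  mul_mem' := by
    rintro a b ⟨h1, h2, h3⟩ ⟨h4, h5, h6⟩
    refine ⟨?_, ?_, ?_⟩
    · simp only [GLike.e_mul01, h1, h4]; ring
    · simp only [GLike.e_mul10, h2, h5]; ring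
    · simp only [GLike.e_mul00, GLike.e_mul11, h1, h2, h3, h6]; ring
  one_mem' := ⟨C.e_one01, C.e_one10, by rw [C.e_one00, C.e_one11]⟩
  inv_mem' := by
    rintro a ⟨h1, h2, h3⟩
    obtain ⟨h4, h5, h6, h7⟩ := C.diag_inv h1 h2
    refine ⟨h4, h5, ?_⟩
    have hne := C.e00_ne_of_mem h2
    apply mul_left_cancel₀ hne
    rw [h6, h3, h7]

lemma mem_Z {g : G} : g ∈ C.Z ↔ C.e g 0 1 = 0 ∧ C.e g 1 0 = 0 ∧ C.e g 0 0 = C.e g 1 1 := Iff.rfl

lemma Z_le_T : C.Z ≤ C.T := by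
  rintro g ⟨h1, h2, h3⟩
  rw [C.mem_T, h1, h2, h3]
  constructor <;> ring

lemma Z_le_D : C.Z ≤ C.D := fun g hg => ⟨hg.1, hg.2.1⟩

lemma Z_le_H : C.Z ≤ C.H := fun g hg => C.mem_H.mpr hg.2.1

/-- An element of `T` is scalar iff its lower-left entry vanishes. -/
lemma mem_Z_of_T {t : G} (ht : t ∈ C.T) : t ∈ C.Z ↔ C.e t 1 0 = 0 := by
  obtain ⟨h1, h2⟩ := (C.mem_T).mp ht
  constructor
  · exact fun h => h.2.1
  · intro h
    refine ⟨?_, h, ?_⟩
    · rw [h1, h]; ring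
    · rw [h2, h]; ring

lemma mem_Z_of_D {t : G} (ht : t ∈ C.D) : t ∈ C.Z ↔ C.e t 0 0 = C.e t 1 1 :=
  ⟨fun h => h.2.2, fun h => ⟨ht.1, ht.2, h⟩⟩

lemma Z_comm {z : G} (hz : z ∈ C.Z) (x : G) : z * x = x * z := by
  obtain ⟨h1, h2, h3⟩ := hz
  apply C.ext' <;> simp only [GLike.e_mul00, GLike.e_mul01, GLike.e_mul10, GLike.e_mul11, h1, h2, h3] <;> ring

lemma Z_conj {z : G} (hz : z ∈ C.Z) (x : G) : x⁻¹ * z * x = z := by
  rw [mul_assoc, C.Z_comm hz x, inv_mul_cancel_left]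

/-- The Weyl conjugation on `T` fixes the scalars. -/
lemma sgT_of_Z (t : C.T) (hz : (t : G) ∈ C.Z) : C.sgT t = t := by
  apply Subtype.ext
  exact C.Z_conj hz C.wt

/-- An element of `G` with a given first column. -/
lemma exists_first_col (p r : F) (h : ¬ (p = 0 ∧ r = 0)) : ∃ x : G, C.e x 0 0 = p ∧ C.e x 1 0 = r := by
  by_cases hp : p = 0
  · have hr : r ≠ 0 := fun h0 => h ⟨hp, h0⟩
    refine ⟨C.s (SL2.mk p (-r⁻¹) r 0 (by field_simp; simp)), ?_, ?_⟩ <;> simp [GLike.e_s]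
  · refine ⟨C.s (SL2.mk p 0 r p⁻¹ (by field_simp; simp)), ?_, ?_⟩ <;> simp [GLike.e_s]

/-- Having an eigenvector means being conjugate into `H`. -/
lemma exists_conj_H {g : G} (h : ¬ ∀ p r : F, ¬ (p = 0 ∧ r = 0) →
    - r * (C.e g 0 0 * p + C.e g 0 1 * r) + p * (C.e g 1 0 * p + C.e g 1 1 * r) ≠ 0) :
    ∃ x : G, x⁻¹ * g * x ∈ C.H := by
  simp only [not_forall, ne_eq, not_not] at h
  obtain ⟨p, r, h1, h2⟩ := h
  obtain ⟨x, hx1, hx2⟩ := C.exists_first_col p r h1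
  refine ⟨x, C.mem_H.mpr ?_⟩
  rw [C.conj_e10_eq_zero_iff, hx1, hx2, h2]

section ind

variable [Fintype G]

/-- Value at central elements of an induced function. -/
lemma ind_central (K : Subgroup G) (φ : K → ℂ) {z : G} (hz : z ∈ C.Z) (hK : z ∈ K) :
    indFun K φ z = (Nat.card K : ℂ)⁻¹ * (Nat.card G : ℂ) * φ ⟨z, hK⟩ := by
  rw [indFun_apply, mul_assoc]
  congr 1
  simp only [C.Z_conj hz]
  rw [extendByZero_of_mem K φ hK, Finset.sum_const, Finset.card_univ, nsmul_eq_mul,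
    Fintype.card_eq_nat_card]

lemma card_filter_mem_T [DecidablePred fun x : G => x ∈ C.T] :
    (Finset.univ.filter (fun x : G => x ∈ C.T)).card = Nat.card C.T := by
  rw [Nat.card_eq_fintype_card, Fintype.card_subtype]

lemma card_filter_mem_T' [DecidablePred fun x : G => x * C.wt⁻¹ ∈ C.T] :
    (Finset.univ.filter (fun x : G => x * C.wt⁻¹ ∈ C.T)).card = Nat.card C.T := by
  classical
  rw [← C.card_filter_mem_T]
  apply Finset.card_bij (fun x _ => x * C.wt⁻¹)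
  · intro x hx
    simpa using hx
  · intro a _ b _ hab
    exact mul_right_cancel hab
  · intro b hb
    refine ⟨b * C.wt, ?_, by group⟩
    simp only [Finset.mem_filter, Finset.mem_univ, true_and, mul_inv_cancel_right]
    simpa using hb

/-- The value of an induced function on a nonscalar element of `T`. -/
theorem ind_T (φ : C.T → ℂ) (t : C.T) (hb : C.e t 1 0 ≠ 0) :
    indFun C.T φ t = φ t + φ (C.sgT t) := by
  classical
  rw [indFun_apply]
  have hF : ∀ x : G, extendByZero C.T φ (x⁻¹ * t * x) =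
      (if x ∈ C.T then φ t else 0) + (if x * C.wt⁻¹ ∈ C.T then φ (C.sgT t) else 0) := by
    intro x
    by_cases hx : x ∈ C.T
    · have hx' : x * C.wt⁻¹ ∉ C.T := by
        intro h
        apply C.wt_not_mem
        have := C.T.mul_mem (C.T.inv_mem h) hx
        simpa using this
      have e : x⁻¹ * t * x = t := by
        rw [mul_assoc, C.T_comm t.2 hx, inv_mul_cancel_left]
      rw [if_pos hx, if_neg hx', add_zero, e, extendByZero_of_mem C.T φ t.2]
    · rw [if_neg hx, zero_add]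
      by_cases hx' : x * C.wt⁻¹ ∈ C.T
      · rw [if_pos hx']
        have e : x⁻¹ * t * x = C.wt⁻¹ * t * C.wt := by
          have h1 : t * (x * C.wt⁻¹) = (x * C.wt⁻¹) * t := C.T_comm t.2 hx'
          have h2 : x = (x * C.wt⁻¹) * C.wt := by group
          calc x⁻¹ * t * x = C.wt⁻¹ * (x * C.wt⁻¹)⁻¹ * (t * (x * C.wt⁻¹)) * C.wt := by group
            _ = C.wt⁻¹ * t * C.wt := by rw [h1]; group
        rw [e]
        exact extendByZero_of_mem C.T φ (C.wt_conj t.2).2.2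
      · rw [if_neg hx']
        apply extendByZero_of_not_mem
        intro hy
        have hcases := C.T_same_tr_dt t.2 hy (C.tr_conj x t) (C.dt_conj x t)
        rcases hcases with ⟨h1, h2⟩ | ⟨h1, h2⟩
        · have e : x⁻¹ * t * x = t := C.T_ext hy t.2 h1 h2
          apply hx
          apply C.mem_T_of_comm t.2 hb
          calc (t : G) * x = x * (x⁻¹ * t * x) := by group
            _ = x * t := by rw [e]
        · have e : x⁻¹ * t * x = C.wt⁻¹ * t * C.wt := by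
            apply C.T_ext hy (C.wt_conj t.2).2.2
            · rw [h1, (C.wt_conj t.2).1]
            · rw [h2, (C.wt_conj t.2).2.1]
          apply hx'
          apply C.mem_T_of_comm t.2 hb
          calc (t : G) * (x * C.wt⁻¹) = x * (x⁻¹ * t * x) * C.wt⁻¹ := by group
            _ = x * (C.wt⁻¹ * t * C.wt) * C.wt⁻¹ := by rw [e]
            _ = (x * C.wt⁻¹) * t := by group
  simp only [hF]
  rw [GLike.sum_two_cond, C.card_filter_mem_T, C.card_filter_mem_T', nsmul_eq_mul, nsmul_eq_mul]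
  have := card_subgroup_ne_zero C.T
  field_simp

/-- Elements of `H` which are not scalar are not conjugate into `T`. -/
lemma conj_not_T {g : G} (hg : g ∈ C.H) (hz : g ∉ C.Z) (x : G) : x⁻¹ * g * x ∉ C.T := by
  intro hy
  have hb : C.e (x⁻¹ * g * x) 1 0 = 0 := by
    by_contra hb
    have e : (x⁻¹)⁻¹ * (x⁻¹ * g * x) * x⁻¹ = g := by group
    have := C.T_no_eig hy hb _ _ (C.first_col_ne x⁻¹)
    apply this
    rw [← C.conj_e10_eq_zero_iff, e]
    exact C.mem_H.mp hg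
  have hz' := (C.mem_Z_of_T hy).mpr hb
  apply hz
  have e : g = x * (x⁻¹ * g * x) * x⁻¹ := by group
  rw [e, ← C.Z_comm hz' x, mul_assoc, mul_inv_cancel, mul_one]
  exact hz'

/-- An induced function on `T` vanishes on nonscalar elements of `H`. -/
theorem ind_T_off (φ : C.T → ℂ) {g : G} (hg : g ∈ C.H) (hz : g ∉ C.Z) : indFun C.T φ g = 0 := by
  rw [indFun_apply]
  have : ∀ x : G, extendByZero C.T φ (x⁻¹ * g * x) = 0 := fun x =>
    extendByZero_of_not_mem _ _ (C.conj_not_T hg hz x)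
  simp [this]

end ind

end Cx

end Cfsg.Agent.Lib.KS2.RK
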