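import Mathlib
import Cfsg.Agent.Lib.KS2.GLikeT

set_option autoImplicit false
set_option linter.unusedSimpArgs false
set_option linter.unusedVariables false
set_option linter.unusedSectionVars false

namespace Cfsg.Agent.Lib.KS2.RK

open Matrix Cfsg Cfsg.Agent.Lib.Char
open scoped MatrixGroups ComplexConjugate

universe u

namespace Cx

variable {F : Type*} [Field F] [Fintype F] {G : Type u} [Group G] [Fintype G] (C : Cx F G)

local notation "q" => (Fintype.card F)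

lemma tu_mem (t : C.D) (c : F) : (t : G) * C.u c ∈ C.H := C.mem_of_mul_u t c

lemma tu00 (t : C.D) (c : F) : C.e ((t : G) * C.u c) 0 0 = C.e t 0 0 := C.splitH_00 t c
lemma tu01 (t : C.D) (c : F) : C.e ((t : G) * C.u c) 0 1 = C.e t 0 0 * c := C.splitH_01 t c
lemma tu10 (t : C.D) (c : F) : C.e ((t : G) * C.u c) 1 0 = 0 := C.splitH_10 t c
lemma tu11 (t : C.D) (c : F) : C.e ((t : G) * C.u c) 1 1 = C.e t 1 1 := C.splitH_11 t c

lemma dg_tu (t : C.D) (c : F) : C.dgHom ⟨(t : G) * C.u c, C.tu_mem t c⟩ = t := C.dgHom_splitH t c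

lemma not_Z_iff (t : C.D) : (t : G) ∉ C.Z ↔ C.e t 0 0 ≠ C.e t 1 1 := by
  rw [C.mem_Z_of_D t.2]

lemma R_tu_reg (l : C.D →* ℂˣ) (t : C.D) (ht : (t : G) ∉ C.Z) (c : F) :
    C.R l ((t : G) * C.u c) = ((l t : ℂˣ) : ℂ) + ((l (C.sg t) : ℂˣ) : ℂ) := by
  have h3 : C.e ((t : G) * C.u c) 0 0 ≠ C.e ((t : G) * C.u c) 1 1 := by
    rw [tu00, tu11]
    exact (C.not_Z_iff t).mp ht
  rw [C.R_reg l (C.tu_mem t c) h3, C.dg_tu]

lemma R_tu_unip (l : C.D →* ℂˣ) (t : C.D) (ht : (t : G) ∈ C.Z) {c : F} (hc : c ≠ 0) :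
    C.R l ((t : G) * C.u c) = ((l t : ℂˣ) : ℂ) := by
  have h3 : C.e ((t : G) * C.u c) 0 0 = C.e ((t : G) * C.u c) 1 1 := by
    rw [tu00, tu11]
    exact ht.2.2
  have h4 : C.e ((t : G) * C.u c) 0 1 ≠ 0 := by
    rw [tu01]
    exact mul_ne_zero (C.e00_ne_of_mem t.2.2) hc
  rw [C.R_unip l (C.tu_mem t c) h3 h4, C.dg_tu]

lemma R_z (l : C.D →* ℂˣ) (t : C.D) (ht : (t : G) ∈ C.Z) :
    C.R l (t : G) = ((q : ℂ) + 1) * ((l t : ℂˣ) : ℂ) := by
  rw [C.R_scalar l (C.D_le t.2) ht.2.2 ht.1, C.dgHom_of_D]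

lemma R_T_off (l : C.D →* ℂˣ) {t : G} (ht : t ∈ C.T) (hz : t ∉ C.Z) : C.R l t = 0 := by
  rw [C.mem_Z_of_T ht] at hz
  exact C.R_no_eig l (C.T_no_eig ht hz)

lemma R_one_real (g : G) : conj (C.R 1 g) = C.R 1 g := by
  classical
  simp only [GLike.R, indFun_apply, map_mul, map_inv₀, map_sum, Complex.conj_natCast]
  congr 1
  refine Finset.sum_congr rfl fun x _ => ?_
  by_cases h : x⁻¹ * g * x ∈ C.H
  · rw [extendByZero_of_mem _ _ h]
    simp
  · rw [extendByZero_of_not_mem _ _ h]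
    simp

/-- The central sum of a function on a subgroup containing the scalars. -/
lemma sum_Z (K : Subgroup G) (hK : C.Z ≤ K) [Fintype K] [Fintype C.Z] (f : K → ℂ)
    (hf : ∀ t : K, (t : G) ∉ C.Z → f t = 0) :
    ∑ t : K, f t = ∑ z : C.Z, f ⟨z, hK z.2⟩ := by
  classical
  symm
  apply Finset.sum_of_injOn (fun z : C.Z => (⟨z, hK z.2⟩ : K))
  · intro a _ b _ h
    apply Subtype.ext
    exact congrArg (fun y : K => (y : G)) h
  · intro a _
    simp
  · intro t _ ht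
    apply hf
    intro h
    apply ht
    exact ⟨⟨t, h⟩, by simp, rfl⟩
  · intro a _
    rfl

lemma card_H_eq : Nat.card C.H = C.δ * (q - 1) * q := by
  rw [C.card_H, C.hD]

lemma q_two_le (F : Type*) [Field F] [Fintype F] : 2 ≤ Fintype.card F := Fintype.one_lt_card

lemma card_G_eq : Nat.card G = (q + 1) * (C.δ * (q - 1) * q) := by
  rw [C.card_G, C.card_H_eq]

lemma qsub_cast (F : Type*) [Field F] [Fintype F] : ((Fintype.card F - 1 : ℕ) : ℂ) = (Fintype.card F : ℂ) - 1 := by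
  rw [Nat.cast_sub (le_trans (by norm_num) (q_two_le F))]
  simp

lemma δ_ne : (C.δ : ℂ) ≠ 0 := by exact_mod_cast C.hδ.ne'
lemma q_ne (F : Type*) [Field F] [Fintype F] : (Fintype.card F : ℂ) ≠ 0 := by exact_mod_cast Fintype.card_ne_zero
lemma q1_ne (F : Type*) [Field F] [Fintype F] : (Fintype.card F : ℂ) - 1 ≠ 0 := by
  have h := q_two_le F
  rw [← qsub_cast]
  exact_mod_cast (by omega : Fintype.card F - 1 ≠ 0)
lemma qp_ne (F : Type*) [Field F] [Fintype F] : (Fintype.card F : ℂ) + 1 ≠ 0 := by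
  exact_mod_cast (by omega : Fintype.card F + 1 ≠ 0)

lemma card_H_c : (Nat.card C.H : ℂ) = C.δ * ((q : ℂ) - 1) * q := by
  rw [C.card_H_eq]
  push_cast
  rw [qsub_cast]

lemma card_T_c : (Nat.card C.T : ℂ) = C.δ * ((q : ℂ) + 1) := by
  rw [C.hT]
  push_cast
  ring

lemma card_G_c : (Nat.card G : ℂ) = ((q : ℂ) + 1) * (C.δ * ((q : ℂ) - 1) * q) := by
  rw [C.card_G_eq]
  push_cast
  rw [qsub_cast]

/-- The inclusion of scalars in the diagonal group. -/
def zD : C.Z →* C.D := Subgroup.inclusion C.Z_le_D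
/-- The inclusion of scalars in the torus. -/
def zT : C.Z →* C.T := Subgroup.inclusion C.Z_le_T

@[simp] lemma zD_coe (z : C.Z) : ((C.zD z : C.D) : G) = z := rfl
@[simp] lemma zT_coe (z : C.Z) : ((C.zT z : C.T) : G) = z := rfl

/-- Inner product of `R m` with a function supported near the scalars. -/
theorem inner_R_Z (m : C.D →* ℂˣ) (f : G → ℂ) (hf : IsClassFunction G f) (g' : C.Z → ℂ) (A B : ℂ)
    (h1 : ∀ t : C.D, (t : G) ∉ C.Z → ∀ c : F, f ((t : G) * C.u c) = 0)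
    (h2 : ∀ z : C.Z, f z = A * g' z)
    (h3 : ∀ z : C.Z, ∀ c : F, c ≠ 0 → f ((z : G) * C.u c) = B * g' z) [Fintype C.Z] :
    classInner (C.R m) f = (Nat.card C.H : ℂ)⁻¹ * (conj A + ((q : ℂ) - 1) * conj B) *
      ∑ z : C.Z, ((m (C.zD z) : ℂˣ) : ℂ) * conj (g' z) := by
  classical
  letI : Fintype C.H := Fintype.ofFinite _
  letI : Fintype C.D := Fintype.ofFinite _
  rw [GLike.R, frobenius_reciprocity C.H _ f hf, classInner_def, mul_assoc]
  congr 1
  rw [C.sum_H]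
  simp only [C.dgHom_splitH]
  rw [C.sum_Z C.D C.Z_le_D (fun t => ∑ c : F, ((m t : ℂˣ) : ℂ) * conj (f ((C.splitH (t, c) : C.H) : G)))]
  · rw [Finset.mul_sum]
    refine Finset.sum_congr rfl fun z _ => ?_
    have hz : ∀ c : F, ((m ⟨z, C.Z_le_D z.2⟩ : ℂˣ) : ℂ) *
        conj (f ((C.splitH (⟨z, C.Z_le_D z.2⟩, c) : C.H) : G)) =
        ((m (C.zD z) : ℂˣ) : ℂ) * conj (g' z) *
          (if c = 0 then conj A else conj B) := by
      intro c
      have h4 : ((C.splitH (⟨z, C.Z_le_D z.2⟩, c) : C.H) : G) = (z : G) * C.u c := rfl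
      rw [h4]
      split_ifs with hc
      · rw [hc, C.u_zero, mul_one, h2, map_mul]
        have : (⟨z, C.Z_le_D z.2⟩ : C.D) = C.zD z := rfl
        rw [this]
        ring
      · rw [h3 z c hc, map_mul]
        have : (⟨z, C.Z_le_D z.2⟩ : C.D) = C.zD z := rfl
        rw [this]
        ring
    simp only [hz]
    rw [← Finset.mul_sum]
    have hsum : ∑ c : F, (if c = 0 then conj A else conj B) = conj A + ((q : ℂ) - 1) * conj B := by
      rw [← Finset.add_sum_erase Finset.univ _ (Finset.mem_univ (0 : F))]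
      simp only [if_true]
      congr 1
      have : ∀ c ∈ Finset.univ.erase (0 : F), (if c = 0 then conj A else conj B) = conj B := by
        intro c hc
        rw [if_neg (Finset.ne_of_mem_erase hc)]
      rw [Finset.sum_congr rfl this, Finset.sum_const, Finset.card_erase_of_mem (Finset.mem_univ _),
        Finset.card_univ, nsmul_eq_mul, qsub_cast]
    rw [hsum]
    ring
  · intro t ht
    have h4 : ∀ c : F, ((C.splitH (t, c) : C.H) : G) = (t : G) * C.u c := fun c => rfl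
    simp only [h4, h1 t ht]
    simp

end Cx

end Cfsg.Agent.Lib.KS2.RK
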