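import Mathlib
import Cfsg.Agent.Lib.KS2.GLikeV

set_option autoImplicit false
set_option linter.unusedSimpArgs false
set_option linter.unusedVariables false
set_option linter.unusedSectionVars false

namespace Cfsg.Agent.Lib.KS2.RK

open Matrix Cfsg Cfsg.Agent.Lib.Char
open scoped MatrixGroups ComplexConjugate

universe u

namespace Cx

variable {F : Type*} [Field F] [Fintype F] {G : Type u} [Group G] [Fintype G] (C : Cx F G)

local notation "q" => (Fintype.card F)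

/-- The function induced from the torus. -/
noncomputable def IT (θ : C.T →* ℂˣ) : G → ℂ := indFun C.T (fun t => ((θ t : ℂˣ) : ℂ))

lemma IT_isCharacter (θ : C.T →* ℂˣ) : IsCharacter G (C.IT θ) :=
  indFun_isCharacter C.T (IsIrrCharacter.isCharacter (isIrrCharacter_of_hom θ))

lemma IT_isClass (θ : C.T →* ℂˣ) : IsClassFunction G (C.IT θ) := indFun_isClassFunction _ _

lemma IT_T_off (θ : C.T →* ℂˣ) (t : C.T) (hz : (t : G) ∉ C.Z) :
    C.IT θ t = ((θ t : ℂˣ) : ℂ) + ((θ (C.sgT t) : ℂˣ) : ℂ) := by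
  rw [C.mem_Z_of_T t.2] at hz
  exact C.ind_T _ t hz

lemma IT_z (θ : C.T →* ℂˣ) (z : C.Z) :
    C.IT θ z = (q : ℂ) * ((q : ℂ) - 1) * ((θ (C.zT z) : ℂˣ) : ℂ) := by
  rw [IT, C.ind_central C.T _ z.2 (C.Z_le_T z.2), C.card_T_c, C.card_G_c]
  have h1 := C.δ_ne
  have h2 := qp_ne F
  field_simp
  rfl

lemma IT_H_off (θ : C.T →* ℂˣ) {g : G} (hg : g ∈ C.H) (hz : g ∉ C.Z) : C.IT θ g = 0 :=
  C.ind_T_off _ hg hz

/-- Frobenius reciprocity for `IT`. -/
lemma classInner_IT (θ : C.T →* ℂˣ) (f : G → ℂ) (hf : IsClassFunction G f) [Fintype C.T] :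
    classInner (C.IT θ) f = (Nat.card C.T : ℂ)⁻¹ * ∑ t : C.T, ((θ t : ℂˣ) : ℂ) * conj (f t) := by
  rw [IT, frobenius_reciprocity C.T _ f hf, classInner_def]

/-- Inner product with `IT` of a function supported on the scalars of `T`. -/
lemma inner_IT_Z (θ : C.T →* ℂˣ) (f : G → ℂ) (hf : IsClassFunction G f) (g' : C.Z → ℂ) (A : ℂ)
    (h1 : ∀ t : C.T, (t : G) ∉ C.Z → f t = 0) (h2 : ∀ z : C.Z, f z = A * g' z) [Fintype C.Z] :
    classInner (C.IT θ) f = (Nat.card C.T : ℂ)⁻¹ * conj A *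
      ∑ z : C.Z, ((θ (C.zT z) : ℂˣ) : ℂ) * conj (g' z) := by
  classical
  letI : Fintype C.T := Fintype.ofFinite _
  rw [C.classInner_IT θ f hf, C.sum_Z C.T C.Z_le_T (fun t => ((θ t : ℂˣ) : ℂ) * conj (f t)), mul_assoc]
  · congr 1
    rw [Finset.mul_sum]
    refine Finset.sum_congr rfl fun z _ => ?_
    have : (⟨z, C.Z_le_T z.2⟩ : C.T) = C.zT z := rfl
    simp only [this, zT_coe, h2, map_mul]
    ring
  · intro t ht
    simp only [h1 t ht]
    simp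

/-- The `(R 1 - 2) R l` function. -/
noncomputable def Gam (l : C.D →* ℂˣ) : G → ℂ := fun g => (C.R 1 g - 2) * C.R l g

lemma Gam_isClass (l : C.D →* ℂˣ) : IsClassFunction G (C.Gam l) := by
  intro g h
  simp only [Gam, C.R_isClass 1 g h, C.R_isClass l g h]

lemma Gam_isGen (l : C.D →* ℂˣ) : IsGeneralizedCharacter G (C.Gam l) := by
  have h1 := IsGeneralizedCharacter.mul (IsGeneralizedCharacter.of_isCharacter (C.R_isCharacter 1))
    (IsGeneralizedCharacter.of_isCharacter (C.R_isCharacter l))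
  have h2 := IsGeneralizedCharacter.add (IsGeneralizedCharacter.of_isCharacter (C.R_isCharacter l))
    (IsGeneralizedCharacter.of_isCharacter (C.R_isCharacter l))
  have := IsGeneralizedCharacter.sub h1 h2
  convert this using 1
  funext g
  simp only [Gam, Pi.sub_apply, Pi.mul_apply, Pi.add_apply]
  ring

lemma R1_tu_reg (t : C.D) (ht : (t : G) ∉ C.Z) (c : F) : C.R 1 ((t : G) * C.u c) = 2 := by
  rw [C.R_tu_reg 1 t ht]
  norm_num

lemma R1_tu_unip (t : C.D) (ht : (t : G) ∈ C.Z) {c : F} (hc : c ≠ 0) : C.R 1 ((t : G) * C.u c) = 1 := by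
  rw [C.R_tu_unip 1 t ht hc]
  simp

lemma R_zz (l : C.D →* ℂˣ) (z : C.Z) : C.R l (z : G) = ((q : ℂ) + 1) * ((l (C.zD z) : ℂˣ) : ℂ) :=
  C.R_z l (C.zD z) z.2

lemma R1_z (z : C.Z) : C.R 1 (z : G) = (q : ℂ) + 1 := by
  rw [C.R_zz 1 z]
  simp

lemma R_zu (l : C.D →* ℂˣ) (z : C.Z) {c : F} (hc : c ≠ 0) :
    C.R l ((z : G) * C.u c) = ((l (C.zD z) : ℂˣ) : ℂ) :=
  C.R_tu_unip l (C.zD z) z.2 hc

lemma Gam_tu_reg (l : C.D →* ℂˣ) (t : C.D) (ht : (t : G) ∉ C.Z) (c : F) : C.Gam l ((t : G) * C.u c) = 0 := by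
  simp [Gam, C.R1_tu_reg t ht c]

lemma Gam_z (l : C.D →* ℂˣ) (z : C.Z) :
    C.Gam l (z : G) = ((q : ℂ) ^ 2 - 1) * ((l (C.zD z) : ℂˣ) : ℂ) := by
  simp only [Gam, C.R1_z, C.R_zz]
  ring

lemma Gam_zu (l : C.D →* ℂˣ) (z : C.Z) {c : F} (hc : c ≠ 0) :
    C.Gam l ((z : G) * C.u c) = -((l (C.zD z) : ℂˣ) : ℂ) := by
  have h : C.R 1 ((z : G) * C.u c) = 1 := by
    rw [C.R_zu 1 z hc]
    simp
  simp only [Gam, h, C.R_zu l z hc]
  ring

lemma Gam_T_off (l : C.D →* ℂˣ) {t : G} (ht : t ∈ C.T) (hz : t ∉ C.Z) : C.Gam l t = 0 := by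
  simp [Gam, C.R_T_off l ht hz]

section inner

variable [Fintype C.Z]

lemma hqH : (Nat.card C.H : ℂ)⁻¹ * ((q : ℂ) * ((q : ℂ) - 1)) = (C.δ : ℂ)⁻¹ := by
  rw [C.card_H_c]
  have h1 := C.δ_ne
  have h2 := q_ne F
  have h3 := q1_ne F
  field_simp

/-- `⟨R m, Γ_l⟩`. -/
theorem inner_R_Gam (m l : C.D →* ℂˣ) :
    classInner (C.R m) (C.Gam l) = (C.δ : ℂ)⁻¹ *
      ∑ z : C.Z, ((m (C.zD z) : ℂˣ) : ℂ) * conj ((l (C.zD z) : ℂˣ) : ℂ) := by
  rw [C.inner_R_Z m (C.Gam l) (C.Gam_isClass l) (fun z => ((l (C.zD z) : ℂˣ) : ℂ)) ((q : ℂ) ^ 2 - 1) (-1)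
    (fun t ht c => C.Gam_tu_reg l t ht c) (fun z => C.Gam_z l z)
    (fun z c hc => by rw [C.Gam_zu l z hc]; ring)]
  rw [← C.hqH]
  congr 2
  simp only [map_sub, map_pow, Complex.conj_natCast, map_one, map_neg]
  ring

/-- `⟨IT θ, Γ_l⟩`. -/
theorem inner_IT_Gam (θ : C.T →* ℂˣ) (l : C.D →* ℂˣ) :
    classInner (C.IT θ) (C.Gam l) = (((q : ℂ) - 1) / C.δ) *
      ∑ z : C.Z, ((θ (C.zT z) : ℂˣ) : ℂ) * conj ((l (C.zD z) : ℂˣ) : ℂ) := by
  rw [C.inner_IT_Z θ (C.Gam l) (C.Gam_isClass l) (fun z => ((l (C.zD z) : ℂˣ) : ℂ)) ((q : ℂ) ^ 2 - 1)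
    (fun t ht => C.Gam_T_off l t.2 ht) (fun z => C.Gam_z l z)]
  congr 1
  rw [C.card_T_c]
  have h1 := C.δ_ne
  have h2 := qp_ne F
  simp only [map_sub, map_pow, Complex.conj_natCast, map_one]
  field_simp
  ring

/-- `⟨IT θ, R m⟩`. -/
theorem inner_IT_R (θ : C.T →* ℂˣ) (m : C.D →* ℂˣ) :
    classInner (C.IT θ) (C.R m) = (C.δ : ℂ)⁻¹ *
      ∑ z : C.Z, ((θ (C.zT z) : ℂˣ) : ℂ) * conj ((m (C.zD z) : ℂˣ) : ℂ) := by
  rw [C.inner_IT_Z θ (C.R m) (C.R_isClass m) (fun z => ((m (C.zD z) : ℂˣ) : ℂ)) ((q : ℂ) + 1)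
    (fun t ht => C.R_T_off m t.2 ht) (fun z => C.R_zz m z)]
  congr 1
  rw [C.card_T_c]
  have h1 := C.δ_ne
  have h2 := qp_ne F
  simp only [map_add, Complex.conj_natCast, map_one]
  field_simp

/-- `⟨IT θ, IT θ'⟩`. -/
theorem inner_IT_IT (θ θ' : C.T →* ℂˣ) [Decidable (θ = θ')] [Decidable (θ = θ'.comp C.sgT)] :
    classInner (C.IT θ) (C.IT θ') = (if θ = θ' then 1 else 0) + (if θ = θ'.comp C.sgT then 1 else 0) +
      (((q : ℂ) - 2) / C.δ) * ∑ z : C.Z, ((θ (C.zT z) : ℂˣ) : ℂ) * conj ((θ' (C.zT z) : ℂˣ) : ℂ) := by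
  classical
  letI : Fintype C.T := Fintype.ofFinite _
  rw [C.classInner_IT θ _ (C.IT_isClass θ')]
  have hval : ∀ t : C.T, ((θ t : ℂˣ) : ℂ) * conj (C.IT θ' t) =
      ((θ t : ℂˣ) : ℂ) * conj ((θ' t : ℂˣ) : ℂ) +
      ((θ t : ℂˣ) : ℂ) * conj (((θ'.comp C.sgT) t : ℂˣ) : ℂ) +
      (if (t : G) ∈ C.Z then ((q : ℂ) * ((q : ℂ) - 1) - 2) * (((θ t : ℂˣ) : ℂ) * conj ((θ' t : ℂˣ) : ℂ)) else 0) := by
    intro t
    by_cases ht : (t : G) ∈ C.Z
    · have e1 : (C.IT θ' t) = (q : ℂ) * ((q : ℂ) - 1) * ((θ' t : ℂˣ) : ℂ) := C.IT_z θ' ⟨t, ht⟩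
      rw [if_pos ht, e1, MonoidHom.comp_apply, C.sgT_of_Z t ht]
      simp only [map_mul, map_sub, Complex.conj_natCast, map_one]
      ring
    · rw [if_neg ht, C.IT_T_off θ' t ht, map_add, MonoidHom.comp_apply]
      ring
  simp only [hval]
  rw [Finset.sum_add_distrib, Finset.sum_add_distrib, sum_hom_conj, sum_hom_conj]
  rw [C.sum_Z C.T C.Z_le_T (fun t => if (t : G) ∈ C.Z then ((q : ℂ) * ((q : ℂ) - 1) - 2) * (((θ t : ℂˣ) : ℂ) * conj ((θ' t : ℂˣ) : ℂ)) else 0)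
    (fun t ht => if_neg ht)]
  have h3 : ∑ z : C.Z, (if ((⟨z, C.Z_le_T z.2⟩ : C.T) : G) ∈ C.Z then ((q : ℂ) * ((q : ℂ) - 1) - 2) * (((θ ⟨z, C.Z_le_T z.2⟩ : ℂˣ) : ℂ) * conj ((θ' ⟨z, C.Z_le_T z.2⟩ : ℂˣ) : ℂ)) else 0) =
      ((q : ℂ) * ((q : ℂ) - 1) - 2) * ∑ z : C.Z, ((θ (C.zT z) : ℂˣ) : ℂ) * conj ((θ' (C.zT z) : ℂˣ) : ℂ) := by
    rw [Finset.mul_sum]
    refine Finset.sum_congr rfl fun z _ => ?_
    rw [if_pos z.2]
    rfl
  rw [h3, C.card_T_c]
  have h1 := C.δ_ne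
  have h2 := qp_ne F
  rw [mul_add, mul_add]
  split_ifs <;> field_simp <;> ring

/-- `⟨Γ_l, Γ_m⟩`. -/
theorem inner_Gam_Gam (l m : C.D →* ℂˣ) :
    classInner (C.Gam l) (C.Gam m) = ((q : ℂ) / C.δ) *
      ∑ z : C.Z, ((l (C.zD z) : ℂˣ) : ℂ) * conj ((m (C.zD z) : ℂˣ) : ℂ) := by
  have hmove : classInner (C.Gam l) (C.Gam m) =
      classInner (C.R l) (fun g => (C.R 1 g - 2) * C.Gam m g) := by
    simp only [classInner_def, Gam]
    congr 1
    refine Finset.sum_congr rfl fun g _ => ?_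
    simp only [map_mul, map_sub, C.R_one_real]
    have : conj (2 : ℂ) = 2 := map_ofNat (starRingEnd ℂ) 2
    rw [this]
    ring
  rw [hmove, C.inner_R_Z l _ (by
      intro g h
      simp only [C.R_isClass 1 g h, C.Gam_isClass m g h])
    (fun z => ((m (C.zD z) : ℂˣ) : ℂ)) (((q : ℂ) - 1) * ((q : ℂ) ^ 2 - 1)) 1
    (fun t ht c => by
      show (C.R 1 ((t : G) * C.u c) - 2) * C.Gam m ((t : G) * C.u c) = 0
      rw [C.Gam_tu_reg m t ht c, mul_zero])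
    (fun z => by
      show (C.R 1 (z : G) - 2) * C.Gam m (z : G) = _
      rw [C.Gam_z m z, C.R1_z]
      ring)
    (fun z c hc => by
      show (C.R 1 ((z : G) * C.u c) - 2) * C.Gam m ((z : G) * C.u c) = _
      have h : C.R 1 ((z : G) * C.u c) = 1 := by
        rw [C.R_zu 1 z hc]
        simp
      rw [h, C.Gam_zu m z hc]
      ring)]
  congr 1
  rw [C.card_H_c]
  have h1 := C.δ_ne
  have h2 := q_ne F
  have h3 := q1_ne F
  simp only [map_mul, map_sub, map_pow, Complex.conj_natCast, map_one]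
  field_simp
  ring

/-- Conjugates of the sums. -/
lemma conj_sum_Z {A B : C.Z → ℂ} :
    conj (∑ z : C.Z, A z * conj (B z)) = ∑ z : C.Z, B z * conj (A z) := by
  rw [map_sum]
  refine Finset.sum_congr rfl fun z _ => ?_
  rw [map_mul, Complex.conj_conj, mul_comm]

/-- The cuspidal function. -/
noncomputable def chi (l : C.D →* ℂˣ) (θ : C.T →* ℂˣ) : G → ℂ := C.Gam l - C.IT θ

lemma chi_isGen (l : C.D →* ℂˣ) (θ : C.T →* ℂˣ) : IsGeneralizedCharacter G (C.chi l θ) :=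
  IsGeneralizedCharacter.sub (C.Gam_isGen l) (IsGeneralizedCharacter.of_isCharacter (C.IT_isCharacter θ))

lemma chi_isClass (l : C.D →* ℂˣ) (θ : C.T →* ℂˣ) : IsClassFunction G (C.chi l θ) :=
  IsGeneralizedCharacter.isClassFunction (C.chi_isGen l θ)

/-- The scalar parts of `l` and `θ` agree. -/
def Comp (l : C.D →* ℂˣ) (θ : C.T →* ℂˣ) : Prop :=
  ∀ z : C.Z, ((l (C.zD z) : ℂˣ) : ℂ) = ((θ (C.zT z) : ℂˣ) : ℂ)

/-- Norm and orthogonality for the cuspidal functions. -/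
theorem inner_chi_chi {l m : C.D →* ℂˣ} {θ θ' : C.T →* ℂˣ} (hl : C.Comp l θ) (hm : C.Comp m θ')
    [Decidable (θ = θ')] [Decidable (θ = θ'.comp C.sgT)] :
    classInner (C.chi l θ) (C.chi m θ') =
      (if θ = θ' then 1 else 0) + (if θ = θ'.comp C.sgT then 1 else 0) := by
  rw [chi, chi, classInner_sub_left, classInner_sub_right, classInner_sub_right,
    C.inner_Gam_Gam, C.inner_IT_Gam, C.inner_IT_IT, ← conj_classInner (C.IT θ') (C.Gam l), C.inner_IT_Gam]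
  rw [map_mul, conj_sum_Z]
  simp only [hl _, hm _]
  have hδ := C.δ_ne
  simp only [map_div₀, map_sub, Complex.conj_natCast, map_one]
  generalize (∑ z : C.Z, ((θ (C.zT z) : ℂˣ) : ℂ) * conj ((θ' (C.zT z) : ℂˣ) : ℂ)) = s
  field_simp
  ring

/-- Orthogonality of cuspidal functions to principal series. -/
theorem inner_chi_R {l : C.D →* ℂˣ} {θ : C.T →* ℂˣ} (hl : C.Comp l θ) (k : C.D →* ℂˣ) :
    classInner (C.chi l θ) (C.R k) = 0 := by
  rw [chi, classInner_sub_left, ← conj_classInner (C.R k) (C.Gam l), C.inner_R_Gam, C.inner_IT_R,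
    map_mul, conj_sum_Z]
  simp only [hl _, map_inv₀, Complex.conj_natCast]
  ring

end inner

section linear

variable (ν : G →* ℂˣ) (hν : ∀ c : F, ν (C.u c) = 1)

/-- The restriction of a linear character to `T`. -/
def νT : C.T →* ℂˣ := ν.comp C.T.subtype
/-- The restriction of a linear character to `D`. -/
def νD : C.D →* ℂˣ := ν.comp C.D.subtype

lemma νT_apply (t : C.T) : C.νT ν t = ν t := rfl
lemma νD_apply (t : C.D) : C.νD ν t = ν t := rfl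

lemma ν_isClass : IsClassFunction G (fun g => ((ν g : ℂˣ) : ℂ)) := by
  intro g h
  simp only [map_mul, map_inv]
  congr 1
  rw [mul_comm, ← mul_assoc, inv_mul_cancel, one_mul]

lemma νT_sg : (C.νT ν).comp C.sgT = C.νT ν := by
  ext t
  simp only [MonoidHom.comp_apply, νT_apply]
  have : ((C.sgT t : C.T) : G) = C.wt⁻¹ * t * C.wt := rfl
  rw [this, map_mul, map_mul, map_inv]
  congr 1
  rw [mul_comm, ← mul_assoc, mul_inv_cancel, one_mul]

lemma νD_sg : (C.νD ν).comp C.sg = C.νD ν := by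
  ext t
  simp only [MonoidHom.comp_apply, νD_apply]
  have : ((C.sg t : C.D) : G) = C.w * t * C.w⁻¹ := rfl
  rw [this, map_mul, map_mul, map_inv, mul_comm, inv_mul_cancel_left]

include hν in
/-- `⟨R l, ν⟩`. -/
theorem inner_R_ν (l : C.D →* ℂˣ) [Decidable (l = C.νD ν)] :
    classInner (C.R l) (fun g => ((ν g : ℂˣ) : ℂ)) = if l = C.νD ν then 1 else 0 := by
  classical
  letI : Fintype C.H := Fintype.ofFinite _
  letI : Fintype C.D := Fintype.ofFinite _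
  rw [GLike.R, frobenius_reciprocity C.H _ _ (ν_isClass ν), classInner_def, C.sum_H]
  simp only [C.dgHom_splitH]
  have h4 : ∀ (t : C.D) (c : F), ((ν ((C.splitH (t, c) : C.H) : G) : ℂˣ) : ℂ) = ((C.νD ν t : ℂˣ) : ℂ) := by
    intro t c
    have : ((C.splitH (t, c) : C.H) : G) = (t : G) * C.u c := rfl
    rw [this, map_mul, hν, mul_one]
    rfl
  simp only [h4, Finset.sum_const, Finset.card_univ, nsmul_eq_mul]
  rw [← Finset.mul_sum, sum_hom_conj, C.card_H]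
  have h2 := q_ne F
  have hD : (Nat.card C.D : ℂ) ≠ 0 := by exact_mod_cast (Nat.card_pos (α := C.D)).ne'
  push_cast
  split_ifs <;> field_simp <;> simp

include hν in
/-- `⟨Γ_l, ν⟩ = 0`. -/
theorem inner_Gam_ν (l : C.D →* ℂˣ) [Fintype C.Z] :
    classInner (C.Gam l) (fun g => ((ν g : ℂˣ) : ℂ)) = 0 := by
  have hmove : classInner (C.Gam l) (fun g => ((ν g : ℂˣ) : ℂ)) =
      classInner (C.R l) (fun g => (C.R 1 g - 2) * ((ν g : ℂˣ) : ℂ)) := by
    simp only [classInner_def, Gam]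
    congr 1
    refine Finset.sum_congr rfl fun g _ => ?_
    simp only [map_mul, map_sub, C.R_one_real]
    have : conj (2 : ℂ) = 2 := map_ofNat (starRingEnd ℂ) 2
    rw [this]
    ring
  rw [hmove, C.inner_R_Z l _ (by
      intro g h
      show (C.R 1 (h * g * h⁻¹) - 2) * _ = (C.R 1 g - 2) * _
      rw [C.R_isClass 1 g h]
      congr 1
      exact ν_isClass ν g h)
    (fun z => ((ν z : ℂˣ) : ℂ)) ((q : ℂ) - 1) (-1)
    (fun t ht c => by
      show (C.R 1 ((t : G) * C.u c) - 2) * _ = 0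
      rw [C.R1_tu_reg t ht c, sub_self, zero_mul])
    (fun z => by
      show (C.R 1 (z : G) - 2) * _ = _
      rw [C.R1_z]
      ring)
    (fun z c hc => by
      show (C.R 1 ((z : G) * C.u c) - 2) * _ = _
      have h : C.R 1 ((z : G) * C.u c) = 1 := by
        rw [C.R_zu 1 z hc]
        simp
      rw [h, map_mul, hν, mul_one]
      ring)]
  simp only [map_sub, Complex.conj_natCast, map_one, map_neg]
  ring

/-- `⟨IT θ, ν⟩`. -/
theorem inner_IT_ν (θ : C.T →* ℂˣ) [Decidable (θ = C.νT ν)] :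
    classInner (C.IT θ) (fun g => ((ν g : ℂˣ) : ℂ)) = if θ = C.νT ν then 1 else 0 := by
  classical
  letI : Fintype C.T := Fintype.ofFinite _
  rw [C.classInner_IT θ _ (ν_isClass ν)]
  have := sum_hom_conj θ (C.νT ν)
  simp only [νT_apply] at this ⊢
  have hT : (Nat.card C.T : ℂ) ≠ 0 := by exact_mod_cast (Nat.card_pos (α := C.T)).ne'
  rw [this]
  split_ifs <;> field_simp <;> simp

include hν in
/-- `⟨χ, ν⟩`. -/
theorem inner_chi_ν (l : C.D →* ℂˣ) (θ : C.T →* ℂˣ) (h : θ ≠ C.νT ν) [Fintype C.Z] :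
    classInner (C.chi l θ) (fun g => ((ν g : ℂˣ) : ℂ)) = 0 := by
  classical
  rw [chi, classInner_sub_left, C.inner_Gam_ν ν hν, C.inner_IT_ν, if_neg h, sub_zero]

end linear

end Cx

end Cfsg.Agent.Lib.KS2.RK
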