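import Mathlib
import Cfsg.Agent.Lib.KS2.GLikeChi

set_option autoImplicit false
set_option linter.unusedSimpArgs false
set_option linter.unusedVariables false
set_option linter.unusedSectionVars false

namespace Cfsg.Agent.Lib.KS2.RK

open Matrix Cfsg Cfsg.Agent.Lib.Char
open scoped MatrixGroups ComplexConjugate

universe u

namespace Cx

variable {F : Type*} [Field F] [Fintype F] {G : Type u} [Group G] [Fintype G] (C : Cx F G)

local notation "q" => (Fintype.card F)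

/-- `g` has no eigenvector. -/
def NE (g : G) : Prop := ∀ p r : F, ¬ (p = 0 ∧ r = 0) →
    - r * (C.e g 0 0 * p + C.e g 0 1 * r) + p * (C.e g 1 0 * p + C.e g 1 1 * r) ≠ 0

/-- Elements of `H` in terms of `D` and `u`. -/
lemma H_form {h : G} (hh : h ∈ C.H) : ∃ (t : C.D) (c : F), h = (t : G) * C.u c := by
  have := C.splitH.right_inv ⟨h, hh⟩
  refine ⟨(C.splitH.symm ⟨h, hh⟩).1, (C.splitH.symm ⟨h, hh⟩).2, ?_⟩
  exact (congrArg Subtype.val this).symm

lemma R_conj (l : C.D →* ℂˣ) (g x : G) : C.R l (x⁻¹ * g * x) = C.R l g := by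
  have := C.R_isClass l g x⁻¹
  simpa using this

lemma IT_conj (θ : C.T →* ℂˣ) (g x : G) : C.IT θ (x⁻¹ * g * x) = C.IT θ g := by
  have := C.IT_isClass θ g x⁻¹
  simpa using this

lemma Z_not_NE {g : G} (hg : g ∈ C.Z) : ¬ C.NE g := by
  intro h
  apply h 1 0 (by simp)
  rw [hg.2.1]
  ring

/-- The first case analysis: values of `R 1`. -/
lemma R1_cases (g : G) :
    (g ∈ C.Z ∧ C.R 1 g = (q : ℂ) + 1) ∨ (C.NE g ∧ C.R 1 g = 0) ∨
      (g ∉ C.Z ∧ ¬ C.NE g ∧ (C.R 1 g = 1 ∨ C.R 1 g = 2)) := by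
  by_cases hz : g ∈ C.Z
  · left
    exact ⟨hz, C.R1_z ⟨g, hz⟩⟩
  by_cases hn : C.NE g
  · right; left
    exact ⟨hn, C.R_no_eig 1 hn⟩
  right; right
  refine ⟨hz, hn, ?_⟩
  obtain ⟨x, hx⟩ := C.exists_conj_H hn
  obtain ⟨t, c, ht⟩ := C.H_form hx
  rw [← C.R_conj 1 g x, ht]
  by_cases htz : (t : G) ∈ C.Z
  · by_cases hc : c = 0
    · exfalso
      apply hz
      have h1 : x⁻¹ * g * x = t := by rw [ht, hc, C.u_zero, mul_one]
      have h2 : g = x * t * x⁻¹ := by rw [← h1]; group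
      rw [h2, ← C.Z_comm htz x, mul_assoc, mul_inv_cancel, mul_one]
      exact htz
    · left
      exact C.R1_tu_unip t htz hc
  · right
    exact C.R1_tu_reg t htz c

/-- The second case analysis: values of `IT 1`. -/
lemma IT1_cases (g : G) :
    (g ∈ C.Z ∧ C.IT 1 g = (q : ℂ) * ((q : ℂ) - 1)) ∨
      ((g ∉ C.Z ∧ ∃ x : G, x⁻¹ * g * x ∈ C.T) ∧ C.IT 1 g = 2) ∨
      (¬ (g ∉ C.Z ∧ ∃ x : G, x⁻¹ * g * x ∈ C.T) ∧ g ∉ C.Z ∧ C.IT 1 g = 0) := by
  by_cases hz : g ∈ C.Z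
  · left
    refine ⟨hz, ?_⟩
    have := C.IT_z 1 ⟨g, hz⟩
    simpa using this
  by_cases hx : ∃ x : G, x⁻¹ * g * x ∈ C.T
  · right; left
    refine ⟨⟨hz, hx⟩, ?_⟩
    obtain ⟨x, hx⟩ := hx
    have hy : x⁻¹ * g * x ∉ C.Z := by
      intro h
      apply hz
      have h2 : g = x * (x⁻¹ * g * x) * x⁻¹ := by group
      rw [h2, ← C.Z_comm h x, mul_assoc, mul_inv_cancel, mul_one]
      exact h
    rw [← C.IT_conj 1 g x]
    have := C.IT_T_off 1 ⟨_, hx⟩ hy
    rw [this]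
    norm_num
  · right; right
    refine ⟨fun h => hx h.2, hz, ?_⟩
    rw [IT, indFun_apply]
    have : ∀ x : G, extendByZero C.T (fun t => (((1 : C.T →* ℂˣ) t : ℂˣ) : ℂ)) (x⁻¹ * g * x) = 0 := by
      intro x
      apply extendByZero_of_not_mem
      exact fun h => hx ⟨x, h⟩
    simp only [this, Finset.sum_const_zero, mul_zero]

/-- `⟨R 1, 1⟩ = 1`, as a sum. -/
lemma sum_R1 : ∑ g : G, C.R 1 g = (Nat.card G : ℂ) := by
  classical
  have h := C.inner_R_ν (1 : G →* ℂˣ) (fun c => rfl) 1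
  have h1 : (1 : C.D →* ℂˣ) = C.νD 1 := by
    ext t
    rfl
  rw [if_pos h1, classInner_def] at h
  have hne : (Nat.card G : ℂ) ≠ 0 := by exact_mod_cast (Nat.card_pos (α := G)).ne'
  field_simp at h
  simpa using h

lemma sum_R1_sq : ∑ g : G, (C.R 1 g) ^ 2 = 2 * (Nat.card G : ℂ) := by
  classical
  have h := C.classInner_R 1 1
  rw [classInner_def] at h
  have h1 : (1 : C.D →* ℂˣ) = (1 : C.D →* ℂˣ).comp C.sg := by
    ext t
    rfl
  rw [if_pos rfl, if_pos h1] at h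
  simp only [C.R_one_real, ← pow_two] at h
  have hne : (Nat.card G : ℂ) ≠ 0 := by exact_mod_cast (Nat.card_pos (α := G)).ne'
  field_simp at h
  rw [h]
  norm_num
  ring

lemma sum_IT1 : ∑ g : G, C.IT 1 g = (Nat.card G : ℂ) := by
  classical
  have h := C.inner_IT_ν (1 : G →* ℂˣ) 1
  have h1 : (1 : C.T →* ℂˣ) = C.νT 1 := by
    ext t
    rfl
  rw [if_pos h1, classInner_def] at h
  have hne : (Nat.card G : ℂ) ≠ 0 := by exact_mod_cast (Nat.card_pos (α := G)).ne'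
  field_simp at h
  simpa using h

/-- Elements without eigenvector are conjugate into the torus. -/
theorem NE_conj_T {g : G} (hg : C.NE g) : ∃ x : G, x⁻¹ * g * x ∈ C.T := by
  classical
  set a : ℂ := (q : ℂ) * ((q : ℂ) - 1) with ha
  have h1 : ∀ g : G, (C.R 1 g - 1) * (C.R 1 g - 2) =
      (if C.NE g then 2 else 0) + (if g ∈ C.Z then a else 0) := by
    intro g
    rcases C.R1_cases g with ⟨h, h2⟩ | ⟨h, h2⟩ | ⟨h, h3, h4 | h4⟩
    · rw [if_neg (C.Z_not_NE h), if_pos h, h2, ha]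
      ring
    · have hz : g ∉ C.Z := fun h5 => C.Z_not_NE h5 h
      rw [if_pos h, if_neg hz, h2]
      norm_num
    · rw [if_neg h3, if_neg h, h4]
      norm_num
    · rw [if_neg h3, if_neg h, h4]
      norm_num
  have h2 : ∀ g : G, C.IT 1 g =
      (if (g ∉ C.Z ∧ ∃ x : G, x⁻¹ * g * x ∈ C.T) then 2 else 0) + (if g ∈ C.Z then a else 0) := by
    intro g
    rcases C.IT1_cases g with ⟨h, h2⟩ | ⟨h, h2⟩ | ⟨h, h3, h4⟩
    · have : ¬ (g ∉ C.Z ∧ ∃ x : G, x⁻¹ * g * x ∈ C.T) := fun h5 => h5.1 h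
      rw [if_neg this, if_pos h, h2]
      simp [ha]
    · rw [if_pos h, if_neg h.1, h2]
      simp
    · rw [if_neg h, if_neg h3, h4]
      simp
  have s1 : ∑ g : G, (C.R 1 g - 1) * (C.R 1 g - 2) = (Nat.card G : ℂ) := by
    have : ∀ g : G, (C.R 1 g - 1) * (C.R 1 g - 2) = (C.R 1 g) ^ 2 - 3 * C.R 1 g + 2 := by
      intro g
      ring
    simp only [this]
    rw [Finset.sum_add_distrib, Finset.sum_sub_distrib, ← Finset.mul_sum, C.sum_R1, C.sum_R1_sq,
      Finset.sum_const, Finset.card_univ, nsmul_eq_mul, Fintype.card_eq_nat_card]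
    ring
  simp only [h1] at s1
  have s2 := C.sum_IT1
  simp only [h2] at s2
  rw [GLike.sum_two_cond] at s1 s2
  have e : (Finset.univ.filter (fun g : G => C.NE g)).card =
      (Finset.univ.filter (fun g : G => g ∉ C.Z ∧ ∃ x : G, x⁻¹ * g * x ∈ C.T)).card := by
    have h3 := s1.trans s2.symm
    simp only [nsmul_eq_mul] at h3
    have h4 : ((Finset.univ.filter (fun g : G => C.NE g)).card : ℂ) =
      ((Finset.univ.filter (fun g : G => g ∉ C.Z ∧ ∃ x : G, x⁻¹ * g * x ∈ C.T)).card : ℂ) := by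
      have h2' : (2 : ℂ) ≠ 0 := two_ne_zero
      apply mul_right_cancel₀ h2'
      linear_combination h3
    exact_mod_cast h4
  have hsub : (Finset.univ.filter (fun g : G => g ∉ C.Z ∧ ∃ x : G, x⁻¹ * g * x ∈ C.T)) ⊆
      (Finset.univ.filter (fun g : G => C.NE g)) := by
    intro g hg
    simp only [Finset.mem_filter, Finset.mem_univ, true_and] at hg ⊢
    by_contra hne
    obtain ⟨hz, x, hx⟩ := hg
    obtain ⟨y, hy⟩ := C.exists_conj_H hne
    have hyz : y⁻¹ * g * y ∉ C.Z := by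
      intro h
      apply hz
      have h2 : g = y * (y⁻¹ * g * y) * y⁻¹ := by group
      rw [h2, ← C.Z_comm h y, mul_assoc, mul_inv_cancel, mul_one]
      exact h
    apply C.conj_not_T hy hyz (y⁻¹ * x)
    have : (y⁻¹ * x)⁻¹ * (y⁻¹ * g * y) * (y⁻¹ * x) = x⁻¹ * g * x := by group
    rw [this]
    exact hx
  have heq := Finset.eq_of_subset_of_card_le hsub e.le
  have hmem : g ∈ (Finset.univ.filter (fun g : G => C.NE g)) := by
    simp [hg]
  rw [← heq] at hmem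
  simp only [Finset.mem_filter, Finset.mem_univ, true_and] at hmem
  exact hmem.2

end Cx

end Cfsg.Agent.Lib.KS2.RK
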