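import Mathlib
import Cfsg.Agent.Lib.KS2.GLikeClass

set_option autoImplicit false
set_option linter.unusedSimpArgs false
set_option linter.unusedVariables false
set_option linter.unusedSectionVars false

namespace Cfsg.Agent.Lib.KS2.RK

open Matrix Cfsg Cfsg.Agent.Lib.Char
open scoped MatrixGroups ComplexConjugate

universe u

/-- The number of linear characters invariant under an involution equals the number of fixed
points of the involution. -/
theorem card_fix_dual {A : Type*} [CommGroup A] [Finite A] (σ : A →* A) (hσ : ∀ a, σ (σ a) = a) :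
    Nat.card {θ : A →* ℂˣ // θ = θ.comp σ} = Nat.card {a : A // σ a = a} := by
  classical
  haveI : NeZero (Monoid.exponent A) := ⟨Monoid.exponent_ne_zero_of_finite⟩
  let f : A →* A := (MonoidHom.id A) / σ
  have hf : ∀ a, f a = a / σ a := fun a => rfl
  let B : Subgroup A := f.range
  have hker : Nat.card f.ker = Nat.card {a : A // σ a = a} := by
    apply Nat.card_congr
    refine Equiv.subtypeEquivRight ?_
    intro a
    rw [MonoidHom.mem_ker, hf, div_eq_one]
    exact eq_comm
  have h1 : Nat.card {θ : A →* ℂˣ // θ = θ.comp σ} =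
      Nat.card (MonoidHom.domRestrictHom B ℂˣ).ker := by
    apply Nat.card_congr
    refine Equiv.subtypeEquivRight ?_
    intro θ
    rw [MonoidHom.mem_ker]
    constructor
    · intro h
      ext ⟨b, hb⟩
      obtain ⟨a, rfl⟩ := hb
      simp only [MonoidHom.domRestrictHom_apply, MonoidHom.domRestrict_apply, hf, map_div,
        MonoidHom.one_apply]
      have : θ (σ a) = θ a := by
        conv_rhs => rw [h]
        rfl
      rw [this, div_self']
    · intro h
      ext a
      have h2 : θ (f a) = 1 := by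
        have := congrArg (fun φ : B →* ℂˣ => φ ⟨f a, ⟨a, rfl⟩⟩) h
        simpa using this
      rw [hf, map_div, div_eq_one] at h2
      rw [MonoidHom.comp_apply, h2]
  rw [h1, CommGroup.card_domRestrictHom_ker]
  have h2 := Subgroup.card_eq_card_quotient_mul_card_subgroup B
  rw [← hker]
  have h6 := Subgroup.card_eq_card_quotient_mul_card_subgroup f.ker
  have h7 : Nat.card (A ⧸ f.ker) = Nat.card B :=
    Nat.card_congr (QuotientGroup.quotientKerEquivRange f).toEquiv
  rw [h7] at h6
  have hB : 0 < Nat.card B := Nat.card_pos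
  apply Nat.eq_of_mul_eq_mul_right hB
  rw [← h2, h6, mul_comm]

/-- A two-to-one map. -/
theorem ncard_range_two_to_one {α β : Type*} [Finite α] (f : α → β) (σ : α → α)
    (h1 : ∀ a, σ a ≠ a) (h2 : ∀ a b, f a = f b ↔ a = b ∨ a = σ b) :
    2 * (Set.range f).ncard = Nat.card α := by
  classical
  letI : Fintype α := Fintype.ofFinite α
  have hcard := Finset.card_eq_sum_card_image f (Finset.univ : Finset α)
  have hfib : ∀ b ∈ Finset.univ.image f, ((Finset.univ : Finset α).filter (fun a => f a = b)).card = 2 := by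
    intro b hb
    obtain ⟨a, _, rfl⟩ := Finset.mem_image.mp hb
    have : (Finset.univ : Finset α).filter (fun x => f x = f a) = {a, σ a} := by
      ext x
      simp only [Finset.mem_filter, Finset.mem_univ, true_and, Finset.mem_insert, Finset.mem_singleton, h2]
    rw [this, Finset.card_pair (h1 a).symm]
  rw [Finset.sum_congr rfl hfib, Finset.sum_const, smul_eq_mul, Finset.card_univ] at hcard
  have h3 : (Set.range f).ncard = (Finset.univ.image f).card := by
    rw [← Set.ncard_coe_finset]
    congr 1
    simp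
  rw [h3, Nat.card_eq_fintype_card, hcard, mul_comm]

namespace Cx

variable {F : Type*} [Field F] [Fintype F] {G : Type u} [Group G] [Fintype G] (C : Cx F G)

local notation "q" => (Fintype.card F)

/-- Commutativity of `D`. -/
abbrev commD : CommGroup C.D :=
  { (inferInstance : Group C.D) with
    mul_comm := fun a b => by
      apply C.D_ext
      · simp only [Subgroup.coe_mul, GLike.e_mul00, a.2.1, b.2.1]
        ring
      · simp only [Subgroup.coe_mul, GLike.e_mul11, a.2.2, b.2.2]
        ring }

/-- Commutativity of `T`. -/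
abbrev commT : CommGroup C.T :=
  { (inferInstance : Group C.T) with
    mul_comm := fun a b => Subtype.ext (C.T_comm a.2 b.2) }

lemma sg_fix_iff (t : C.D) : C.sg t = t ↔ (t : G) ∈ C.Z := by
  rw [C.mem_Z_of_D t.2]
  constructor
  · intro h
    have := congrArg (fun x : C.D => C.e x 0 0) h
    simp only [GLike.sg00] at this
    exact this.symm
  · intro h
    apply C.D_ext
    · rw [GLike.sg00, h]
    · rw [GLike.sg11, h]

lemma sgT_fix_iff (t : C.T) : C.sgT t = t ↔ (t : G) ∈ C.Z := by
  rw [C.mem_Z_of_T t.2]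
  constructor
  · intro h
    have := congrArg (fun x : C.T => C.e x 0 0) h
    simp only [sgT00] at this
    linear_combination this
  · intro h
    apply Subtype.ext
    apply C.T_ext (C.sgT t).2 t.2
    · rw [sgT00, h, add_zero]
    · rw [sgT10, h, neg_zero]

lemma card_fixD : Nat.card {l : C.D →* ℂˣ // l = l.comp C.sg} = Nat.card C.Z := by
  letI := C.commD
  rw [card_fix_dual C.sg C.sg_sg]
  apply Nat.card_congr
  exact {
    toFun := fun t => ⟨t.1, (C.sg_fix_iff t.1).mp t.2⟩
    invFun := fun z => ⟨⟨z.1, C.Z_le_D z.2⟩, (C.sg_fix_iff _).mpr z.2⟩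
    left_inv := fun t => rfl
    right_inv := fun z => rfl }

lemma card_fixT : Nat.card {l : C.T →* ℂˣ // l = l.comp C.sgT} = Nat.card C.Z := by
  letI := C.commT
  rw [card_fix_dual C.sgT C.sgT_sgT]
  apply Nat.card_congr
  exact {
    toFun := fun t => ⟨t.1, (C.sgT_fix_iff t.1).mp t.2⟩
    invFun := fun z => ⟨⟨z.1, C.Z_le_T z.2⟩, (C.sgT_fix_iff _).mpr z.2⟩
    left_inv := fun t => rfl
    right_inv := fun z => rfl }

lemma card_homD : Nat.card (C.D →* ℂˣ) = Nat.card C.D := by
  letI := C.commD
  haveI : NeZero (Monoid.exponent C.D) := ⟨Monoid.exponent_ne_zero_of_finite⟩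
  exact CommGroup.card_monoidHom_of_hasEnoughRootsOfUnity C.D ℂ

lemma card_homT : Nat.card (C.T →* ℂˣ) = Nat.card C.T := by
  letI := C.commT
  haveI : NeZero (Monoid.exponent C.T) := ⟨Monoid.exponent_ne_zero_of_finite⟩
  exact CommGroup.card_monoidHom_of_hasEnoughRootsOfUnity C.T ℂ

instance finite_homD : Finite (C.D →* ℂˣ) :=
  Nat.finite_of_card_ne_zero (by rw [C.card_homD]; exact Nat.card_pos.ne')

instance finite_homT : Finite (C.T →* ℂˣ) :=
  Nat.finite_of_card_ne_zero (by rw [C.card_homT]; exact Nat.card_pos.ne')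

/-- The non-invariant labels on `D`. -/
abbrev P := {l : C.D →* ℂˣ // l ≠ l.comp C.sg}
/-- The non-invariant labels on `T`. -/
abbrev Q := {θ : C.T →* ℂˣ // θ ≠ θ.comp C.sgT}

lemma card_P : Nat.card C.P + Nat.card C.Z = Nat.card C.D := by
  classical
  rw [← C.card_fixD, ← C.card_homD, add_comm]
  have e := Equiv.sumCompl (fun l : C.D →* ℂˣ => l = l.comp C.sg)
  rw [← Nat.card_congr e, Nat.card_sum]

lemma card_Q : Nat.card C.Q + Nat.card C.Z = Nat.card C.T := by
  classical
  rw [← C.card_fixT, ← C.card_homT, add_comm]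
  have e := Equiv.sumCompl (fun l : C.T →* ℂˣ => l = l.comp C.sgT)
  rw [← Nat.card_congr e, Nat.card_sum]

/-- Every label on the torus has a compatible label on `D`. -/
lemma exists_comp (θ : C.T →* ℂˣ) : ∃ l : C.D →* ℂˣ, ∀ z : C.Z,
    ((l (C.zD z) : ℂˣ) : ℂ) = ((θ (C.zT z) : ℂˣ) : ℂ) := by
  classical
  letI := C.commD
  haveI : NeZero (Monoid.exponent C.D) := ⟨Monoid.exponent_ne_zero_of_finite⟩
  let Z' : Subgroup C.D := C.Z.subgroupOf C.D
  let e : Z' ≃* C.Z := Subgroup.subgroupOfEquivOfLe C.Z_le_D
  obtain ⟨l, hl⟩ := MonoidHom.domRestrict_surjective (G := C.D) ℂ Z'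
    ((θ.comp C.zT).comp e.toMonoidHom)
  refine ⟨l, fun z => ?_⟩
  have h := congrArg (fun φ : Z' →* ℂˣ => φ (e.symm z)) hl
  simp only [MonoidHom.domRestrictHom_apply, MonoidHom.domRestrict_apply, MonoidHom.comp_apply,
    MulEquiv.coe_toMonoidHom, MulEquiv.apply_symm_apply] at h
  rw [← h]
  rfl

end Cx

end Cfsg.Agent.Lib.KS2.RK
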