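import Mathlib
import Cfsg.Agent.Lib.KS2.GLikeList

set_option autoImplicit false
set_option linter.unusedSimpArgs false
set_option linter.unusedVariables false
set_option linter.unusedSectionVars false

namespace Cfsg.Agent.Lib.KS2.RK

open Matrix Cfsg Cfsg.Agent.Lib.Char
open scoped MatrixGroups ComplexConjugate

universe u

namespace Cx

variable {F : Type*} [Field F] [Fintype F] {G : Type u} [Group G] [Fintype G] (C : Cx F G)

local notation "q" => (Fintype.card F)

section chi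

variable {l : C.D →* ℂˣ} {θ : C.T →* ℂˣ}

lemma chi_apply (g : G) : C.chi l θ g = C.Gam l g - C.IT θ g := rfl

lemma chi_z (hl : C.Comp l θ) (z : C.Z) : C.chi l θ z = ((q : ℂ) - 1) * ((θ (C.zT z) : ℂˣ) : ℂ) := by
  rw [chi_apply, C.Gam_z, C.IT_z, hl z]
  ring

lemma chi_one (hl : C.Comp l θ) : C.chi l θ 1 = (q : ℂ) - 1 := by
  have := C.chi_z hl 1
  simpa using this

lemma zu_not_Z (z : C.Z) {c : F} (hc : c ≠ 0) : (z : G) * C.u c ∉ C.Z := by
  intro h
  have h1 := h.1
  have h2 := C.tu01 (C.zD z) c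
  have h3 : ((C.zD z : C.D) : G) = z := rfl
  rw [h3] at h2
  rw [h2] at h1
  exact mul_ne_zero (C.e00_ne_of_mem z.2.2.1) hc h1

lemma chi_zu (hl : C.Comp l θ) (z : C.Z) {c : F} (hc : c ≠ 0) :
    C.chi l θ ((z : G) * C.u c) = -((θ (C.zT z) : ℂˣ) : ℂ) := by
  have h0 : C.IT θ ((z : G) * C.u c) = 0 := C.IT_H_off θ (C.tu_mem (C.zD z) c) (C.zu_not_Z z hc)
  rw [chi_apply, C.Gam_zu l z hc, h0, hl z]
  ring

lemma tu_not_Z (t : C.D) (ht : (t : G) ∉ C.Z) (c : F) : (t : G) * C.u c ∉ C.Z := by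
  intro h
  have h1 := h.2.2
  rw [C.tu00, C.tu11] at h1
  exact (C.not_Z_iff t).mp ht h1

lemma chi_tu (t : C.D) (ht : (t : G) ∉ C.Z) (c : F) : C.chi l θ ((t : G) * C.u c) = 0 := by
  rw [chi_apply, C.Gam_tu_reg l t ht c, C.IT_H_off θ (C.tu_mem t c) (C.tu_not_Z t ht c)]
  ring

lemma chi_T (t : C.T) (ht : (t : G) ∉ C.Z) :
    C.chi l θ t = -((θ t : ℂˣ) : ℂ) - ((θ (C.sgT t) : ℂˣ) : ℂ) := by
  rw [chi_apply, C.Gam_T_off l t.2 ht, C.IT_T_off θ t ht]
  ring

/-- Irreducibility of cuspidal functions. -/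
theorem chi_irr (hl : C.Comp l θ) (h : θ ≠ θ.comp C.sgT) : IsIrrCharacter G (C.chi l θ) := by
  classical
  letI : Fintype C.Z := Fintype.ofFinite _
  apply isIrr_of_generalized_norm_one (C.chi_isGen l θ)
  · rw [C.inner_chi_chi hl hl, if_pos rfl, if_neg h, add_zero]
  · rw [C.chi_one hl]
    have h2 := q_two_le F
    have h3 : (2 : ℝ) ≤ (q : ℝ) := by exact_mod_cast h2
    simp only [Complex.sub_re, Complex.natCast_re, Complex.one_re]
    linarith

/-- The norm of a Weyl-invariant cuspidal function. -/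
theorem chi_norm_two (hl : C.Comp l θ) (h : θ = θ.comp C.sgT) : classInner (C.chi l θ) (C.chi l θ) = 2 := by
  classical
  letI : Fintype C.Z := Fintype.ofFinite _
  rw [C.inner_chi_chi hl hl, if_pos rfl, if_pos h]
  norm_num

end chi

section linear

/-- The linear characters trivial on the unipotent elements. -/
abbrev Lin := {ν : G →* ℂˣ // ∀ c : F, ν (C.u c) = 1}

variable (ν : G →* ℂˣ) (hν : ∀ c : F, ν (C.u c) = 1)

/-- The lower unitriangular matrix. -/
def low (c : F) : SL(2, F) := SL2.mk 1 0 c 1 (by ring)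

lemma lowm00 (c : F) : ((low c : SL(2, F)) : Matrix (Fin 2) (Fin 2) F) 0 0 = 1 := by simp [low]
lemma lowm01 (c : F) : ((low c : SL(2, F)) : Matrix (Fin 2) (Fin 2) F) 0 1 = 0 := by simp [low]
lemma lowm10 (c : F) : ((low c : SL(2, F)) : Matrix (Fin 2) (Fin 2) F) 1 0 = c := by simp [low]
lemma lowm11 (c : F) : ((low c : SL(2, F)) : Matrix (Fin 2) (Fin 2) F) 1 1 = 1 := by simp [low]
lemma low00 (c : F) : C.e (C.s (low c)) 0 0 = 1 := by simp [GLike.e_s, low]
lemma low01 (c : F) : C.e (C.s (low c)) 0 1 = 0 := by simp [GLike.e_s, low]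
lemma low10 (c : F) : C.e (C.s (low c)) 1 0 = c := by simp [GLike.e_s, low]
lemma low11 (c : F) : C.e (C.s (low c)) 1 1 = 1 := by simp [GLike.e_s, low]

lemma s_low (c : F) : C.s (low c) = C.w * C.u (-c) * C.w⁻¹ := by
  apply mul_right_cancel (b := C.w)
  rw [inv_mul_cancel_right]
  apply C.ext' <;> simp only [GLike.e_mul00, GLike.e_mul01, GLike.e_mul10, GLike.e_mul11, GLike.w00, GLike.w01, GLike.w10, GLike.w11,
    GLike.u00, GLike.u01, GLike.u10, GLike.u11, low00, low01, low10, low11] <;> ring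

include hν in
lemma lin_s_low (c : F) : ν (C.s (low c)) = 1 := by
  rw [s_low, map_mul, map_mul, hν, mul_one, map_inv, mul_inv_cancel]

include hν in
lemma lin_s (g : SL(2, F)) : ν (C.s g) = 1 := by
  have key : ∀ g : SL(2, F), (g : Matrix (Fin 2) (Fin 2) F) 1 0 ≠ 0 → ν (C.s g) = 1 := by
    intro g hr
    have hd := SL2.det_rel g
    set p := (g : Matrix (Fin 2) (Fin 2) F) 0 0 with hp
    set b := (g : Matrix (Fin 2) (Fin 2) F) 0 1 with hb
    set r := (g : Matrix (Fin 2) (Fin 2) F) 1 0 with hr'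
    set e := (g : Matrix (Fin 2) (Fin 2) F) 1 1 with he
    have h : C.s g = C.u ((p - 1) / r) * C.s (low r) * C.u ((e - 1) / r) := by
      apply C.ext'
      · simp only [GLike.e_mul00, GLike.e_mul01, GLike.e_mul10, GLike.e_mul11, GLike.u00, GLike.u01, GLike.u10, GLike.u11, GLike.e_s, lowm00, lowm01, lowm10, lowm11]
        rw [← hp]
        field_simp
        ring
      · simp only [GLike.e_mul00, GLike.e_mul01, GLike.e_mul10, GLike.e_mul11, GLike.u00, GLike.u01, GLike.u10, GLike.u11, GLike.e_s, lowm00, lowm01, lowm10, lowm11]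
        rw [← hb]
        field_simp
        linear_combination -hd
      · simp only [GLike.e_mul00, GLike.e_mul01, GLike.e_mul10, GLike.e_mul11, GLike.u00, GLike.u01, GLike.u10, GLike.u11, GLike.e_s, lowm00, lowm01, lowm10, lowm11]
        rw [← hr']
        ring
      · simp only [GLike.e_mul00, GLike.e_mul01, GLike.e_mul10, GLike.e_mul11, GLike.u00, GLike.u01, GLike.u10, GLike.u11, GLike.e_s, lowm00, lowm01, lowm10, lowm11]
        rw [← he]
        field_simp
        ring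
    rw [h, map_mul, map_mul, hν, hν, C.lin_s_low ν hν, one_mul, one_mul]
  by_cases hr : (g : Matrix (Fin 2) (Fin 2) F) 1 0 = 0
  · have hp : (g : Matrix (Fin 2) (Fin 2) F) 0 0 ≠ 0 := by
      intro h0
      have hd := SL2.det_rel g
      rw [h0, hr] at hd
      simp at hd
    have h1 : ν (C.s (low 1 * g)) = 1 := by
      apply key
      simp [low, SL2.mul10, hr, hp]
    rw [map_mul, map_mul, C.lin_s_low ν hν, one_mul] at h1
    exact h1
  · exact key g hr

include hν in
lemma lin_w : ν C.w = 1 := C.lin_s ν hν _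

include hν in
/-- A linear character trivial on unipotents is determined by its restriction to `D`. -/
lemma lin_determined (x : G) : ∃ t : C.D, ν x = ν t ∧ ∀ ν' : G →* ℂˣ, (∀ c : F, ν' (C.u c) = 1) → ν' x = ν' t := by
  have hH : ∀ h : G, h ∈ C.H → ∃ t : C.D, ∀ ν' : G →* ℂˣ, (∀ c : F, ν' (C.u c) = 1) → ν' h = ν' t := by
    intro h hh
    obtain ⟨t, c, rfl⟩ := C.H_form hh
    refine ⟨t, fun ν' hν' => ?_⟩
    rw [map_mul, hν', mul_one]
  by_cases hx : C.e x 1 0 = 0
  · obtain ⟨t, ht⟩ := hH x (C.mem_H.mpr hx)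
    exact ⟨t, ht ν hν, ht⟩
  · set c := C.e x 0 0 / C.e x 1 0 with hc
    set y := C.w * (C.u (-c) * x) with hy
    have h1 : y ∈ C.H := by
      rw [C.mem_H, hy, GLike.e_mul10, GLike.w10, GLike.w11, GLike.e_mul00, GLike.u00, GLike.u01, hc]
      field_simp
      ring
    obtain ⟨t, ht⟩ := hH y h1
    have e : x = C.u c * C.w⁻¹ * y := by
      rw [hy, C.u_neg]
      group
    have key : ∀ ν' : G →* ℂˣ, (∀ c : F, ν' (C.u c) = 1) → ν' x = ν' t := by
      intro ν' hν'
      rw [e, map_mul, map_mul, hν', one_mul, map_inv, C.lin_w ν' hν', inv_one, one_mul, ht ν' hν']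
    exact ⟨t, key ν hν, key⟩

lemma lin_eq_of_νD {ν ν' : G →* ℂˣ} (hν : ∀ c : F, ν (C.u c) = 1) (hν' : ∀ c : F, ν' (C.u c) = 1)
    (h : C.νD ν = C.νD ν') : ν = ν' := by
  ext1 x
  obtain ⟨t, ht, ht'⟩ := C.lin_determined ν hν x
  rw [ht, ht' ν' hν']
  have := congrArg (fun l : C.D →* ℂˣ => l t) h
  exact this

lemma νD_eq_iff {ν ν' : G →* ℂˣ} (hν : ∀ c : F, ν (C.u c) = 1) (hν' : ∀ c : F, ν' (C.u c) = 1) :
    C.νD ν = C.νD ν' ↔ ν = ν' :=
  ⟨C.lin_eq_of_νD hν hν', fun h => by rw [h]⟩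

/-- The twisted Steinberg function. -/
noncomputable def St (ν : G →* ℂˣ) : G → ℂ := C.R (C.νD ν) - (fun g => ((ν g : ℂˣ) : ℂ))

lemma St_apply (ν : G →* ℂˣ) (g : G) : C.St ν g = C.R (C.νD ν) g - ((ν g : ℂˣ) : ℂ) := rfl

lemma St_isGen (ν : G →* ℂˣ) : IsGeneralizedCharacter G (C.St ν) :=
  IsGeneralizedCharacter.sub (IsGeneralizedCharacter.of_isCharacter (C.R_isCharacter _))
    (IsGeneralizedCharacter.of_isCharacter (IsIrrCharacter.isCharacter (isIrrCharacter_of_hom ν)))

lemma inner_ν_ν (ν ν' : G →* ℂˣ) [Decidable (ν = ν')] :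
    classInner (fun g => ((ν g : ℂˣ) : ℂ)) (fun g => ((ν' g : ℂˣ) : ℂ)) = if ν = ν' then 1 else 0 := by
  classical
  rw [classInner_def, sum_hom_conj]
  have hne : (Nat.card G : ℂ) ≠ 0 := by exact_mod_cast (Nat.card_pos (α := G)).ne'
  split_ifs <;> field_simp <;> simp

lemma inner_ν_R {ν : G →* ℂˣ} (hν : ∀ c : F, ν (C.u c) = 1) (l : C.D →* ℂˣ) [Decidable (l = C.νD ν)] :
    classInner (fun g => ((ν g : ℂˣ) : ℂ)) (C.R l) = if l = C.νD ν then 1 else 0 := by
  rw [← conj_classInner, C.inner_R_ν ν hν]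
  split_ifs <;> simp

/-- `⟨St ν, ν'⟩`. -/
lemma inner_St_ν {ν ν' : G →* ℂˣ} (hν : ∀ c : F, ν (C.u c) = 1) (hν' : ∀ c : F, ν' (C.u c) = 1) :
    classInner (C.St ν) (fun g => ((ν' g : ℂˣ) : ℂ)) = 0 := by
  classical
  rw [St, classInner_sub_left, C.inner_R_ν ν' hν', inner_ν_ν, ]
  simp only [C.νD_eq_iff hν hν']
  split_ifs <;> simp

/-- `⟨St ν, St ν'⟩`. -/
lemma inner_St_St {ν ν' : G →* ℂˣ} (hν : ∀ c : F, ν (C.u c) = 1) (hν' : ∀ c : F, ν' (C.u c) = 1)
    [Decidable (ν = ν')] :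
    classInner (C.St ν) (C.St ν') = if ν = ν' then 1 else 0 := by
  classical
  rw [St, St, classInner_sub_left, classInner_sub_right, classInner_sub_right,
    C.classInner_R, C.inner_R_ν ν' hν', C.inner_ν_R hν, inner_ν_ν]
  simp only [C.νD_sg ν', C.νD_eq_iff hν hν', C.νD_eq_iff hν' hν, eq_comm (a := ν') (b := ν)]
  split_ifs <;> simp

lemma St_one (ν : G →* ℂˣ) : C.St ν 1 = (q : ℂ) := by
  rw [St_apply, map_one]
  have := C.R_zz (C.νD ν) 1
  simp only [Subgroup.coe_one, map_one, Units.val_one, mul_one] at this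
  rw [this]
  simp

theorem St_irr {ν : G →* ℂˣ} (hν : ∀ c : F, ν (C.u c) = 1) : IsIrrCharacter G (C.St ν) := by
  classical
  apply isIrr_of_generalized_norm_one (C.St_isGen ν)
  · rw [C.inner_St_St hν hν, if_pos rfl]
  · rw [C.St_one]
    have h2 := q_two_le F
    have h3 : (2 : ℝ) ≤ (q : ℝ) := by exact_mod_cast h2
    simp only [Complex.natCast_re]
    linarith

/-- `⟨R l, St ν⟩`. -/
lemma inner_R_St {ν : G →* ℂˣ} (hν : ∀ c : F, ν (C.u c) = 1) (l : C.D →* ℂˣ) (h : l ≠ C.νD ν) :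
    classInner (C.R l) (C.St ν) = 0 := by
  classical
  rw [St, classInner_sub_right, C.classInner_R, C.inner_R_ν ν hν, C.νD_sg ν]
  simp [h]

/-- `⟨χ, St ν⟩`. -/
lemma inner_chi_St {ν : G →* ℂˣ} (hν : ∀ c : F, ν (C.u c) = 1) {l : C.D →* ℂˣ} {θ : C.T →* ℂˣ}
    (hl : C.Comp l θ) (h : θ ≠ C.νT ν) : classInner (C.chi l θ) (C.St ν) = 0 := by
  classical
  letI : Fintype C.Z := Fintype.ofFinite _
  rw [St, classInner_sub_right, C.inner_chi_R hl, C.inner_chi_ν ν hν l θ h, sub_zero]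

end linear

section list

/-- The linear characters as irreducible characters. -/
noncomputable def E1 (ν : C.Lin) : IrrCharacter G :=
  ⟨fun g => ((ν.1 g : ℂˣ) : ℂ), isIrrCharacter_of_hom ν.1⟩

/-- The twisted Steinberg characters. -/
noncomputable def E2 (ν : C.Lin) : IrrCharacter G := ⟨C.St ν.1, C.St_irr ν.2⟩

/-- The irreducible principal series. -/
noncomputable def E3 (l : C.P) : IrrCharacter G := ⟨C.R l.1, C.R_irr l.1 l.2⟩

/-- The label on `D` chosen for the label on `T`. -/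
noncomputable def lab (θ : C.T →* ℂˣ) : C.D →* ℂˣ := (C.exists_comp θ).choose

lemma lab_comp (θ : C.T →* ℂˣ) : C.Comp (C.lab θ) θ := (C.exists_comp θ).choose_spec

/-- The irreducible cuspidal characters. -/
noncomputable def E4 (θ : C.Q) : IrrCharacter G :=
  ⟨C.chi (C.lab θ.1) θ.1, C.chi_irr (C.lab_comp θ.1) θ.2⟩

lemma E1_inj : Function.Injective C.E1 := by
  intro a b h
  have h1 := congrArg (fun χ : IrrCharacter G => (χ : G → ℂ)) h
  apply Subtype.ext
  ext x
  exact congrFun h1 x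

lemma E2_inj : Function.Injective C.E2 := by
  classical
  intro a b h
  have h1 := congrArg (fun χ : IrrCharacter G => (χ : G → ℂ)) h
  have h2 : classInner (C.St a.1) (C.St b.1) = 1 := by
    have h3 : C.St a.1 = C.St b.1 := h1
    rw [h3, C.inner_St_St b.2 b.2, if_pos rfl]
  rw [C.inner_St_St a.2 b.2] at h2
  apply Subtype.ext
  by_contra hne
  rw [if_neg hne] at h2
  exact zero_ne_one h2

lemma l_ne_νD {l : C.D →* ℂˣ} (hl : l ≠ l.comp C.sg) (ν : G →* ℂˣ) : l ≠ C.νD ν := by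
  intro h
  apply hl
  rw [h, C.νD_sg]

lemma θ_ne_νT {θ : C.T →* ℂˣ} (hl : θ ≠ θ.comp C.sgT) (ν : G →* ℂˣ) : θ ≠ C.νT ν := by
  intro h
  apply hl
  rw [h, C.νT_sg]

/-- Two different irreducible characters have inner product `0`; so inner product `0` implies different. -/
lemma irr_ne_of_inner {a b : IrrCharacter G} (h : classInner (a : G → ℂ) (b : G → ℂ) = 0) : a ≠ b := by
  rintro rfl
  rw [classInner_irr_self a.2] at h
  exact one_ne_zero h

lemma E1_ne_E2 (a b : C.Lin) : C.E1 a ≠ C.E2 b := by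
  apply Ne.symm
  apply irr_ne_of_inner
  exact C.inner_St_ν b.2 a.2

lemma E1_ne_E3 (a : C.Lin) (b : C.P) : C.E1 a ≠ C.E3 b := by
  classical
  apply Ne.symm
  apply irr_ne_of_inner
  show classInner (C.R b.1) (fun g => ((a.1 g : ℂˣ) : ℂ)) = 0
  rw [C.inner_R_ν a.1 a.2, if_neg (C.l_ne_νD b.2 a.1)]

lemma E2_ne_E3 (a : C.Lin) (b : C.P) : C.E2 a ≠ C.E3 b := by
  apply Ne.symm
  apply irr_ne_of_inner
  exact C.inner_R_St a.2 b.1 (C.l_ne_νD b.2 a.1)

lemma E1_ne_E4 (a : C.Lin) (b : C.Q) : C.E1 a ≠ C.E4 b := by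
  classical
  letI : Fintype C.Z := Fintype.ofFinite _
  apply Ne.symm
  apply irr_ne_of_inner
  exact C.inner_chi_ν a.1 a.2 _ _ (C.θ_ne_νT b.2 a.1)

lemma E2_ne_E4 (a : C.Lin) (b : C.Q) : C.E2 a ≠ C.E4 b := by
  apply Ne.symm
  apply irr_ne_of_inner
  exact C.inner_chi_St a.2 (C.lab_comp b.1) (C.θ_ne_νT b.2 a.1)

lemma E3_ne_E4 (a : C.P) (b : C.Q) : C.E3 a ≠ C.E4 b := by
  classical
  letI : Fintype C.Z := Fintype.ofFinite _
  apply Ne.symm
  apply irr_ne_of_inner
  exact C.inner_chi_R (C.lab_comp b.1) a.1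

/-- Two-to-one property of `E3`. -/
lemma ncard_E3 : 2 * (Set.range C.E3).ncard = Nat.card C.P := by
  classical
  apply ncard_range_two_to_one C.E3 (fun l => ⟨l.1.comp C.sg, by
    intro h
    apply l.2
    rw [GLike.sg_comp_sg] at h
    exact h.symm⟩)
  · intro a h
    apply a.2
    exact (congrArg Subtype.val h).symm
  · intro a b
    have hin : classInner (C.E3 a : G → ℂ) (C.E3 b : G → ℂ) = (if a.1 = b.1 then 1 else 0) + (if a.1 = b.1.comp C.sg then 1 else 0) :=
      C.classInner_R a.1 b.1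
    rw [classInner_irr (C.E3 a).2 (C.E3 b).2] at hin
    constructor
    · intro h
      have h1 : (C.E3 a : G → ℂ) = C.E3 b := congrArg Subtype.val h
      rw [if_pos h1] at hin
      by_cases h2 : a.1 = b.1
      · left
        exact Subtype.ext h2
      · by_cases h3 : a.1 = b.1.comp C.sg
        · right
          exact Subtype.ext h3
        · rw [if_neg h2, if_neg h3] at hin
          norm_num at hin
    · intro h
      apply Subtype.ext
      by_contra hne
      rw [if_neg hne] at hin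
      rcases h with h | h
      · rw [if_pos (congrArg Subtype.val h)] at hin
        split_ifs at hin <;> norm_num at hin
      · have h4 := congrArg Subtype.val h
        rw [if_pos h4] at hin
        split_ifs at hin <;> norm_num at hin

/-- Two-to-one property of `E4`. -/
lemma ncard_E4 : 2 * (Set.range C.E4).ncard = Nat.card C.Q := by
  classical
  letI : Fintype C.Z := Fintype.ofFinite _
  apply ncard_range_two_to_one C.E4 (fun l => ⟨l.1.comp C.sgT, by
    intro h
    apply l.2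
    have h1 : (l.1.comp C.sgT).comp C.sgT = l.1 := by
      ext t
      simp [C.sgT_sgT]
    rw [h1] at h
    exact h.symm⟩)
  · intro a h
    apply a.2
    exact (congrArg Subtype.val h).symm
  · intro a b
    have hin : classInner (C.E4 a : G → ℂ) (C.E4 b : G → ℂ) = (if a.1 = b.1 then 1 else 0) + (if a.1 = b.1.comp C.sgT then 1 else 0) :=
      C.inner_chi_chi (C.lab_comp a.1) (C.lab_comp b.1)
    rw [classInner_irr (C.E4 a).2 (C.E4 b).2] at hin
    constructor
    · intro h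
      have h1 : (C.E4 a : G → ℂ) = C.E4 b := congrArg Subtype.val h
      rw [if_pos h1] at hin
      by_cases h2 : a.1 = b.1
      · left
        exact Subtype.ext h2
      · by_cases h3 : a.1 = b.1.comp C.sgT
        · right
          exact Subtype.ext h3
        · rw [if_neg h2, if_neg h3] at hin
          norm_num at hin
    · intro h
      apply Subtype.ext
      by_contra hne
      rw [if_neg hne] at hin
      rcases h with h | h
      · rw [if_pos (congrArg Subtype.val h)] at hin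
        split_ifs at hin <;> norm_num at hin
      · have h4 := congrArg Subtype.val h
        rw [if_pos h4] at hin
        split_ifs at hin <;> norm_num at hin

lemma finite_irr : Finite (IrrCharacter G) := by
  apply Nat.finite_of_card_ne_zero
  rw [card_irr_eq_card_conjClasses]
  haveI : Finite (ConjClasses G) := Finite.of_surjective ConjClasses.mk ConjClasses.mk_surjective
  haveI : Nonempty (ConjClasses G) := ⟨ConjClasses.mk 1⟩
  exact Nat.card_pos.ne'

/-- Completeness of the list. -/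
theorem classify (S : Set (IrrCharacter G))
    (h1 : ∀ χ ∈ S, χ ∉ Set.range C.E1) (h2 : ∀ χ ∈ S, χ ∉ Set.range C.E2)
    (h3 : ∀ χ ∈ S, χ ∉ Set.range C.E3) (h4 : ∀ χ ∈ S, χ ∉ Set.range C.E4)
    (hcard : 2 * Nat.card C.Lin + (Set.range C.E3).ncard + (Set.range C.E4).ncard + S.ncard =
      Nat.card (ConjClasses G))
    (χ : IrrCharacter G) :
    χ ∈ Set.range C.E1 ∨ χ ∈ Set.range C.E2 ∨ χ ∈ Set.range C.E3 ∨ χ ∈ Set.range C.E4 ∨ χ ∈ S := by
  classical
  haveI : Finite (IrrCharacter G) := finite_irr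
  have hfin : ∀ A : Set (IrrCharacter G), A.Finite := fun A => Set.toFinite A
  have hU : (Set.range C.E1 ∪ (Set.range C.E2 ∪ (Set.range C.E3 ∪ (Set.range C.E4 ∪ S)))) = Set.univ := by
    apply Set.eq_of_subset_of_ncard_le (Set.subset_univ _)
    · rw [Set.ncard_univ, card_irr_eq_card_conjClasses, ← hcard]
      rw [Set.ncard_union_eq _ (hfin _) (hfin _), Set.ncard_union_eq _ (hfin _) (hfin _),
        Set.ncard_union_eq _ (hfin _) (hfin _), Set.ncard_union_eq _ (hfin _) (hfin _)]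
      · have e1 : (Set.range C.E1).ncard = Nat.card C.Lin := by
          rw [← Set.image_univ, Set.ncard_image_of_injective _ C.E1_inj, Set.ncard_univ]
        have e2 : (Set.range C.E2).ncard = Nat.card C.Lin := by
          rw [← Set.image_univ, Set.ncard_image_of_injective _ C.E2_inj, Set.ncard_univ]
        rw [e1, e2]
        omega
      · rw [Set.disjoint_left]
        intro x hx hS
        exact h4 x hS hx
      · rw [Set.disjoint_left]
        rintro x ⟨a, rfl⟩ (⟨b, hb⟩ | hS)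
        · exact C.E3_ne_E4 a b hb.symm
        · exact h3 _ hS ⟨a, rfl⟩
      · rw [Set.disjoint_left]
        rintro x ⟨a, rfl⟩ (⟨b, hb⟩ | ⟨b, hb⟩ | hS)
        · exact C.E2_ne_E3 a b hb.symm
        · exact C.E2_ne_E4 a b hb.symm
        · exact h2 _ hS ⟨a, rfl⟩
      · rw [Set.disjoint_left]
        rintro x ⟨a, rfl⟩ (⟨b, hb⟩ | ⟨b, hb⟩ | ⟨b, hb⟩ | hS)
        · exact C.E1_ne_E2 a b hb.symm
        · exact C.E1_ne_E3 a b hb.symm
        · exact C.E1_ne_E4 a b hb.symm
        · exact h1 _ hS ⟨a, rfl⟩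
  have : χ ∈ (Set.range C.E1 ∪ (Set.range C.E2 ∪ (Set.range C.E3 ∪ (Set.range C.E4 ∪ S)))) := by
    rw [hU]
    trivial
  simpa only [Set.mem_union] using this

lemma deg_E1 (a : C.Lin) : (C.E1 a : G → ℂ) 1 = 1 := by
  show ((a.1 1 : ℂˣ) : ℂ) = 1
  simp

lemma deg_E2 (a : C.Lin) : (C.E2 a : G → ℂ) 1 = (q : ℂ) := C.St_one a.1

lemma R_one (l : C.D →* ℂˣ) : C.R l 1 = (q : ℂ) + 1 := by
  have := C.R_zz l 1
  simpa using this

lemma deg_E3 (a : C.P) : (C.E3 a : G → ℂ) 1 = (q : ℂ) + 1 := C.R_one a.1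

lemma deg_E4 (a : C.Q) : (C.E4 a : G → ℂ) 1 = (q : ℂ) - 1 := C.chi_one (C.lab_comp a.1)

end list

end Cx

end Cfsg.Agent.Lib.KS2.RK
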