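import Mathlib
import Cfsg.Agent.Lib.KS2.GLikeIrr
import Cfsg.Agent.Lib.KS2.PSL2Spec
import Cfsg.Agent.Lib.KS2.SL2Classes

set_option autoImplicit false
set_option linter.unusedSimpArgs false
set_option linter.unusedVariables false
set_option linter.unusedSectionVars false

namespace Cfsg.Agent.Lib.KS2.RK

open Matrix Cfsg Cfsg.Agent.Lib.Char
open scoped MatrixGroups ComplexConjugate

universe u

variable {F : Type*} [Field F] [Fintype F]

local notation "q" => (Fintype.card F)

lemma sl_card_D : Nat.card (slLike F).D = 1 * (q - 1) := by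
  classical
  rw [one_mul, ← Fintype.card_units, ← Nat.card_eq_fintype_card]
  apply Nat.card_congr
  refine Equiv.ofBijective (slLike F).ent0 ⟨?_, ?_⟩
  · intro a b h
    have h1 : (slLike F).e a 0 0 = (slLike F).e b 0 0 := congrArg Units.val h
    apply (slLike F).D_ext h1
    have ha := SL2.det_rel a.1
    have hb := SL2.det_rel b.1
    have ha1 : ((a.1 : SL(2, F)) : Matrix (Fin 2) (Fin 2) F) 0 1 = 0 := a.2.1
    have hb1 : ((b.1 : SL(2, F)) : Matrix (Fin 2) (Fin 2) F) 0 1 = 0 := b.2.1
    rw [ha1] at ha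
    rw [hb1] at hb
    simp only [sl_e] at h1 ⊢
    rw [h1] at ha
    have h0 : ((b.1 : SL(2, F)) : Matrix (Fin 2) (Fin 2) F) 0 0 ≠ 0 := by
      intro h0
      rw [h0] at hb
      simp at hb
    apply mul_left_cancel₀ h0
    linear_combination ha - hb
  · intro a
    exact ⟨slDiag a, by ext; rfl⟩

lemma sl_card_T (ν : F) (hν : ∀ u : F, u ^ 2 - 1 * u + ν ≠ 0) :
    Nat.card ((slLike F).T ν) = 1 * (q + 1) := by
  rw [one_mul, ← SL2.card_torus 1 ν hν]
  rfl

/-- `SL₂` as a context. -/
noncomputable def slCx (F : Type*) [Field F] [Fintype F] : Cx F SL(2, F) where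
  toGLike := slLike F
  ν := (SL2.exists_no_root (F := F)).choose
  hν := (SL2.exists_no_root (F := F)).choose_spec
  wr := (SL2.nform_universal 1 _ (SL2.exists_no_root (F := F)).choose_spec (-1)).choose
  ws := (SL2.nform_universal 1 _ (SL2.exists_no_root (F := F)).choose_spec (-1)).choose_spec.choose
  hw := (SL2.nform_universal 1 _ (SL2.exists_no_root (F := F)).choose_spec (-1)).choose_spec.choose_spec
  δ := 1
  hδ := one_pos
  hD := sl_card_D
  hT := sl_card_T _ (SL2.exists_no_root (F := F)).choose_spec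

lemma gl_card_D : Nat.card (glLike F).D = (q - 1) * (q - 1) := by
  classical
  have e : (glLike F).D ≃ Fˣ × Fˣ := by
    refine Equiv.ofBijective (fun t => ((glLike F).ent0 t, (glLike F).ent1 t)) ⟨?_, ?_⟩
    · intro a b h
      have h1 := congrArg Prod.fst h
      have h2 := congrArg Prod.snd h
      exact (glLike F).D_ext (congrArg Units.val h1) (congrArg Units.val h2)
    · rintro ⟨a, d⟩
      exact ⟨glDiag a d, by ext <;> rfl⟩
  rw [Nat.card_congr e, Nat.card_prod, Nat.card_eq_fintype_card, Fintype.card_units]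

lemma gl_card_T (ν : F) (hν : ∀ u : F, u ^ 2 - 1 * u + ν ≠ 0) :
    Nat.card ((glLike F).T ν) = (q - 1) * (q + 1) := by
  have : Nat.card ((glLike F).T ν) = Nat.card (SL2.dtorus 1 ν) := rfl
  rw [this, SL2.card_dtorus 1 ν hν]
  have h2 : 2 ≤ q := Fintype.one_lt_card
  obtain ⟨r, hr⟩ : ∃ r, q = r + 1 := ⟨q - 1, by omega⟩
  rw [hr]
  simp only [Nat.add_sub_cancel]
  have : (r + 1) ^ 2 = r * (r + 1 + 1) + 1 := by ring
  omega

/-- `GL₂` as a context. -/
noncomputable def glCx (F : Type*) [Field F] [Fintype F] : Cx F (GL (Fin 2) F) where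
  toGLike := glLike F
  ν := (SL2.exists_no_root (F := F)).choose
  hν := (SL2.exists_no_root (F := F)).choose_spec
  wr := (SL2.nform_universal 1 _ (SL2.exists_no_root (F := F)).choose_spec (-1)).choose
  ws := (SL2.nform_universal 1 _ (SL2.exists_no_root (F := F)).choose_spec (-1)).choose_spec.choose
  hw := (SL2.nform_universal 1 _ (SL2.exists_no_root (F := F)).choose_spec (-1)).choose_spec.choose_spec
  δ := Fintype.card F - 1
  hδ := by
    have h2 : 2 ≤ Fintype.card F := Fintype.one_lt_card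
    omega
  hD := gl_card_D
  hT := gl_card_T _ (SL2.exists_no_root (F := F)).choose_spec

@[simp] lemma slCx_e (g : SL(2, F)) (i j : Fin 2) :
    (slCx F).e g i j = (g : Matrix (Fin 2) (Fin 2) F) i j := rfl

@[simp] lemma glCx_e (g : GL (Fin 2) F) (i j : Fin 2) :
    (glCx F).e g i j = (g : Matrix (Fin 2) (Fin 2) F) i j := rfl

section GLpart

variable [Fintype (GL (Fin 2) F)]

lemma gl_card_Z : Nat.card (glCx F).Z = q - 1 := by
  classical
  rw [← Fintype.card_units, ← Nat.card_eq_fintype_card]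
  apply Nat.card_congr
  refine Equiv.ofBijective (fun t => (glCx F).ent0 ⟨t.1, (glCx F).Z_le_D t.2⟩) ⟨?_, ?_⟩
  · intro a b h
    have h1 : (glCx F).e a.1 0 0 = (glCx F).e b.1 0 0 := congrArg Units.val h
    apply Subtype.ext
    apply (glCx F).ext' h1
    · rw [a.2.1, b.2.1]
    · rw [a.2.2.1, b.2.2.1]
    · rw [← a.2.2.2, ← b.2.2.2, h1]
  · intro a
    refine ⟨⟨(glDiag a a : (glLike F).D).1, rfl, rfl, rfl⟩, ?_⟩
    ext
    rfl

/-- `Lin` for `GL₂`. -/
lemma gl_card_Lin : Nat.card (glCx F).Lin = q - 1 := by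
  classical
  rw [← Fintype.card_units, ← Nat.card_eq_fintype_card (α := Fˣ)]
  haveI : NeZero (Monoid.exponent Fˣ) := ⟨Monoid.exponent_ne_zero_of_finite⟩
  rw [← CommGroup.card_monoidHom_of_hasEnoughRootsOfUnity Fˣ ℂ]
  symm
  apply Nat.card_congr
  have hdet : ∀ c : F, Matrix.GeneralLinearGroup.det ((glCx F).u c) = 1 := by
    intro c
    ext
    simp only [Matrix.GeneralLinearGroup.val_det_apply, Matrix.det_fin_two, Units.val_one]
    have h00 := (glCx F).u00 c
    have h01 := (glCx F).u01 c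
    have h10 := (glCx F).u10 c
    have h11 := (glCx F).u11 c
    simp only [glCx_e] at h00 h01 h10 h11
    rw [h00, h01, h10, h11]
    ring
  refine Equiv.ofBijective (fun μ => ⟨μ.comp Matrix.GeneralLinearGroup.det, fun c => by
    rw [MonoidHom.comp_apply, hdet, map_one]⟩) ⟨?_, ?_⟩
  · intro a b h
    have h1 := congrArg Subtype.val h
    ext1 x
    have h2 := congrArg (fun φ : GL (Fin 2) F →* ℂˣ => φ ((glDiag x 1 : (glLike F).D).1)) h1
    simp only [MonoidHom.comp_apply] at h2
    have h3 : Matrix.GeneralLinearGroup.det ((glDiag x 1 : (glLike F).D).1) = x := by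
      ext
      simp only [Matrix.GeneralLinearGroup.val_det_apply, Matrix.det_fin_two]
      have h00 := glDiag00 x (1 : Fˣ)
      have h01 : (glLike F).e (glDiag x 1 : (glLike F).D).1 0 1 = 0 := (glDiag x 1 : (glLike F).D).2.1
      have h11 := glDiag11 x (1 : Fˣ)
      simp only [gl_e] at h00 h01 h11
      rw [h00, h01, h11]
      simp
    rwa [h3] at h2
  · rintro ⟨ν, hν⟩
    let ι₁ : Fˣ →* GL (Fin 2) F :=
      { toFun := fun a => (glDiag a 1 : (glLike F).D).1
        map_one' := by
          apply GL2.ext4 <;> simp [glDiag]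
        map_mul' := fun a b => by
          apply GL2.ext4 <;> simp [glDiag, GL2.mul00, GL2.mul01, GL2.mul10, GL2.mul11] }
    refine ⟨ν.comp ι₁, ?_⟩
    apply Subtype.ext
    ext1 g
    show ν (ι₁ (Matrix.GeneralLinearGroup.det g)) = ν g
    set d := Matrix.GeneralLinearGroup.det g with hd
    have hdι : Matrix.GeneralLinearGroup.det (ι₁ d) = d := by
      ext
      show ((Matrix.GeneralLinearGroup.det (glDiag d 1 : (glLike F).D).1 : Fˣ) : F) = d
      simp only [Matrix.GeneralLinearGroup.val_det_apply, Matrix.det_fin_two]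
      have h00 := glDiag00 d (1 : Fˣ)
      have h01 : (glLike F).e (glDiag d 1 : (glLike F).D).1 0 1 = 0 := (glDiag d 1 : (glLike F).D).2.1
      have h11 := glDiag11 d (1 : Fˣ)
      simp only [gl_e] at h00 h01 h11
      rw [h00, h01, h11]
      simp
    have hdet1 : Matrix.GeneralLinearGroup.det ((ι₁ d)⁻¹ * g) = 1 := by
      rw [map_mul, map_inv, hdι, ← hd, inv_mul_cancel]
    let h : SL(2, F) := ⟨(((ι₁ d)⁻¹ * g : GL (Fin 2) F) : Matrix (Fin 2) (Fin 2) F), by
      have h3 := congrArg Units.val hdet1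
      rwa [Matrix.GeneralLinearGroup.val_det_apply, Units.val_one] at h3⟩
    have hs : (glCx F).s h = (ι₁ d)⁻¹ * g := by
      apply Units.ext
      rfl
    have h1 := (glCx F).lin_s ν hν h
    rw [hs, map_mul, map_inv] at h1
    exact (inv_mul_eq_one.mp h1)

end GLpart

end Cfsg.Agent.Lib.KS2.RK
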