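import Mathlib
import Cfsg.Agent.Lib.KS2.GLikeCx

set_option autoImplicit false
set_option linter.unusedSimpArgs false
set_option linter.unusedVariables false
set_option linter.unusedSectionVars false

namespace Cfsg.Agent.Lib.KS2.RK

open Matrix Cfsg Cfsg.Agent.Lib.Char
open scoped MatrixGroups ComplexConjugate

universe u

section generic

variable {F : Type*} [Field F] [Fintype F] {G : Type u} [Group G] [Fintype G] (C : Cx F G)

local notation "q" => (Fintype.card F)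

lemma Cx.R_diag (l : C.D →* ℂˣ) (t : C.D) (ht : (t : G) ∉ C.Z) :
    C.R l t = ((l t : ℂˣ) : ℂ) + ((l (C.sg t) : ℂˣ) : ℂ) := by
  have := C.R_tu_reg l t ht 0
  rwa [C.u_zero, mul_one] at this

lemma Cx.chi_diag {l : C.D →* ℂˣ} {θ : C.T →* ℂˣ} (t : C.D) (ht : (t : G) ∉ C.Z) :
    C.chi l θ t = 0 := by
  have := C.chi_tu (l := l) (θ := θ) t ht 0
  rwa [C.u_zero, mul_one] at this

lemma Cx.St_diag {ν : G →* ℂˣ} (t : C.D) (ht : (t : G) ∉ C.Z) :
    C.St ν t = ((ν t : ℂˣ) : ℂ) := by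
  rw [Cx.St_apply, C.R_diag _ t ht, Cx.νD_apply]
  have : C.νD ν (C.sg t) = C.νD ν t := by
    have := congrArg (fun l : C.D →* ℂˣ => l t) (C.νD_sg ν)
    exact this
  rw [this, Cx.νD_apply]
  ring

lemma Cx.St_no_eig {ν : G →* ℂˣ} {g : G} (hg : C.NE g) :
    C.St ν g = -((ν g : ℂˣ) : ℂ) := by
  rw [Cx.St_apply, C.R_no_eig _ hg]
  ring

lemma Cx.R_u (l : C.D →* ℂˣ) {c : F} (hc : c ≠ 0) : C.R l (C.u c) = 1 := by
  have := C.R_zu l (1 : C.Z) hc
  simpa using this

lemma Cx.St_u {ν : G →* ℂˣ} (hν : ∀ c : F, ν (C.u c) = 1) {c : F} (hc : c ≠ 0) : C.St ν (C.u c) = 0 := by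
  rw [Cx.St_apply, C.R_u _ hc, hν]
  simp

lemma Cx.chi_u {l : C.D →* ℂˣ} {θ : C.T →* ℂˣ} (hl : C.Comp l θ) {c : F} (hc : c ≠ 0) :
    C.chi l θ (C.u c) = -1 := by
  have := C.chi_zu hl (1 : C.Z) hc
  simpa using this

/-- The subtype count. -/
lemma card_subtype_eq_ncard {α : Type*} (P : α → Prop) (s : Set α) (h : ∀ x, P x ↔ x ∈ s) :
    Nat.card {x // P x} = s.ncard := by
  rw [← Nat.card_coe_set_eq]
  exact Nat.card_congr (Equiv.subtypeEquivRight h)

/-- The no-eigenvector form. -/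
lemma Cx.NE_of_mulVec {g : G}
    (h : ∀ (c : F) (v : Fin 2 → F), v ≠ 0 → ((C.ι g : GL (Fin 2) F) : Matrix (Fin 2) (Fin 2) F).mulVec v ≠ c • v) :
    C.NE g := no_eig_conv _ h

end generic

section casts

variable {F : Type*} [Field F] [Fintype F]

local notation "q" => (Fintype.card F)

lemma q_ne_succ : (q : ℂ) ≠ (q : ℂ) + 1 := by simp
lemma q_ne_pred : (q : ℂ) ≠ (q : ℂ) - 1 := by
  intro h
  have : (1 : ℂ) = 0 := by linear_combination h
  norm_num at this
lemma succ_ne_pred : (q : ℂ) + 1 ≠ (q : ℂ) - 1 := by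
  intro h
  have : (2 : ℂ) = 0 := by linear_combination h
  norm_num at this
lemma one_ne_q : (1 : ℂ) ≠ (q : ℂ) := by
  have h2 : 2 ≤ q := Fintype.one_lt_card
  intro h
  have : (1 : ℕ) = q := by exact_mod_cast h
  omega
lemma one_ne_succ : (1 : ℂ) ≠ (q : ℂ) + 1 := by
  intro h
  have h0 : (q : ℂ) = 0 := by linear_combination -h
  have h1 : q = 0 := by exact_mod_cast h0
  exact Fintype.card_ne_zero h1
lemma one_ne_pred (h3 : 3 ≤ q) : (1 : ℂ) ≠ (q : ℂ) - 1 := by
  intro h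
  have h0 : (q : ℂ) = 2 := by linear_combination -h
  have h1 : q = 2 := by exact_mod_cast h0
  omega

end casts

section GLpart

variable {F : Type*} [Field F] [Fintype F]

local notation "q" => (Fintype.card F)

local notation "CG" => (glCx F)

lemma gl_lin_eq : 2 * q - 2 = 2 * (q - 1) := by omega

/-- `E3` and `E4` counts. -/
lemma gl_ncard_E3 [Fintype (GL (Fin 2) F)] : (Set.range (glCx F).E3).ncard = (q - 1) * (q - 2) / 2 := by
  have h1 := (glCx F).ncard_E3
  have h2 := (glCx F).card_P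
  rw [gl_card_Z, (glCx F).hD] at h2
  have hδ : (glCx F).δ = q - 1 := rfl
  rw [hδ] at h2
  have h3 : 2 ≤ q := Fintype.one_lt_card
  obtain ⟨r, hr⟩ : ∃ r, q = r + 2 := ⟨q - 2, by omega⟩
  rw [hr] at h2 ⊢
  simp only [Nat.add_sub_cancel] at h2 ⊢
  have h4 : r + 2 - 1 = r + 1 := by omega
  rw [h4] at h2 ⊢
  have h5 : Nat.card (glCx F).P = (r + 1) * r := by
    have : (r + 1) * (r + 1) = (r + 1) * r + (r + 1) := by ring
    omega
  rw [h5] at h1
  omega

lemma gl_ncard_E4 [Fintype (GL (Fin 2) F)] : (Set.range (glCx F).E4).ncard = q * (q - 1) / 2 := by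
  have h1 := (glCx F).ncard_E4
  have h2 := (glCx F).card_Q
  rw [gl_card_Z, (glCx F).hT] at h2
  have hδ : (glCx F).δ = q - 1 := rfl
  rw [hδ] at h2
  have h3 : 2 ≤ q := Fintype.one_lt_card
  obtain ⟨r, hr⟩ : ∃ r, q = r + 1 := ⟨q - 1, by omega⟩
  rw [hr] at h2 ⊢
  simp only [Nat.add_sub_cancel] at h2 ⊢
  have h5 : Nat.card (glCx F).Q = (r + 1) * r := by
    have : r * (r + 1 + 1) = (r + 1) * r + r := by ring
    omega
  rw [h5] at h1
  omega

lemma gl_ncard_E1 [Fintype (GL (Fin 2) F)] : (Set.range (glCx F).E1).ncard = q - 1 := by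
  rw [← Set.image_univ, Set.ncard_image_of_injective _ (glCx F).E1_inj, Set.ncard_univ, gl_card_Lin]

lemma gl_ncard_E2 [Fintype (GL (Fin 2) F)] : (Set.range (glCx F).E2).ncard = q - 1 := by
  rw [← Set.image_univ, Set.ncard_image_of_injective _ (glCx F).E2_inj, Set.ncard_univ, gl_card_Lin]

/-- Classification of the irreducible characters of `GL₂`. -/
theorem gl_classify [Fintype (GL (Fin 2) F)] (χ : IrrCharacter (GL (Fin 2) F)) :
    χ ∈ Set.range (glCx F).E1 ∨ χ ∈ Set.range (glCx F).E2 ∨ χ ∈ Set.range (glCx F).E3 ∨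
      χ ∈ Set.range (glCx F).E4 := by
  have h := (glCx F).classify ∅ (by simp) (by simp) (by simp) (by simp) ?_ χ
  · rcases h with h | h | h | h | h
    · exact Or.inl h
    · exact Or.inr (Or.inl h)
    · exact Or.inr (Or.inr (Or.inl h))
    · exact Or.inr (Or.inr (Or.inr h))
    · exact absurd h (Set.notMem_empty _)
  · rw [gl_card_Lin, gl_ncard_E3, gl_ncard_E4, GL2.card_conjClasses, Set.ncard_empty, add_zero]
    have h3 : 2 ≤ q := Fintype.one_lt_card
    obtain ⟨r, hr⟩ : ∃ r, q = r + 2 := ⟨q - 2, by omega⟩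
    rw [hr]
    simp only [Nat.add_sub_cancel]
    have h4 : r + 2 - 1 = r + 1 := by omega
    rw [h4]
    -- two consecutive products are even
    obtain ⟨a, ha⟩ : ∃ a, (r + 1) * r = 2 * a := by
      obtain ⟨a, ha⟩ := Nat.even_mul_succ_self r
      exact ⟨a, by rw [two_mul, ← ha]; ring⟩
    obtain ⟨b, hb⟩ : ∃ b, (r + 2) * (r + 1) = 2 * b := by
      obtain ⟨a, ha⟩ := Nat.even_mul_succ_self (r + 1)
      exact ⟨a, by rw [two_mul, ← ha]; ring⟩
    rw [ha, hb, Nat.mul_div_cancel_left _ (by norm_num), Nat.mul_div_cancel_left _ (by norm_num)]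
    have hs : a + b = (r + 1) ^ 2 := by
      have : 2 * (a + b) = 2 * (r + 1) ^ 2 := by
        rw [mul_add, ← ha, ← hb]
        ring
      omega
    have h7 : (r + 2) ^ 2 = (r + 1) ^ 2 + 2 * (r + 1) + 1 := by ring
    omega

end GLpart

end Cfsg.Agent.Lib.KS2.RK
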