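import Mathlib
import Cfsg.Agent.Lib.KS2.GLTable

set_option autoImplicit false
set_option linter.unusedSimpArgs false
set_option linter.unusedVariables false
set_option linter.unusedSectionVars false

namespace Cfsg.Agent.Lib.KS2.RK

open Matrix Cfsg Cfsg.Agent.Lib.Char
open scoped MatrixGroups ComplexConjugate

universe u

section generic

variable {F : Type*} [Field F] [Fintype F] {G : Type u} [Group G] [Fintype G] (C : Cx F G)

local notation "q" => (Fintype.card F)

/-- The degree count from a classification. -/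
theorem Cx.counts (hc : ∀ χ : IrrCharacter G, χ ∈ Set.range C.E1 ∨ χ ∈ Set.range C.E2 ∨
      χ ∈ Set.range C.E3 ∨ χ ∈ Set.range C.E4) (h3 : 3 ≤ q) :
    Nat.card {χ : IrrCharacter G // (χ : G → ℂ) 1 = 1} = (Set.range C.E1).ncard ∧
    Nat.card {χ : IrrCharacter G // (χ : G → ℂ) 1 = (q : ℂ)} = (Set.range C.E2).ncard ∧
    Nat.card {χ : IrrCharacter G // (χ : G → ℂ) 1 = (q : ℂ) + 1} = (Set.range C.E3).ncard ∧
    Nat.card {χ : IrrCharacter G // (χ : G → ℂ) 1 = (q : ℂ) - 1} = (Set.range C.E4).ncard := by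
  have hdeg1 := C.deg_E1
  have hdeg2 := C.deg_E2
  have hdeg3 := C.deg_E3
  have hdeg4 := C.deg_E4
  refine ⟨?_, ?_, ?_, ?_⟩
  · rw [card_subtype_eq_ncard _ (Set.range C.E1)]
    intro χ
    constructor
    · intro h
      rcases hc χ with ha | ⟨a, rfl⟩ | ⟨a, rfl⟩ | ⟨a, rfl⟩
      · exact ha
      · rw [hdeg2] at h
        exact absurd h.symm (one_ne_q)
      · rw [hdeg3] at h
        exact absurd h.symm (one_ne_succ)
      · rw [hdeg4] at h
        exact absurd h.symm (one_ne_pred h3)
    · rintro ⟨a, rfl⟩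
      exact hdeg1 a
  · rw [card_subtype_eq_ncard _ (Set.range C.E2)]
    intro χ
    constructor
    · intro h
      rcases hc χ with ⟨a, rfl⟩ | ha | ⟨a, rfl⟩ | ⟨a, rfl⟩
      · rw [hdeg1] at h
        exact absurd h (one_ne_q)
      · exact ha
      · rw [hdeg3] at h
        exact absurd h.symm (q_ne_succ)
      · rw [hdeg4] at h
        exact absurd h.symm (q_ne_pred)
    · rintro ⟨a, rfl⟩
      exact hdeg2 a
  · rw [card_subtype_eq_ncard _ (Set.range C.E3)]
    intro χ
    constructor
    · intro h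
      rcases hc χ with ⟨a, rfl⟩ | ⟨a, rfl⟩ | ha | ⟨a, rfl⟩
      · rw [hdeg1] at h
        exact absurd h (one_ne_succ)
      · rw [hdeg2] at h
        exact absurd h (q_ne_succ)
      · exact ha
      · rw [hdeg4] at h
        exact absurd h.symm (succ_ne_pred)
    · rintro ⟨a, rfl⟩
      exact hdeg3 a
  · rw [card_subtype_eq_ncard _ (Set.range C.E4)]
    intro χ
    constructor
    · intro h
      rcases hc χ with ⟨a, rfl⟩ | ⟨a, rfl⟩ | ⟨a, rfl⟩ | ha
      · rw [hdeg1] at h
        exact absurd h (one_ne_pred h3)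
      · rw [hdeg2] at h
        exact absurd h (q_ne_pred)
      · rw [hdeg3] at h
        exact absurd h (succ_ne_pred)
      · exact ha
    · rintro ⟨a, rfl⟩
      exact hdeg4 a

end generic

section SLpart

variable {F : Type*} [Field F] [Fintype F]

local notation "q" => (Fintype.card F)

/-- The linear characters of `SL₂` that are trivial on the unipotents. -/
lemma sl_lin_eq_one [Fintype SL(2, F)] (ν : SL(2, F) →* ℂˣ) (hν : ∀ c : F, ν ((slCx F).u c) = 1) : ν = 1 := by
  ext1 g
  exact (slCx F).lin_s ν hν g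

lemma sl_card_Lin [Fintype SL(2, F)] : Nat.card (slCx F).Lin = 1 := by
  have : Unique (slCx F).Lin :=
    { default := ⟨1, fun _ => rfl⟩
      uniq := fun a => Subtype.ext (sl_lin_eq_one a.1 a.2) }
  exact Nat.card_unique

/-- The scalars of `SL₂`. -/
lemma sl_card_Z : Nat.card (slCx F).Z = Nat.card {a : F // a * a = 1} := by
  apply Nat.card_congr
  refine ⟨fun z => ⟨(slCx F).e z.1 0 0, ?_⟩, fun a => ⟨SL2.sc a.1 a.2, ?_⟩, ?_, ?_⟩
  · have hd := SL2.det_rel z.1
    have h1 : ((z.1 : SL(2, F)) : Matrix (Fin 2) (Fin 2) F) 0 1 = 0 := z.2.1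
    have h2 : ((z.1 : SL(2, F)) : Matrix (Fin 2) (Fin 2) F) 0 0 = ((z.1 : SL(2, F)) : Matrix (Fin 2) (Fin 2) F) 1 1 := z.2.2.2
    rw [h1, ← h2] at hd
    simp only [slCx_e]
    linear_combination hd
  · exact ⟨rfl, rfl, rfl⟩
  · intro z
    apply Subtype.ext
    apply SL2.ext4
    · rfl
    · exact z.2.1.symm
    · exact z.2.2.1.symm
    · exact z.2.2.2
  · intro a
    rfl

lemma sl_card_Z_even (h2 : (2 : F) = 0) : Nat.card (slCx F).Z = 1 := by
  rw [sl_card_Z]
  have : Unique {a : F // a * a = 1} :=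
    { default := ⟨1, by ring⟩
      uniq := fun a => by
        apply Subtype.ext
        show a.1 = 1
        have h : (a.1 - 1) * (a.1 - 1) = 0 := by
          have := a.2
          linear_combination this - a.1 * h2 + h2
        have h3 := mul_self_eq_zero.mp h
        exact sub_eq_zero.mp h3 }
  exact Nat.card_unique

lemma sl_card_Z_odd (h2 : (2 : F) ≠ 0) : Nat.card (slCx F).Z = 2 := by
  classical
  rw [sl_card_Z, Nat.card_eq_two_iff]
  refine ⟨⟨1, by ring⟩, ⟨-1, by ring⟩, ?_, ?_⟩
  · intro h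
    have h3 : (1 : F) = -1 := congrArg Subtype.val h
    apply h2
    linear_combination h3
  · ext a
    simp only [Set.mem_insert_iff, Set.mem_singleton_iff, Set.mem_univ, iff_true, Subtype.ext_iff]
    have h3 : (a.1 - 1) * (a.1 + 1) = 0 := by
      have := a.2
      linear_combination this
    rcases mul_eq_zero.mp h3 with h4 | h4
    · left
      exact sub_eq_zero.mp h4
    · right
      linear_combination h4

lemma sl_ncard_E1 [Fintype SL(2, F)] : (Set.range (slCx F).E1).ncard = 1 := by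
  rw [← Set.image_univ, Set.ncard_image_of_injective _ (slCx F).E1_inj, Set.ncard_univ, sl_card_Lin]

lemma sl_ncard_E2 [Fintype SL(2, F)] : (Set.range (slCx F).E2).ncard = 1 := by
  rw [← Set.image_univ, Set.ncard_image_of_injective _ (slCx F).E2_inj, Set.ncard_univ, sl_card_Lin]

lemma sl_ncard_E3_even [Fintype SL(2, F)] (h2 : (2 : F) = 0) : (Set.range (slCx F).E3).ncard = (q - 2) / 2 := by
  have h1 := (slCx F).ncard_E3
  have h3 := (slCx F).card_P
  rw [sl_card_Z_even h2, (slCx F).hD] at h3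
  have hδ : (slCx F).δ = 1 := rfl
  rw [hδ] at h3
  omega

lemma sl_ncard_E4_even [Fintype SL(2, F)] (h2 : (2 : F) = 0) : (Set.range (slCx F).E4).ncard = q / 2 := by
  have h1 := (slCx F).ncard_E4
  have h3 := (slCx F).card_Q
  rw [sl_card_Z_even h2, (slCx F).hT] at h3
  have hδ : (slCx F).δ = 1 := rfl
  rw [hδ] at h3
  omega

lemma sl_ncard_E3_odd [Fintype SL(2, F)] (h2 : (2 : F) ≠ 0) : (Set.range (slCx F).E3).ncard = (q - 3) / 2 := by
  have h1 := (slCx F).ncard_E3
  have h3 := (slCx F).card_P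
  rw [sl_card_Z_odd h2, (slCx F).hD] at h3
  have hδ : (slCx F).δ = 1 := rfl
  rw [hδ] at h3
  omega

lemma sl_ncard_E4_odd [Fintype SL(2, F)] (h2 : (2 : F) ≠ 0) : (Set.range (slCx F).E4).ncard = (q - 1) / 2 := by
  have h1 := (slCx F).ncard_E4
  have h3 := (slCx F).card_Q
  rw [sl_card_Z_odd h2, (slCx F).hT] at h3
  have hδ : (slCx F).δ = 1 := rfl
  rw [hδ] at h3
  omega

lemma two_eq_zero_iff : (2 : F) = 0 ↔ ringChar F = 2 := by
  constructor
  · intro h
    have h1 : ((2 : ℕ) : F) = 0 := by exact_mod_cast h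
    have h3 := ringChar.dvd h1
    have hp := CharP.char_is_prime_or_zero F (ringChar F)
    rcases (Nat.dvd_prime Nat.prime_two).mp h3 with h4 | h4
    · have : ringChar F ≠ 1 := CharP.ringChar_ne_one
      exact absurd h4 this
    · exact h4
  · intro h
    have := ringChar.Nat.cast_ringChar (R := F)
    rw [h] at this
    exact_mod_cast this

/-- Classification for `q` even. -/
theorem sl_classify_even [Fintype SL(2, F)] (h2 : (2 : F) = 0) (χ : IrrCharacter SL(2, F)) :
    χ ∈ Set.range (slCx F).E1 ∨ χ ∈ Set.range (slCx F).E2 ∨ χ ∈ Set.range (slCx F).E3 ∨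
      χ ∈ Set.range (slCx F).E4 := by
  have h := (slCx F).classify ∅ (by simp) (by simp) (by simp) (by simp) ?_ χ
  · rcases h with h | h | h | h | h
    · exact Or.inl h
    · exact Or.inr (Or.inl h)
    · exact Or.inr (Or.inr (Or.inl h))
    · exact Or.inr (Or.inr (Or.inr h))
    · exact absurd h (Set.notMem_empty _)
  · rw [sl_card_Lin, sl_ncard_E3_even h2, sl_ncard_E4_even h2, SL2.card_conjClasses_even (two_eq_zero_iff.mp h2),
      Set.ncard_empty, add_zero]
    have hev : Even q := by
      have h1 := (slCx F).ncard_E4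
      have h3 := (slCx F).card_Q
      rw [sl_card_Z_even h2, (slCx F).hT] at h3
      have hδ : (slCx F).δ = 1 := rfl
      rw [hδ] at h3
      rw [Nat.even_iff]
      omega
    rw [Nat.even_iff] at hev
    have h5 : 2 ≤ q := Fintype.one_lt_card
    omega

end SLpart

end Cfsg.Agent.Lib.KS2.RK
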