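import Mathlib
import Cfsg.Agent.Lib.KS2.SLTable
import Cfsg.Agent.Lib.KS2.NormTwo

set_option autoImplicit false
set_option linter.unusedSimpArgs false
set_option linter.unusedVariables false
set_option linter.unusedSectionVars false

namespace Cfsg.Agent.Lib.KS2.RK

open Matrix Cfsg Cfsg.Agent.Lib.Char
open scoped MatrixGroups ComplexConjugate

universe u

section generic

variable {F : Type*} [Field F] [Fintype F] {G : Type u} [Group G] [Fintype G] (C : Cx F G)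

/-- The invariant labels when there are two scalars. -/
lemma Cx.exists_fixD (hZ : Nat.card C.Z = 2) :
    ∃ l₀ : C.D →* ℂˣ, l₀ ≠ 1 ∧ l₀ = l₀.comp C.sg ∧ ∀ l : C.D →* ℂˣ, l = l.comp C.sg → l = 1 ∨ l = l₀ := by
  classical
  have h := C.card_fixD
  rw [hZ, Nat.card_eq_two_iff] at h
  obtain ⟨x, y, hxy, hU⟩ := h
  have hmem : ∀ l : {l : C.D →* ℂˣ // l = l.comp C.sg}, l = x ∨ l = y := by
    intro l
    have : l ∈ ({x, y} : Set _) := by rw [hU]; trivial
    simpa using this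
  have h1 : ((⟨1, by ext; rfl⟩ : {l : C.D →* ℂˣ // l = l.comp C.sg})) = x ∨ ((⟨1, by ext; rfl⟩ : {l : C.D →* ℂˣ // l = l.comp C.sg})) = y := hmem _
  rcases h1 with h1 | h1
  · refine ⟨y.1, ?_, y.2, ?_⟩
    · intro h
      apply hxy
      apply Subtype.ext
      rw [← h1, h]
    · intro l hl
      rcases hmem ⟨l, hl⟩ with h | h
      · left
        have := congrArg Subtype.val h
        rw [← h1] at this
        exact this
      · right
        exact congrArg Subtype.val h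
  · refine ⟨x.1, ?_, x.2, ?_⟩
    · intro h
      apply hxy
      apply Subtype.ext
      rw [← h1, h]
    · intro l hl
      rcases hmem ⟨l, hl⟩ with h | h
      · right
        exact congrArg Subtype.val h
      · left
        have := congrArg Subtype.val h
        rw [← h1] at this
        exact this

lemma Cx.exists_fixT (hZ : Nat.card C.Z = 2) :
    ∃ l₀ : C.T →* ℂˣ, l₀ ≠ 1 ∧ l₀ = l₀.comp C.sgT ∧ ∀ l : C.T →* ℂˣ, l = l.comp C.sgT → l = 1 ∨ l = l₀ := by
  classical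
  have h := C.card_fixT
  rw [hZ, Nat.card_eq_two_iff] at h
  obtain ⟨x, y, hxy, hU⟩ := h
  have hmem : ∀ l : {l : C.T →* ℂˣ // l = l.comp C.sgT}, l = x ∨ l = y := by
    intro l
    have : l ∈ ({x, y} : Set _) := by rw [hU]; trivial
    simpa using this
  have h1 : ((⟨1, by ext; rfl⟩ : {l : C.T →* ℂˣ // l = l.comp C.sgT})) = x ∨ ((⟨1, by ext; rfl⟩ : {l : C.T →* ℂˣ // l = l.comp C.sgT})) = y := hmem _
  rcases h1 with h1 | h1
  · refine ⟨y.1, ?_, y.2, ?_⟩
    · intro h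
      apply hxy
      apply Subtype.ext
      rw [← h1, h]
    · intro l hl
      rcases hmem ⟨l, hl⟩ with h | h
      · left
        have := congrArg Subtype.val h
        rw [← h1] at this
        exact this
      · right
        exact congrArg Subtype.val h
  · refine ⟨x.1, ?_, x.2, ?_⟩
    · intro h
      apply hxy
      apply Subtype.ext
      rw [← h1, h]
    · intro l hl
      rcases hmem ⟨l, hl⟩ with h | h
      · right
        exact congrArg Subtype.val h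
      · left
        have := congrArg Subtype.val h
        rw [← h1] at this
        exact this

/-- Orthogonality of a Weyl-invariant principal series to the list. -/
lemma Cx.inner_Psi_E1 {l₀ : C.D →* ℂˣ} (a : C.Lin) (h : l₀ ≠ C.νD a.1) :
    classInner (C.R l₀) (C.E1 a : G → ℂ) = 0 := by
  classical
  show classInner (C.R l₀) (fun g => ((a.1 g : ℂˣ) : ℂ)) = 0
  rw [C.inner_R_ν a.1 a.2, if_neg h]

lemma Cx.inner_Psi_E2 {l₀ : C.D →* ℂˣ} (a : C.Lin) (h : l₀ ≠ C.νD a.1) :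
    classInner (C.R l₀) (C.E2 a : G → ℂ) = 0 := C.inner_R_St a.2 l₀ h

lemma Cx.inner_Psi_E3 {l₀ : C.D →* ℂˣ} (h : l₀ = l₀.comp C.sg) (a : C.P) :
    classInner (C.R l₀) (C.E3 a : G → ℂ) = 0 := by
  classical
  show classInner (C.R l₀) (C.R a.1) = 0
  rw [C.classInner_R]
  have h1 : l₀ ≠ a.1 := by
    rintro rfl
    exact a.2 h
  have h2 : l₀ ≠ a.1.comp C.sg := by
    intro e
    apply h1
    have h3 : l₀.comp C.sg = a.1 := by
      rw [e, GLike.sg_comp_sg]
    rw [← h3]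
    exact h
  rw [if_neg h1, if_neg h2]
  norm_num

lemma Cx.inner_Psi_E4 (l₀ : C.D →* ℂˣ) (a : C.Q) :
    classInner (C.R l₀) (C.E4 a : G → ℂ) = 0 := by
  classical
  letI : Fintype C.Z := Fintype.ofFinite _
  rw [← conj_classInner]
  have : classInner (C.E4 a : G → ℂ) (C.R l₀) = 0 := C.inner_chi_R (C.lab_comp a.1) l₀
  rw [this]
  simp

lemma Cx.inner_Phi_E1 {θ₀ : C.T →* ℂˣ} {l : C.D →* ℂˣ} (a : C.Lin) (h : θ₀ ≠ C.νT a.1) :
    classInner (C.chi l θ₀) (C.E1 a : G → ℂ) = 0 := by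
  classical
  letI : Fintype C.Z := Fintype.ofFinite _
  exact C.inner_chi_ν a.1 a.2 l θ₀ h

lemma Cx.inner_Phi_E2 {θ₀ : C.T →* ℂˣ} {l : C.D →* ℂˣ} (hl : C.Comp l θ₀) (a : C.Lin) (h : θ₀ ≠ C.νT a.1) :
    classInner (C.chi l θ₀) (C.E2 a : G → ℂ) = 0 := C.inner_chi_St a.2 hl h

lemma Cx.inner_Phi_E3 {θ₀ : C.T →* ℂˣ} {l : C.D →* ℂˣ} (hl : C.Comp l θ₀) (a : C.P) :
    classInner (C.chi l θ₀) (C.E3 a : G → ℂ) = 0 := by
  classical
  letI : Fintype C.Z := Fintype.ofFinite _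
  exact C.inner_chi_R hl a.1

lemma Cx.inner_Phi_E4 {θ₀ : C.T →* ℂˣ} {l : C.D →* ℂˣ} (hl : C.Comp l θ₀) (h : θ₀ = θ₀.comp C.sgT) (a : C.Q) :
    classInner (C.chi l θ₀) (C.E4 a : G → ℂ) = 0 := by
  classical
  letI : Fintype C.Z := Fintype.ofFinite _
  show classInner (C.chi l θ₀) (C.chi (C.lab a.1) a.1) = 0
  rw [C.inner_chi_chi hl (C.lab_comp a.1)]
  have h1 : θ₀ ≠ a.1 := by
    rintro rfl
    exact a.2 h
  have h2 : θ₀ ≠ a.1.comp C.sgT := by
    intro e
    apply h1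
    have h3 : θ₀.comp C.sgT = a.1 := by
      rw [e]
      ext t
      simp [C.sgT_sgT]
    rw [← h3]
    exact h
  rw [if_neg h1, if_neg h2]
  norm_num

/-- Counting the elements of a list. -/
lemma filter_card_eq_ncard {α : Type*} [Fintype α] (s : Set α) [DecidablePred (· ∈ s)] :
    (Finset.univ.filter (· ∈ s)).card = s.ncard := by
  rw [← Set.ncard_coe_finset]
  congr 1
  ext
  simp

/-- Partition of a sum according to the classification. -/
theorem Cx.sum_classify (S : Finset (IrrCharacter G))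
    (h1 : ∀ χ ∈ S, χ ∉ Set.range C.E1) (h2 : ∀ χ ∈ S, χ ∉ Set.range C.E2)
    (h3 : ∀ χ ∈ S, χ ∉ Set.range C.E3) (h4 : ∀ χ ∈ S, χ ∉ Set.range C.E4)
    (hc : ∀ χ : IrrCharacter G, χ ∈ Set.range C.E1 ∨ χ ∈ Set.range C.E2 ∨ χ ∈ Set.range C.E3 ∨
      χ ∈ Set.range C.E4 ∨ χ ∈ S) (f : IrrCharacter G → ℂ) (c1 c2 c3 c4 : ℂ)
    (e1 : ∀ a, f (C.E1 a) = c1) (e2 : ∀ a, f (C.E2 a) = c2) (e3 : ∀ a, f (C.E3 a) = c3) (e4 : ∀ a, f (C.E4 a) = c4) :
    ∑ χ, f χ = (Set.range C.E1).ncard * c1 + (Set.range C.E2).ncard * c2 + (Set.range C.E3).ncard * c3 +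
      (Set.range C.E4).ncard * c4 + ∑ χ ∈ S, f χ := by
  classical
  have hpt : ∀ χ : IrrCharacter G, f χ =
      (if χ ∈ Set.range C.E1 then c1 else 0) + (if χ ∈ Set.range C.E2 then c2 else 0) +
      (if χ ∈ Set.range C.E3 then c3 else 0) + (if χ ∈ Set.range C.E4 then c4 else 0) +
      (if χ ∈ S then f χ else 0) := by
    intro χ
    rcases hc χ with ⟨a, rfl⟩ | ⟨a, rfl⟩ | ⟨a, rfl⟩ | ⟨a, rfl⟩ | hS
    · have n2 : C.E1 a ∉ Set.range C.E2 := fun ⟨b, hb⟩ => C.E1_ne_E2 a b hb.symm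
      have n3 : C.E1 a ∉ Set.range C.E3 := fun ⟨b, hb⟩ => C.E1_ne_E3 a b hb.symm
      have n4 : C.E1 a ∉ Set.range C.E4 := fun ⟨b, hb⟩ => C.E1_ne_E4 a b hb.symm
      have n5 : C.E1 a ∉ S := fun hS => h1 _ hS ⟨a, rfl⟩
      rw [if_pos ⟨a, rfl⟩, if_neg n2, if_neg n3, if_neg n4, if_neg n5, e1]
      ring
    · have n2 : C.E2 a ∉ Set.range C.E1 := fun ⟨b, hb⟩ => C.E1_ne_E2 b a hb
      have n3 : C.E2 a ∉ Set.range C.E3 := fun ⟨b, hb⟩ => C.E2_ne_E3 a b hb.symm
      have n4 : C.E2 a ∉ Set.range C.E4 := fun ⟨b, hb⟩ => C.E2_ne_E4 a b hb.symm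
      have n5 : C.E2 a ∉ S := fun hS => h2 _ hS ⟨a, rfl⟩
      rw [if_neg n2, if_pos ⟨a, rfl⟩, if_neg n3, if_neg n4, if_neg n5, e2]
      ring
    · have n2 : C.E3 a ∉ Set.range C.E1 := fun ⟨b, hb⟩ => C.E1_ne_E3 b a hb
      have n3 : C.E3 a ∉ Set.range C.E2 := fun ⟨b, hb⟩ => C.E2_ne_E3 b a hb
      have n4 : C.E3 a ∉ Set.range C.E4 := fun ⟨b, hb⟩ => C.E3_ne_E4 a b hb.symm
      have n5 : C.E3 a ∉ S := fun hS => h3 _ hS ⟨a, rfl⟩
      rw [if_neg n2, if_neg n3, if_pos ⟨a, rfl⟩, if_neg n4, if_neg n5, e3]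
      ring
    · have n2 : C.E4 a ∉ Set.range C.E1 := fun ⟨b, hb⟩ => C.E1_ne_E4 b a hb
      have n3 : C.E4 a ∉ Set.range C.E2 := fun ⟨b, hb⟩ => C.E2_ne_E4 b a hb
      have n4 : C.E4 a ∉ Set.range C.E3 := fun ⟨b, hb⟩ => C.E3_ne_E4 b a hb
      have n5 : C.E4 a ∉ S := fun hS => h4 _ hS ⟨a, rfl⟩
      rw [if_neg n2, if_neg n3, if_neg n4, if_pos ⟨a, rfl⟩, if_neg n5, e4]
      ring
    · rw [if_neg (h1 χ hS), if_neg (h2 χ hS), if_neg (h3 χ hS), if_neg (h4 χ hS), if_pos hS]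
      ring
  rw [Finset.sum_congr rfl (fun χ _ => hpt χ)]
  simp only [Finset.sum_add_distrib]
  congr 1
  · congr 1
    · congr 1
      · congr 1
        · rw [← Finset.sum_filter, Finset.sum_const, filter_card_eq_ncard, nsmul_eq_mul]
        · rw [← Finset.sum_filter, Finset.sum_const, filter_card_eq_ncard, nsmul_eq_mul]
      · rw [← Finset.sum_filter, Finset.sum_const, filter_card_eq_ncard, nsmul_eq_mul]
    · rw [← Finset.sum_filter, Finset.sum_const, filter_card_eq_ncard, nsmul_eq_mul]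
  · rw [← Finset.sum_filter]
    congr 1
    ext
    simp

end generic

section SLodd

variable {F : Type*} [Field F] [Fintype F] [Fintype SL(2, F)]

local notation "q" => (Fintype.card F)

lemma sl_q_odd (h2 : (2 : F) ≠ 0) : q % 2 = 1 :=
  FiniteField.odd_card_of_char_ne_two (fun h => h2 (two_eq_zero_iff.mpr h))

lemma sl_q_three (h2 : (2 : F) ≠ 0) : 3 ≤ q := by
  have h1 := sl_q_odd h2
  have h3 : 2 ≤ q := Fintype.one_lt_card
  omega

lemma nu_eq_one (a : (slCx F).Lin) : a.1 = 1 := sl_lin_eq_one a.1 a.2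

lemma νD_one : (slCx F).νD (1 : SL(2, F) →* ℂˣ) = 1 := by
  ext t
  rfl

lemma νT_one : (slCx F).νT (1 : SL(2, F) →* ℂˣ) = 1 := by
  ext t
  rfl

/-- The data of the exceptional characters in odd characteristic. -/
structure OddPack (F : Type*) [Field F] [Fintype F] [Fintype SL(2, F)] where
  l₀ : (slCx F).D →* ℂˣ
  θ₀ : (slCx F).T →* ℂˣ
  hl₀1 : l₀ ≠ 1
  hl₀ : l₀ = l₀.comp (slCx F).sg
  hl₀u : ∀ l : (slCx F).D →* ℂˣ, l = l.comp (slCx F).sg → l = 1 ∨ l = l₀
  hθ₀1 : θ₀ ≠ 1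
  hθ₀ : θ₀ = θ₀.comp (slCx F).sgT
  hθ₀u : ∀ l : (slCx F).T →* ℂˣ, l = l.comp (slCx F).sgT → l = 1 ∨ l = θ₀
  ξ₁ : IrrCharacter SL(2, F)
  ξ₂ : IrrCharacter SL(2, F)
  η₁ : IrrCharacter SL(2, F)
  η₂ : IrrCharacter SL(2, F)
  hξ : ξ₁ ≠ ξ₂
  hη : η₁ ≠ η₂
  hΨ : (slCx F).R l₀ = (ξ₁ : SL(2, F) → ℂ) + ξ₂
  hΦ : (slCx F).chi ((slCx F).lab θ₀) θ₀ = (η₁ : SL(2, F) → ℂ) + η₂
  hξη : ξ₁ ≠ η₁ ∧ ξ₁ ≠ η₂ ∧ ξ₂ ≠ η₁ ∧ ξ₂ ≠ η₂
  dξ₁ : (ξ₁ : SL(2, F) → ℂ) 1 = (((Fintype.card F + 1) / 2 : ℕ) : ℂ)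
  dξ₂ : (ξ₂ : SL(2, F) → ℂ) 1 = (((Fintype.card F + 1) / 2 : ℕ) : ℂ)
  dη₁ : (η₁ : SL(2, F) → ℂ) 1 = (((Fintype.card F - 1) / 2 : ℕ) : ℂ)
  dη₂ : (η₂ : SL(2, F) → ℂ) 1 = (((Fintype.card F - 1) / 2 : ℕ) : ℂ)
  hnot : ∀ χ ∈ ({ξ₁, ξ₂, η₁, η₂} : Set (IrrCharacter SL(2, F))), χ ∉ Set.range (slCx F).E1 ∧
    χ ∉ Set.range (slCx F).E2 ∧ χ ∉ Set.range (slCx F).E3 ∧ χ ∉ Set.range (slCx F).E4
  hclass : ∀ χ : IrrCharacter SL(2, F), χ ∈ Set.range (slCx F).E1 ∨ χ ∈ Set.range (slCx F).E2 ∨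
    χ ∈ Set.range (slCx F).E3 ∨ χ ∈ Set.range (slCx F).E4 ∨ χ = ξ₁ ∨ χ = ξ₂ ∨ χ = η₁ ∨ χ = η₂

/-- Inner product with a member of a sum. -/
lemma inner_signed_left {G : Type u} [Group G] [Fintype G] {a b : IrrCharacter G} (hab : a ≠ b) (s t : ℂ) :
    classInner (s • (a : G → ℂ) + t • (b : G → ℂ)) (a : G → ℂ) = s := by
  classical
  have h3 : ¬ (b : G → ℂ) = a := fun e => hab (Subtype.ext e).symm
  rw [classInner_add_left, classInner_smul_left, classInner_smul_left, classInner_irr_self a.2,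
    classInner_irr b.2 a.2, if_neg h3]
  ring

lemma inner_signed_right {G : Type u} [Group G] [Fintype G] {a b : IrrCharacter G} (hab : a ≠ b) (s t : ℂ) :
    classInner (s • (a : G → ℂ) + t • (b : G → ℂ)) (b : G → ℂ) = t := by
  classical
  have h3 : ¬ (a : G → ℂ) = b := fun e => hab (Subtype.ext e)
  rw [classInner_add_left, classInner_smul_left, classInner_smul_left, classInner_irr_self b.2,
    classInner_irr a.2 b.2, if_neg h3]
  ring

/-- The element `u c` in `SL₂`: linear characters take the value 1 everywhere if trivial on it. -/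
lemma no_linear_constituent {ξ' : IrrCharacter SL(2, F)} (h1 : (ξ' : SL(2, F) → ℂ) 1 = 1)
    (h2 : ∀ c : F, c ≠ 0 → (ξ' : SL(2, F) → ℂ) ((slCx F).u c) = 1) :
    (ξ' : SL(2, F) → ℂ) = fun _ => 1 := by
  obtain ⟨ν, hν⟩ := exists_hom_of_character_one (IsIrrCharacter.isCharacter ξ'.2) h1
  have hu : ∀ c : F, ν ((slCx F).u c) = 1 := by
    intro c
    by_cases hc : c = 0
    · rw [hc, (slCx F).u_zero, map_one]
    · have h3 := h2 c hc
      rw [hν] at h3
      exact Units.ext h3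
  rw [hν, sl_lin_eq_one ν hu]
  funext g
  simp

lemma deg_arith (Q A B C D s t : ℤ) (hQ : 3 ≤ Q) (hA : 0 < A) (hB : 0 < B) (hC : 0 < C) (hD : 0 < D)
    (hs : s = 1 ∨ s = -1) (ht : t = 1 ∨ t = -1) (h1 : A + B = Q + 1) (h2 : s * C + t * D = Q - 1)
    (h3 : A ^ 2 + B ^ 2 + C ^ 2 + D ^ 2 = Q ^ 2 + 1) : A = B ∧ s = 1 ∧ t = 1 ∧ C = D := by
  rcases hs with rfl | rfl <;> rcases ht with rfl | rfl
  · have h4 : (A - B) ^ 2 + (C - D) ^ 2 = 0 := by
      have e1 : A + B = Q + 1 := h1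
      have e2 : C + D = Q - 1 := by linarith
      nlinarith
    have h5 : (A - B) ^ 2 = 0 := by nlinarith [sq_nonneg (A - B), sq_nonneg (C - D)]
    have h6 : (C - D) ^ 2 = 0 := by nlinarith [sq_nonneg (A - B), sq_nonneg (C - D)]
    have h7 := pow_eq_zero_iff (two_ne_zero) |>.mp h5
    have h8 := pow_eq_zero_iff (two_ne_zero) |>.mp h6
    exact ⟨by linarith, rfl, rfl, by linarith⟩
  · exfalso
    have e2 : C - D = Q - 1 := by linarith
    have h4 : (A - B) ^ 2 + (C + D) ^ 2 = 0 := by nlinarith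
    nlinarith [sq_nonneg (A - B), sq_nonneg (C + D), mul_pos hC hD, mul_pos hC hC, mul_pos hD hD]
  · exfalso
    have e2 : D - C = Q - 1 := by linarith
    have h4 : (A - B) ^ 2 + (C + D) ^ 2 = 0 := by nlinarith
    nlinarith [sq_nonneg (A - B), sq_nonneg (C + D), mul_pos hC hD, mul_pos hC hC, mul_pos hD hD]
  · exfalso
    linarith

lemma not_mem_range_of_inner {G : Type u} [Group G] [Fintype G] {ι : Type*} {Θ : G → ℂ} {a : IrrCharacter G}
    (hinner : classInner Θ (a : G → ℂ) ≠ 0) {E : ι → IrrCharacter G}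
    (h : ∀ x, classInner Θ (E x : G → ℂ) = 0) : a ∉ Set.range E := by
  rintro ⟨x, rfl⟩
  exact hinner (h x)

/-- Construction of the exceptional characters. -/
theorem exists_oddPack (h2 : (2 : F) ≠ 0) : Nonempty (OddPack F) := by
  classical
  letI : Fintype (slCx F).Z := Fintype.ofFinite _
  have hZ := sl_card_Z_odd h2
  have hq3 := sl_q_three h2
  have hq1 := sl_q_odd h2
  obtain ⟨l₀, hl₀1, hl₀, hl₀u⟩ := (slCx F).exists_fixD hZ
  obtain ⟨θ₀, hθ₀1, hθ₀, hθ₀u⟩ := (slCx F).exists_fixT hZ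
  have hΨn : classInner ((slCx F).R l₀) ((slCx F).R l₀) = 2 := by
    rw [(slCx F).classInner_R_self, if_pos hl₀]
    norm_num
  obtain ⟨a, b, hab, hΨ⟩ := norm_two_char ((slCx F).R_isCharacter l₀) hΨn
  have hl : (slCx F).Comp ((slCx F).lab θ₀) θ₀ := (slCx F).lab_comp θ₀
  have hΦn := (slCx F).chi_norm_two hl hθ₀
  obtain ⟨c, d, s, t, hcd, hs, ht, hΦ⟩ := norm_two_gen ((slCx F).chi_isGen _ θ₀) hΦn
  have hΨ' : (slCx F).R l₀ = (1 : ℂ) • (a : SL(2, F) → ℂ) + (1 : ℂ) • (b : SL(2, F) → ℂ) := by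
    rw [hΨ, one_smul, one_smul]
  have hΨa : classInner ((slCx F).R l₀) (a : SL(2, F) → ℂ) = 1 := by
    rw [hΨ', inner_signed_left hab]
  have hΨb : classInner ((slCx F).R l₀) (b : SL(2, F) → ℂ) = 1 := by
    rw [hΨ', inner_signed_right hab]
  have hΦc : classInner ((slCx F).chi ((slCx F).lab θ₀) θ₀) (c : SL(2, F) → ℂ) = s := by
    rw [hΦ, inner_signed_left hcd]
  have hΦd : classInner ((slCx F).chi ((slCx F).lab θ₀) θ₀) (d : SL(2, F) → ℂ) = t := by
    rw [hΦ, inner_signed_right hcd]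
  have hsne : (s : ℂ) ≠ 0 := by
    rcases hs with rfl | rfl <;> norm_num
  have htne : (t : ℂ) ≠ 0 := by
    rcases ht with rfl | rfl <;> norm_num
  -- orthogonality to the list
  have Ψ1 : ∀ x, classInner ((slCx F).R l₀) ((slCx F).E1 x : SL(2, F) → ℂ) = 0 := fun x =>
    (slCx F).inner_Psi_E1 x (by rw [nu_eq_one x, νD_one]; exact hl₀1)
  have Ψ2 : ∀ x, classInner ((slCx F).R l₀) ((slCx F).E2 x : SL(2, F) → ℂ) = 0 := fun x =>
    (slCx F).inner_Psi_E2 x (by rw [nu_eq_one x, νD_one]; exact hl₀1)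
  have Ψ3 : ∀ x, classInner ((slCx F).R l₀) ((slCx F).E3 x : SL(2, F) → ℂ) = 0 := fun x =>
    (slCx F).inner_Psi_E3 hl₀ x
  have Ψ4 : ∀ x, classInner ((slCx F).R l₀) ((slCx F).E4 x : SL(2, F) → ℂ) = 0 := fun x =>
    (slCx F).inner_Psi_E4 l₀ x
  have Φ1 : ∀ x, classInner ((slCx F).chi ((slCx F).lab θ₀) θ₀) ((slCx F).E1 x : SL(2, F) → ℂ) = 0 := fun x =>
    (slCx F).inner_Phi_E1 x (by rw [nu_eq_one x, νT_one]; exact hθ₀1)
  have Φ2 : ∀ x, classInner ((slCx F).chi ((slCx F).lab θ₀) θ₀) ((slCx F).E2 x : SL(2, F) → ℂ) = 0 := fun x =>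
    (slCx F).inner_Phi_E2 hl x (by rw [nu_eq_one x, νT_one]; exact hθ₀1)
  have Φ3 : ∀ x, classInner ((slCx F).chi ((slCx F).lab θ₀) θ₀) ((slCx F).E3 x : SL(2, F) → ℂ) = 0 := fun x =>
    (slCx F).inner_Phi_E3 hl x
  have Φ4 : ∀ x, classInner ((slCx F).chi ((slCx F).lab θ₀) θ₀) ((slCx F).E4 x : SL(2, F) → ℂ) = 0 := fun x =>
    (slCx F).inner_Phi_E4 hl hθ₀ x
  have ha0 : classInner ((slCx F).R l₀) (a : SL(2, F) → ℂ) ≠ 0 := by rw [hΨa]; exact one_ne_zero
  have hb0 : classInner ((slCx F).R l₀) (b : SL(2, F) → ℂ) ≠ 0 := by rw [hΨb]; exact one_ne_zero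
  have hc0 : classInner ((slCx F).chi ((slCx F).lab θ₀) θ₀) (c : SL(2, F) → ℂ) ≠ 0 := by rw [hΦc]; exact hsne
  have hd0 : classInner ((slCx F).chi ((slCx F).lab θ₀) θ₀) (d : SL(2, F) → ℂ) ≠ 0 := by rw [hΦd]; exact htne
  -- values
  have hΨ1 : (slCx F).R l₀ 1 = (Fintype.card F : ℂ) + 1 := (slCx F).R_one l₀
  have hΦ1 : (slCx F).chi ((slCx F).lab θ₀) θ₀ 1 = (Fintype.card F : ℂ) - 1 := (slCx F).chi_one hl
  -- disjointness
  have hinnerΨ : ∀ x : IrrCharacter SL(2, F), classInner ((slCx F).R l₀) (x : SL(2, F) → ℂ) =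
      (if (a : SL(2, F) → ℂ) = x then 1 else 0) + (if (b : SL(2, F) → ℂ) = x then 1 else 0) := by
    intro x
    rw [hΨ, classInner_add_left, classInner_irr a.2 x.2, classInner_irr b.2 x.2]
  have h0 : (s : ℂ) * classInner ((slCx F).R l₀) (c : SL(2, F) → ℂ) +
      (t : ℂ) * classInner ((slCx F).R l₀) (d : SL(2, F) → ℂ) = 0 := by
    have h1 := (slCx F).inner_chi_R hl l₀
    rw [hΦ, classInner_add_left, classInner_smul_left, classInner_smul_left] at h1
    have h3 := congrArg (starRingEnd ℂ) h1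
    rw [map_add, map_mul, map_mul, conj_classInner, conj_classInner, map_zero, map_intCast, map_intCast] at h3
    exact h3
  have hdisj : a ≠ c ∧ a ≠ d ∧ b ≠ c ∧ b ≠ d := by
    by_cases hP : c = a ∨ c = b
    · by_cases hQ : d = a ∨ d = b
      · -- the special case
        exfalso
        have hcase : (a = c ∧ b = d) ∨ (a = d ∧ b = c) := by
          rcases hP with rfl | rfl <;> rcases hQ with rfl | rfl
          · exact absurd rfl hcd
          · exact Or.inl ⟨rfl, rfl⟩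
          · exact Or.inr ⟨rfl, rfl⟩
          · exact absurd rfl hcd
        have hst : (s : ℂ) + t = 0 := by
          have e1 := hinnerΨ c
          have e2 := hinnerΨ d
          have n1 : ¬ (a : SL(2, F) → ℂ) = b := fun e => hab (Subtype.ext e)
          have n2 : ¬ (b : SL(2, F) → ℂ) = a := fun e => hab (Subtype.ext e).symm
          rcases hcase with ⟨rfl, rfl⟩ | ⟨rfl, rfl⟩
          · rw [if_pos rfl, if_neg n2] at e1
            rw [if_neg n1, if_pos rfl] at e2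
            rw [e1, e2] at h0
            linear_combination h0
          · rw [if_neg n1, if_pos rfl] at e1
            rw [if_pos rfl, if_neg n2] at e2
            rw [e1, e2] at h0
            linear_combination h0
        -- find the linear constituent
        obtain ⟨ξ', hξ', hsum⟩ : ∃ ξ' : IrrCharacter SL(2, F), (ξ' = a ∨ ξ' = b) ∧
            ∀ g, (slCx F).R l₀ g - (slCx F).chi ((slCx F).lab θ₀) θ₀ g = 2 * (ξ' : SL(2, F) → ℂ) g := by
          have hΨg : ∀ g, (slCx F).R l₀ g = (c : SL(2, F) → ℂ) g + (d : SL(2, F) → ℂ) g := by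
            intro g
            rw [hΨ]
            rcases hcase with ⟨rfl, rfl⟩ | ⟨rfl, rfl⟩
            · rfl
            · exact add_comm _ _
          have hΦg : ∀ g, (slCx F).chi ((slCx F).lab θ₀) θ₀ g = (s : ℂ) * (c : SL(2, F) → ℂ) g + (t : ℂ) * (d : SL(2, F) → ℂ) g := by
            intro g
            rw [hΦ]
            rfl
          have htc : (t : ℂ) = - s := by linear_combination hst
          rcases hs with rfl | rfl
          · refine ⟨d, ?_, ?_⟩
            · rcases hcase with ⟨rfl, rfl⟩ | ⟨rfl, rfl⟩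
              · exact Or.inr rfl
              · exact Or.inl rfl
            · intro g
              rw [hΨg, hΦg, htc]
              push_cast
              ring
          · refine ⟨c, ?_, ?_⟩
            · rcases hcase with ⟨rfl, rfl⟩ | ⟨rfl, rfl⟩
              · exact Or.inl rfl
              · exact Or.inr rfl
            · intro g
              rw [hΨg, hΦg, htc]
              push_cast
              ring
        have hξ1 : (ξ' : SL(2, F) → ℂ) 1 = 1 := by
          have := hsum 1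
          rw [hΨ1, hΦ1] at this
          have h2' : (2 : ℂ) ≠ 0 := two_ne_zero
          apply mul_left_cancel₀ h2'
          linear_combination -this
        have hξu : ∀ c' : F, c' ≠ 0 → (ξ' : SL(2, F) → ℂ) ((slCx F).u c') = 1 := by
          intro c' hc'
          have := hsum ((slCx F).u c')
          rw [(slCx F).R_u _ hc', (slCx F).chi_u hl hc'] at this
          have h2' : (2 : ℂ) ≠ 0 := two_ne_zero
          apply mul_left_cancel₀ h2'
          linear_combination -this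
        have hξeq := no_linear_constituent hξ1 hξu
        have hΨ1' : classInner ((slCx F).R l₀) (ξ' : SL(2, F) → ℂ) = 1 := by
          rcases hξ' with rfl | rfl
          · exact hΨa
          · exact hΨb
        rw [hξeq] at hΨ1'
        have h5 := (slCx F).inner_R_ν (1 : SL(2, F) →* ℂˣ) (fun c => rfl) l₀
        rw [if_neg (by rw [νD_one]; exact hl₀1)] at h5
        simp only [MonoidHom.one_apply, Units.val_one] at h5
        rw [h5] at hΨ1'
        exact zero_ne_one hΨ1'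
      · -- `c` in, `d` not in
        exfalso
        have e1 : classInner ((slCx F).R l₀) (c : SL(2, F) → ℂ) = 1 := by
          rcases hP with rfl | rfl
          · exact hΨa
          · exact hΨb
        have e2 : classInner ((slCx F).R l₀) (d : SL(2, F) → ℂ) = 0 := by
          rw [hinnerΨ, if_neg (fun e => hQ (Or.inl (Subtype.ext e).symm)),
            if_neg (fun e => hQ (Or.inr (Subtype.ext e).symm))]
          norm_num
        rw [e1, e2] at h0
        apply hsne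
        linear_combination h0
    · by_cases hQ : d = a ∨ d = b
      · exfalso
        have e1 : classInner ((slCx F).R l₀) (d : SL(2, F) → ℂ) = 1 := by
          rcases hQ with rfl | rfl
          · exact hΨa
          · exact hΨb
        have e2 : classInner ((slCx F).R l₀) (c : SL(2, F) → ℂ) = 0 := by
          rw [hinnerΨ, if_neg (fun e => hP (Or.inl (Subtype.ext e).symm)),
            if_neg (fun e => hP (Or.inr (Subtype.ext e).symm))]
          norm_num
        rw [e1, e2] at h0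
        apply htne
        linear_combination h0
      · refine ⟨fun e => hP (Or.inl e.symm), fun e => hQ (Or.inl e.symm), fun e => hP (Or.inr e.symm),
          fun e => hQ (Or.inr e.symm)⟩
  obtain ⟨hac, had, hbc, hbd⟩ := hdisj
  -- membership
  have hnot : ∀ χ ∈ ({a, b, c, d} : Set (IrrCharacter SL(2, F))), χ ∉ Set.range (slCx F).E1 ∧
      χ ∉ Set.range (slCx F).E2 ∧ χ ∉ Set.range (slCx F).E3 ∧ χ ∉ Set.range (slCx F).E4 := by
    rintro χ (rfl | rfl | rfl | rfl)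
    · exact ⟨not_mem_range_of_inner ha0 Ψ1, not_mem_range_of_inner ha0 Ψ2, not_mem_range_of_inner ha0 Ψ3,
        not_mem_range_of_inner ha0 Ψ4⟩
    · exact ⟨not_mem_range_of_inner hb0 Ψ1, not_mem_range_of_inner hb0 Ψ2, not_mem_range_of_inner hb0 Ψ3,
        not_mem_range_of_inner hb0 Ψ4⟩
    · exact ⟨not_mem_range_of_inner hc0 Φ1, not_mem_range_of_inner hc0 Φ2, not_mem_range_of_inner hc0 Φ3,
        not_mem_range_of_inner hc0 Φ4⟩
    · exact ⟨not_mem_range_of_inner hd0 Φ1, not_mem_range_of_inner hd0 Φ2, not_mem_range_of_inner hd0 Φ3,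
        not_mem_range_of_inner hd0 Φ4⟩
  have hS : ({a, b, c, d} : Set (IrrCharacter SL(2, F))).ncard = 4 := by
    rw [Set.ncard_eq_toFinset_card']
    simp only [Set.toFinset_insert, Set.toFinset_singleton]
    rw [Finset.card_insert_of_notMem, Finset.card_insert_of_notMem, Finset.card_pair hcd]
    · simp [hbc, hbd]
    · simp [hab, hac, had]
  have hn3 := sl_ncard_E3_odd (F := F) h2
  have hn4 := sl_ncard_E4_odd (F := F) h2
  have hclass : ∀ χ : IrrCharacter SL(2, F), χ ∈ Set.range (slCx F).E1 ∨ χ ∈ Set.range (slCx F).E2 ∨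
      χ ∈ Set.range (slCx F).E3 ∨ χ ∈ Set.range (slCx F).E4 ∨ χ ∈ ({a, b, c, d} : Set (IrrCharacter SL(2, F))) := by
    apply (slCx F).classify
    · exact fun χ h => (hnot χ h).1
    · exact fun χ h => (hnot χ h).2.1
    · exact fun χ h => (hnot χ h).2.2.1
    · exact fun χ h => (hnot χ h).2.2.2
    · rw [sl_card_Lin, hn3, hn4, hS, SL2.card_conjClasses_odd (fun h => h2 (two_eq_zero_iff.mpr h))]
      omega
  -- degrees
  have hsum := (slCx F).sum_classify ({a, b, c, d} : Finset (IrrCharacter SL(2, F)))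
    (fun χ h => (hnot χ (by simpa using h)).1) (fun χ h => (hnot χ (by simpa using h)).2.1)
    (fun χ h => (hnot χ (by simpa using h)).2.2.1) (fun χ h => (hnot χ (by simpa using h)).2.2.2)
    (fun χ => by
      rcases hclass χ with h | h | h | h | h
      · exact Or.inl h
      · exact Or.inr (Or.inl h)
      · exact Or.inr (Or.inr (Or.inl h))
      · exact Or.inr (Or.inr (Or.inr (Or.inl h)))
      · exact Or.inr (Or.inr (Or.inr (Or.inr (by simpa using h)))))
    (fun χ => (χ : SL(2, F) → ℂ) 1 ^ 2) 1 ((Fintype.card F : ℂ) ^ 2) (((Fintype.card F : ℂ) + 1) ^ 2)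
    (((Fintype.card F : ℂ) - 1) ^ 2)
    (fun x => by rw [(slCx F).deg_E1]; norm_num) (fun x => by rw [(slCx F).deg_E2])
    (fun x => by rw [(slCx F).deg_E3]) (fun x => by rw [(slCx F).deg_E4])
  rw [sum_degree_sq, (slCx F).card_G_c, sl_ncard_E1, sl_ncard_E2, hn3, hn4] at hsum
  rw [Finset.sum_insert (by simp [hab, hac, had]), Finset.sum_insert (by simp [hbc, hbd]), Finset.sum_pair hcd] at hsum
  have hδ : (slCx F).δ = 1 := rfl
  rw [hδ] at hsum
  have hn3c : (((Fintype.card F - 3) / 2 : ℕ) : ℂ) = ((Fintype.card F : ℂ) - 3) / 2 := by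
    have h5 : 2 * ((Fintype.card F - 3) / 2) + 3 = Fintype.card F := by omega
    have h6 : (2 : ℂ) * (((Fintype.card F - 3) / 2 : ℕ) : ℂ) + 3 = (Fintype.card F : ℂ) := by
      exact_mod_cast h5
    rw [← h6]
    ring
  have hn4c : (((Fintype.card F - 1) / 2 : ℕ) : ℂ) = ((Fintype.card F : ℂ) - 1) / 2 := by
    have h5 : 2 * ((Fintype.card F - 1) / 2) + 1 = Fintype.card F := by omega
    have h6 : (2 : ℂ) * (((Fintype.card F - 1) / 2 : ℕ) : ℂ) + 1 = (Fintype.card F : ℂ) := by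
      exact_mod_cast h5
    rw [← h6]
    ring
  rw [hn3c, hn4c] at hsum
  -- the natural numbers
  have hdeg : ∀ x : IrrCharacter SL(2, F), (x : SL(2, F) → ℂ) 1 = (charDegree (x : SL(2, F) → ℂ) : ℂ) :=
    fun x => map_one_eq_charDegree (IsIrrCharacter.isCharacter x.2)
  have hpos : ∀ x : IrrCharacter SL(2, F), (0 : ℤ) < (charDegree (x : SL(2, F) → ℂ) : ℤ) := by
    intro x
    exact_mod_cast charDegree_pos_of_irr x.2
  have hsq : ((charDegree (a : SL(2, F) → ℂ) : ℤ) ^ 2 + (charDegree (b : SL(2, F) → ℂ) : ℤ) ^ 2 +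
      (charDegree (c : SL(2, F) → ℂ) : ℤ) ^ 2 + (charDegree (d : SL(2, F) → ℂ) : ℤ) ^ 2 : ℤ) =
      (Fintype.card F : ℤ) ^ 2 + 1 := by
    have : (((charDegree (a : SL(2, F) → ℂ) : ℤ) ^ 2 + (charDegree (b : SL(2, F) → ℂ) : ℤ) ^ 2 +
      (charDegree (c : SL(2, F) → ℂ) : ℤ) ^ 2 + (charDegree (d : SL(2, F) → ℂ) : ℤ) ^ 2 : ℤ) : ℂ) =
      (((Fintype.card F : ℤ) ^ 2 + 1 : ℤ) : ℂ) := by
      push_cast
      rw [← hdeg a, ← hdeg b, ← hdeg c, ← hdeg d]
      push_cast at hsum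
      linear_combination -hsum
    exact_mod_cast this
  have hsumd : (charDegree (a : SL(2, F) → ℂ) : ℤ) + (charDegree (b : SL(2, F) → ℂ) : ℤ) = (Fintype.card F : ℤ) + 1 := by
    have h5 := congrFun hΨ 1
    rw [hΨ1, Pi.add_apply, hdeg a, hdeg b] at h5
    have : (((charDegree (a : SL(2, F) → ℂ) : ℤ) + (charDegree (b : SL(2, F) → ℂ) : ℤ) : ℤ) : ℂ) = (((Fintype.card F : ℤ) + 1 : ℤ) : ℂ) := by
      push_cast
      exact h5.symm
    exact_mod_cast this
  have hsumd2 : s * (charDegree (c : SL(2, F) → ℂ) : ℤ) + t * (charDegree (d : SL(2, F) → ℂ) : ℤ) = (Fintype.card F : ℤ) - 1 := by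
    have h5 := congrFun hΦ 1
    rw [hΦ1] at h5
    have h6 : ((s : ℂ) • (c : SL(2, F) → ℂ) + (t : ℂ) • (d : SL(2, F) → ℂ)) 1 = (s : ℂ) * (c : SL(2, F) → ℂ) 1 + (t : ℂ) * (d : SL(2, F) → ℂ) 1 := rfl
    rw [h6, hdeg c, hdeg d] at h5
    have : ((s * (charDegree (c : SL(2, F) → ℂ) : ℤ) + t * (charDegree (d : SL(2, F) → ℂ) : ℤ) : ℤ) : ℂ) = (((Fintype.card F : ℤ) - 1 : ℤ) : ℂ) := by
      push_cast
      exact h5.symm
    exact_mod_cast this
  obtain ⟨e1, hs1, ht1, e2⟩ := deg_arith (Fintype.card F) _ _ _ _ s t (by exact_mod_cast hq3) (hpos a) (hpos b) (hpos c) (hpos d) hs ht hsumd hsumd2 hsq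
  subst hs1
  subst ht1
  have e1' : charDegree (a : SL(2, F) → ℂ) = charDegree (b : SL(2, F) → ℂ) := by exact_mod_cast e1
  have e2' : charDegree (c : SL(2, F) → ℂ) = charDegree (d : SL(2, F) → ℂ) := by exact_mod_cast e2
  have e3 : charDegree (a : SL(2, F) → ℂ) + charDegree (b : SL(2, F) → ℂ) = Fintype.card F + 1 := by exact_mod_cast hsumd
  have e4 : charDegree (c : SL(2, F) → ℂ) + charDegree (d : SL(2, F) → ℂ) + 1 = Fintype.card F := by
    have : (charDegree (c : SL(2, F) → ℂ) : ℤ) + (charDegree (d : SL(2, F) → ℂ) : ℤ) + 1 = (Fintype.card F : ℤ) := by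
      linarith
    exact_mod_cast this
  refine ⟨⟨l₀, θ₀, hl₀1, hl₀, hl₀u, hθ₀1, hθ₀, hθ₀u, a, b, c, d, hab, hcd, hΨ, ?_, ⟨hac, had, hbc, hbd⟩,
    ?_, ?_, ?_, ?_, hnot, ?_⟩⟩
  · rw [hΦ]
    simp
  · rw [hdeg a]
    congr 1
    omega
  · rw [hdeg b]
    congr 1
    omega
  · rw [hdeg c]
    congr 1
    omega
  · rw [hdeg d]
    congr 1
    omega
  · intro χ
    rcases hclass χ with h | h | h | h | h
    · exact Or.inl h
    · exact Or.inr (Or.inl h)
    · exact Or.inr (Or.inr (Or.inl h))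
    · exact Or.inr (Or.inr (Or.inr (Or.inl h)))
    · exact Or.inr (Or.inr (Or.inr (Or.inr (by simpa using h))))

end SLodd

/-- Sets of elements given by values of a function. -/
lemma deg_set_eq {α ι : Type*} (A : ι → Set α) (f : α → ℂ) (d : ι → ℕ) (hcover : ∀ x, ∃ i, x ∈ A i)
    (hdeg : ∀ i, ∀ x ∈ A i, f x = (d i : ℂ)) (hinj : Function.Injective d) (i : ι) (x : α) :
    f x = (d i : ℂ) ↔ x ∈ A i := by
  constructor
  · intro h
    obtain ⟨j, hj⟩ := hcover x
    have h1 := hdeg j x hj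
    rw [h] at h1
    have h2 : d i = d j := by exact_mod_cast h1
    rw [hinj h2]
    exact hj
  · exact hdeg i x

end Cfsg.Agent.Lib.KS2.RK
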