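import Mathlib
import Cfsg.Agent.Lib.KS2.SLOdd
import Cfsg.Agent.Lib.KS2.DicSL2Nonsplit
import Cfsg.Agent.Lib.Char.Clifford

set_option autoImplicit false
set_option linter.unusedSimpArgs false
set_option linter.unusedVariables false
set_option linter.unusedSectionVars false

namespace Cfsg.Agent.Lib.KS2.RK

open Matrix Cfsg Cfsg.Agent.Lib.Char
open scoped MatrixGroups ComplexConjugate

universe u

section cxdefs

variable {F : Type*} [Field F]

/-- Conjugation of `SL₂` by an element of `GL₂`. -/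
def cxFun (x : GL (Fin 2) F) (g : SL(2, F)) : SL(2, F) :=
  ⟨(x : Matrix (Fin 2) (Fin 2) F) * (g : Matrix (Fin 2) (Fin 2) F) * ((x⁻¹ : GL (Fin 2) F) : Matrix (Fin 2) (Fin 2) F), by
    rw [Matrix.det_mul, Matrix.det_mul, g.2, mul_one, ← Matrix.det_mul, ← Units.val_mul, mul_inv_cancel]
    simp⟩

lemma cxFun_val (x : GL (Fin 2) F) (g : SL(2, F)) :
    ((cxFun x g : SL(2, F)) : Matrix (Fin 2) (Fin 2) F) =
      (x : Matrix (Fin 2) (Fin 2) F) * (g : Matrix (Fin 2) (Fin 2) F) * ((x⁻¹ : GL (Fin 2) F) : Matrix (Fin 2) (Fin 2) F) := rfl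

lemma val_inv_mul (x : GL (Fin 2) F) :
    ((x⁻¹ : GL (Fin 2) F) : Matrix (Fin 2) (Fin 2) F) * (x : Matrix (Fin 2) (Fin 2) F) = 1 := by
  rw [← Units.val_mul, inv_mul_cancel]
  rfl

lemma val_mul_inv (x : GL (Fin 2) F) :
    (x : Matrix (Fin 2) (Fin 2) F) * ((x⁻¹ : GL (Fin 2) F) : Matrix (Fin 2) (Fin 2) F) = 1 := by
  rw [← Units.val_mul, mul_inv_cancel]
  rfl

/-- Conjugation of `SL₂` by an element of `GL₂`, as an automorphism. -/
def cx (x : GL (Fin 2) F) : SL(2, F) ≃* SL(2, F) where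
  toFun := cxFun x
  invFun := cxFun x⁻¹
  left_inv g := by
    apply Subtype.ext
    rw [cxFun_val, cxFun_val, inv_inv]
    calc ((x⁻¹ : GL (Fin 2) F) : Matrix (Fin 2) (Fin 2) F) * ((x : Matrix (Fin 2) (Fin 2) F) * (g : Matrix (Fin 2) (Fin 2) F) * ((x⁻¹ : GL (Fin 2) F) : Matrix (Fin 2) (Fin 2) F)) * (x : Matrix (Fin 2) (Fin 2) F)
        = (((x⁻¹ : GL (Fin 2) F) : Matrix (Fin 2) (Fin 2) F) * (x : Matrix (Fin 2) (Fin 2) F)) * (g : Matrix (Fin 2) (Fin 2) F) * (((x⁻¹ : GL (Fin 2) F) : Matrix (Fin 2) (Fin 2) F) * (x : Matrix (Fin 2) (Fin 2) F)) := by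
          simp only [Matrix.mul_assoc]
      _ = g := by rw [val_inv_mul]; simp
  right_inv g := by
    apply Subtype.ext
    rw [cxFun_val, cxFun_val, inv_inv]
    calc (x : Matrix (Fin 2) (Fin 2) F) * (((x⁻¹ : GL (Fin 2) F) : Matrix (Fin 2) (Fin 2) F) * (g : Matrix (Fin 2) (Fin 2) F) * (x : Matrix (Fin 2) (Fin 2) F)) * ((x⁻¹ : GL (Fin 2) F) : Matrix (Fin 2) (Fin 2) F)
        = ((x : Matrix (Fin 2) (Fin 2) F) * ((x⁻¹ : GL (Fin 2) F) : Matrix (Fin 2) (Fin 2) F)) * (g : Matrix (Fin 2) (Fin 2) F) * ((x : Matrix (Fin 2) (Fin 2) F) * ((x⁻¹ : GL (Fin 2) F) : Matrix (Fin 2) (Fin 2) F)) := by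
          simp only [Matrix.mul_assoc]
      _ = g := by rw [val_mul_inv]; simp
  map_mul' g h := by
    apply Subtype.ext
    show ((cxFun x (g * h) : SL(2, F)) : Matrix (Fin 2) (Fin 2) F) = ((cxFun x g * cxFun x h : SL(2, F)) : Matrix (Fin 2) (Fin 2) F)
    rw [Matrix.SpecialLinearGroup.coe_mul, cxFun_val, cxFun_val, cxFun_val, Matrix.SpecialLinearGroup.coe_mul]
    calc (x : Matrix (Fin 2) (Fin 2) F) * ((g : Matrix (Fin 2) (Fin 2) F) * (h : Matrix (Fin 2) (Fin 2) F)) * ((x⁻¹ : GL (Fin 2) F) : Matrix (Fin 2) (Fin 2) F)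
        = (x : Matrix (Fin 2) (Fin 2) F) * (g : Matrix (Fin 2) (Fin 2) F) * (1 : Matrix (Fin 2) (Fin 2) F) * (h : Matrix (Fin 2) (Fin 2) F) * ((x⁻¹ : GL (Fin 2) F) : Matrix (Fin 2) (Fin 2) F) := by
          simp only [Matrix.mul_one, Matrix.mul_assoc]
      _ = _ := by
          rw [← val_inv_mul x]
          simp only [Matrix.mul_assoc]

lemma cx_val (x : GL (Fin 2) F) (g : SL(2, F)) :
    ((cx x g : SL(2, F)) : Matrix (Fin 2) (Fin 2) F) =
      (x : Matrix (Fin 2) (Fin 2) F) * (g : Matrix (Fin 2) (Fin 2) F) * ((x⁻¹ : GL (Fin 2) F) : Matrix (Fin 2) (Fin 2) F) := rfl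

lemma toGL_cx (x : GL (Fin 2) F) (g : SL(2, F)) :
    Matrix.SpecialLinearGroup.toGL (cx x g) = x * Matrix.SpecialLinearGroup.toGL g * x⁻¹ := by
  apply Units.ext
  rfl

lemma eq_cx_of_toGL {x : GL (Fin 2) F} {g h : SL(2, F)}
    (he : Matrix.SpecialLinearGroup.toGL h = x * Matrix.SpecialLinearGroup.toGL g * x⁻¹) : h = cx x g := by
  apply Subtype.ext
  rw [cx_val]
  exact congrArg Units.val he

lemma isConj_toGL_cx (x : GL (Fin 2) F) (g : SL(2, F)) :
    IsConj (Matrix.SpecialLinearGroup.toGL g) (Matrix.SpecialLinearGroup.toGL (cx x g)) := by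
  rw [toGL_cx]
  exact isConj_iff.mpr ⟨x, rfl⟩

lemma tr_cx (x : GL (Fin 2) F) (g : SL(2, F)) : SL2.tr (cx x g) = SL2.tr g :=
  (GL2.tr_of_isConj (isConj_toGL_cx x g)).symm

lemma cx_scalar (x : GL (Fin 2) F) {g : SL(2, F)} (hg : SL2.IsScalar g) : cx x g = g := by
  obtain ⟨h1, h2, h3⟩ := hg
  apply Subtype.ext
  rw [cx_val]
  have hs : (g : Matrix (Fin 2) (Fin 2) F) = ((g : Matrix (Fin 2) (Fin 2) F) 0 0) • (1 : Matrix (Fin 2) (Fin 2) F) := by
    ext i j
    fin_cases i <;> fin_cases j <;> simp [h1, h2, ← h3]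
  rw [hs, Matrix.mul_smul, Matrix.mul_one, Matrix.smul_mul, val_mul_inv]

lemma not_scalar_cx (x : GL (Fin 2) F) {g : SL(2, F)} (hg : ¬ SL2.IsScalar g) : ¬ SL2.IsScalar (cx x g) := by
  intro h
  have h1 := cx_scalar x⁻¹ h
  have h2 : cx x⁻¹ (cx x g) = g := (cx x).symm_apply_apply g
  rw [h2] at h1
  rw [← h1] at h
  exact hg h

/-- A function which is constant on the unipotent elements of each class is invariant under `GL₂`. -/
lemma gl_inv [Fintype F] (h2 : (2 : F) ≠ 0) {f : SL(2, F) → ℂ} (hf : IsClassFunction _ f)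
    (hu : ∀ (ε : F) (hε : ε * ε = 1) (b b' : F), b ≠ 0 → b' ≠ 0 → f (SL2.ux ε b hε) = f (SL2.ux ε b' hε))
    (x : GL (Fin 2) F) (g : SL(2, F)) : f (cx x g) = f g := by
  by_cases hg : SL2.IsScalar g
  · rw [cx_scalar x hg]
  have hg' := not_scalar_cx x hg
  by_cases hs : (SL2.tr g) ^ 2 = 4
  · -- unipotent up to sign
    set ε := SL2.tr g / 2 with hεd
    have htr : SL2.tr g = 2 * ε := by
      rw [hεd]
      field_simp
    have hε : ε * ε = 1 := by
      have : (2 * ε) ^ 2 = 4 := by rw [← htr]; exact hs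
      have h4 : (4 : F) ≠ 0 := by
        have : (4 : F) = 2 * 2 := by norm_num
        rw [this]
        exact mul_ne_zero h2 h2
      apply mul_left_cancel₀ h4
      linear_combination this
    obtain ⟨b, hb, P, hP⟩ := SL2.exists_conj_ux g hg ε hε htr
    obtain ⟨b', hb', P', hP'⟩ := SL2.exists_conj_ux (cx x g) hg' ε hε (by rw [tr_cx]; exact htr)
    have e1 : f (SL2.ux ε b hε) = f g := by rw [← hP]; exact hf g P
    have e2 : f (SL2.ux ε b' hε) = f (cx x g) := by rw [← hP']; exact hf _ P'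
    rw [← e1, ← e2]
    exact hu ε hε b' b hb' hb
  · have hc : IsConj g (cx x g) :=
      SL2.isConj_of_tr_eq g (cx x g) hg hg' (tr_cx x g).symm (Or.inl hs)
    obtain ⟨P, hP⟩ := isConj_iff.mp hc
    rw [← hP]
    exact hf g P

/-- A normal subgroup of `SL₂` containing the upper unipotent elements is everything. -/
lemma sl_u_normal_top [Fintype F] [Fintype SL(2, F)] (K : Subgroup SL(2, F)) [K.Normal] (h : ∀ c : F, (slCx F).u c ∈ K) (g : SL(2, F)) : g ∈ K := by
  have hlow : ∀ c : F, (slCx F).s (Cx.low c) ∈ K := by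
    intro c
    rw [Cx.s_low]
    exact ‹K.Normal›.conj_mem _ (h _) _
  have key : ∀ g : SL(2, F), (g : Matrix (Fin 2) (Fin 2) F) 1 0 ≠ 0 → g ∈ K := by
    intro g hr
    have hd := SL2.det_rel g
    have he : (slCx F).s g = (slCx F).u (((g : Matrix (Fin 2) (Fin 2) F) 0 0 - 1) / (g : Matrix (Fin 2) (Fin 2) F) 1 0) *
        (slCx F).s (Cx.low ((g : Matrix (Fin 2) (Fin 2) F) 1 0)) *
        (slCx F).u (((g : Matrix (Fin 2) (Fin 2) F) 1 1 - 1) / (g : Matrix (Fin 2) (Fin 2) F) 1 0) := by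
      set p := (g : Matrix (Fin 2) (Fin 2) F) 0 0 with hp
      set b := (g : Matrix (Fin 2) (Fin 2) F) 0 1 with hb
      set r := (g : Matrix (Fin 2) (Fin 2) F) 1 0 with hr'
      set e := (g : Matrix (Fin 2) (Fin 2) F) 1 1 with he
      apply (slCx F).ext'
      · simp only [GLike.e_mul00, GLike.e_mul01, GLike.e_mul10, GLike.e_mul11, GLike.u00, GLike.u01, GLike.u10, GLike.u11, GLike.e_s, Cx.lowm00, Cx.lowm01, Cx.lowm10, Cx.lowm11]
        rw [← hp]
        field_simp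
        ring
      · simp only [GLike.e_mul00, GLike.e_mul01, GLike.e_mul10, GLike.e_mul11, GLike.u00, GLike.u01, GLike.u10, GLike.u11, GLike.e_s, Cx.lowm00, Cx.lowm01, Cx.lowm10, Cx.lowm11]
        rw [← hb]
        field_simp
        linear_combination -hd
      · simp only [GLike.e_mul00, GLike.e_mul01, GLike.e_mul10, GLike.e_mul11, GLike.u00, GLike.u01, GLike.u10, GLike.u11, GLike.e_s, Cx.lowm00, Cx.lowm01, Cx.lowm10, Cx.lowm11]
        rw [← hr']
        ring
      · simp only [GLike.e_mul00, GLike.e_mul01, GLike.e_mul10, GLike.e_mul11, GLike.u00, GLike.u01, GLike.u10, GLike.u11, GLike.e_s, Cx.lowm00, Cx.lowm01, Cx.lowm10, Cx.lowm11]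
        rw [← he]
        field_simp
        ring
    have he' : g = _ := he
    rw [he']
    exact K.mul_mem (K.mul_mem (h _) (hlow _)) (h _)
  by_cases hr : (g : Matrix (Fin 2) (Fin 2) F) 1 0 = 0
  · have hp : (g : Matrix (Fin 2) (Fin 2) F) 0 0 ≠ 0 := by
      intro h0
      have hd := SL2.det_rel g
      rw [h0, hr] at hd
      simp at hd
    have h1 : Cx.low 1 * g ∈ K := by
      apply key
      simp [Cx.low, SL2.mul10, hr, hp]
    have h3 : Cx.low (1 : F) ∈ K := hlow 1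
    have h4 := K.mul_mem (K.inv_mem h3) h1
    simpa using h4
  · exact key g hr

end cxdefs

section swap

variable {F : Type*} [Field F] [Fintype F] [Fintype SL(2, F)]

local notation "q" => (Fintype.card F)

/-- The diagonal element `diag(a, 1)` of `GL₂`. -/
noncomputable def x0 {F : Type*} [Field F] (a : F) (ha : a ≠ 0) : GL (Fin 2) F :=
  GL2.mk a 0 0 1 (by simpa using ha)

lemma x0_inv {F : Type*} [Field F] (a : F) (ha : a ≠ 0) :
    (x0 a ha)⁻¹ = GL2.mk a⁻¹ 0 0 1 (by simpa using ha) := by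
  apply inv_eq_of_mul_eq_one_right
  apply GL2.ext4 <;> simp [x0, GL2.mul00, GL2.mul01, GL2.mul10, GL2.mul11, ha]

lemma cx_x0_entries {F : Type*} [Field F] (a : F) (ha : a ≠ 0) (g : SL(2, F)) :
    ((cx (x0 a ha) g : SL(2, F)) : Matrix (Fin 2) (Fin 2) F) 0 0 = (g : Matrix (Fin 2) (Fin 2) F) 0 0 ∧
    ((cx (x0 a ha) g : SL(2, F)) : Matrix (Fin 2) (Fin 2) F) 0 1 = a * (g : Matrix (Fin 2) (Fin 2) F) 0 1 ∧
    ((cx (x0 a ha) g : SL(2, F)) : Matrix (Fin 2) (Fin 2) F) 1 0 = a⁻¹ * (g : Matrix (Fin 2) (Fin 2) F) 1 0 ∧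
    ((cx (x0 a ha) g : SL(2, F)) : Matrix (Fin 2) (Fin 2) F) 1 1 = (g : Matrix (Fin 2) (Fin 2) F) 1 1 := by
  rw [cx_val, x0_inv]
  refine ⟨?_, ?_, ?_, ?_⟩ <;>
    simp [Matrix.mul_apply, Fin.sum_univ_two, x0, GL2.mk00, GL2.mk01, GL2.mk10, GL2.mk11, ha]
  · field_simp
  · ring

lemma cx_x0_diag {F : Type*} [Field F] (a : F) (ha : a ≠ 0) (g : SL(2, F))
    (h1 : (g : Matrix (Fin 2) (Fin 2) F) 0 1 = 0) (h2 : (g : Matrix (Fin 2) (Fin 2) F) 1 0 = 0) :
    cx (x0 a ha) g = g := by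
  obtain ⟨e1, e2, e3, e4⟩ := cx_x0_entries a ha g
  apply SL2.ext4 <;> simp [e1, e2, e3, e4, h1, h2]

lemma cx_x0_u (a : F) (ha : a ≠ 0) (c : F) : cx (x0 a ha) ((slCx F).u c) = (slCx F).u (a * c) := by
  obtain ⟨e1, e2, e3, e4⟩ := cx_x0_entries a ha ((slCx F).u c)
  have h00 : (((slCx F).u c : SL(2, F)) : Matrix (Fin 2) (Fin 2) F) 0 0 = 1 := (slCx F).u00 c
  have h01 : (((slCx F).u c : SL(2, F)) : Matrix (Fin 2) (Fin 2) F) 0 1 = c := (slCx F).u01 c
  have h10 : (((slCx F).u c : SL(2, F)) : Matrix (Fin 2) (Fin 2) F) 1 0 = 0 := (slCx F).u10 c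
  have h11 : (((slCx F).u c : SL(2, F)) : Matrix (Fin 2) (Fin 2) F) 1 1 = 1 := (slCx F).u11 c
  have k00 : (((slCx F).u (a * c) : SL(2, F)) : Matrix (Fin 2) (Fin 2) F) 0 0 = 1 := (slCx F).u00 _
  have k01 : (((slCx F).u (a * c) : SL(2, F)) : Matrix (Fin 2) (Fin 2) F) 0 1 = a * c := (slCx F).u01 _
  have k10 : (((slCx F).u (a * c) : SL(2, F)) : Matrix (Fin 2) (Fin 2) F) 1 0 = 0 := (slCx F).u10 _
  have k11 : (((slCx F).u (a * c) : SL(2, F)) : Matrix (Fin 2) (Fin 2) F) 1 1 = 1 := (slCx F).u11 _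
  apply SL2.ext4
  · rw [e1, h00, k00]
  · rw [e2, h01, k01]
  · rw [e3, h10, k10, mul_zero]
  · rw [e4, h11, k11]

/-- The unipotent group as an abstract homomorphism. -/
noncomputable def uHom : Multiplicative F →* SL(2, F) where
  toFun c := (slCx F).u (Multiplicative.toAdd c)
  map_one' := (slCx F).u_zero
  map_mul' c d := (slCx F).u_add _ _

lemma exists_psi : ∃ ψ : Multiplicative F →* ℂˣ, ψ ≠ 1 := by
  obtain ⟨a, ha⟩ := exists_ne (0 : F)
  have ha' : Multiplicative.ofAdd a ≠ 1 := fun h => ha (Multiplicative.ofAdd.injective (by simpa using h))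
  haveI : HasEnoughRootsOfUnity ℂ (Monoid.exponent (Multiplicative F)) := inferInstance
  obtain ⟨ψ, hψ⟩ := CommGroup.exists_apply_ne_one_of_hasEnoughRootsOfUnity (Multiplicative F) ℂ ha'
  refine ⟨ψ, fun h => hψ ?_⟩
  rw [h]
  rfl

/-- A character constant on the nontrivial elements of `U`: the difference of values is a multiple of `q`. -/
lemma mult_of_const {a : SL(2, F) → ℂ} (ha : IsCharacter SL(2, F) a) {κ : ℂ}
    (hκ : ∀ c : F, c ≠ 0 → a ((slCx F).u c) = κ) : ∃ n : ℕ, a 1 - κ = (q : ℂ) * n := by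
  classical
  obtain ⟨ψ, hψ⟩ := exists_psi (F := F)
  obtain ⟨n, hn⟩ := classInner_isCharacter_nat (IsCharacter.comp uHom ha)
    (IsIrrCharacter.isCharacter (isIrrCharacter_of_hom ψ))
  refine ⟨n, ?_⟩
  rw [classInner_def] at hn
  have hcard : Nat.card (Multiplicative F) = q := by
    rw [Nat.card_eq_fintype_card]
    exact Fintype.card_congr Multiplicative.ofAdd.symm
  rw [hcard] at hn
  have hsum : ∑ c : Multiplicative F, conj ((ψ c : ℂˣ) : ℂ) = 0 := by
    have := sum_hom_conj (1 : Multiplicative F →* ℂˣ) ψ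
    rw [if_neg (Ne.symm hψ)] at this
    simpa using this
  have hsplit : ∀ c : Multiplicative F, (a ∘ uHom) c * conj ((ψ c : ℂˣ) : ℂ) =
      κ * conj ((ψ c : ℂˣ) : ℂ) + (if c = 1 then a 1 - κ else 0) := by
    intro c
    by_cases hc : c = 1
    · subst hc
      simp [map_one]
    · rw [if_neg hc, add_zero]
      have hc' : Multiplicative.toAdd c ≠ 0 := fun h => hc (by simpa using congrArg Multiplicative.ofAdd h)
      have : (a ∘ uHom) c = κ := hκ _ hc'
      rw [this]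
  have h5 : ∑ c : Multiplicative F, (a ∘ uHom) c * conj ((ψ c : ℂˣ) : ℂ) = a 1 - κ := by
    rw [Finset.sum_congr rfl (fun c _ => hsplit c), Finset.sum_add_distrib, ← Finset.mul_sum, hsum]
    simp
  rw [h5] at hn
  have hq0 : (q : ℂ) ≠ 0 := Nat.cast_ne_zero.mpr Fintype.card_ne_zero
  rw [← hn]
  field_simp

/-- An irreducible character with value the degree on `U` is trivial. -/
lemma trivial_of_u {a : SL(2, F) → ℂ} (ha : IsIrrCharacter SL(2, F) a)
    (h : ∀ c : F, a ((slCx F).u c) = a 1) : a = fun _ => 1 := by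
  obtain ⟨n, ρ, hρ, rfl⟩ := ha
  have h1 : ∀ c : F, ρ ((slCx F).u c) = 1 := fun c => rep_eq_one_of_char ρ _ (h c)
  have h2 : ∀ g, ρ g = 1 := by
    intro g
    have := sl_u_normal_top (MonoidHom.ker ρ) (fun c => MonoidHom.mem_ker.mpr (h1 c)) g
    exact MonoidHom.mem_ker.mp this
  exact irr_trivial_of_ker_top ρ hρ h2

lemma u_isConj {c c' : F} (hc : c ≠ 0) (hc' : c' ≠ 0) (h : IsSquare (c * c')) :
    IsConj ((slCx F).u c) ((slCx F).u c') :=
  (SL2.ux_conj_iff (1 : F) c c' (by ring) hc hc').mpr h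

/-- Two irreducible characters, whose sum is invariant under `diag(ν₀, 1)` for a nonsquare `ν₀`, and whose
sum has the right values on unipotent elements, are swapped by `diag(ν₀, 1)`. -/
theorem swap_general (h2 : (2 : F) ≠ 0) {ν₀ : F} (hν : ¬ IsSquare ν₀) (h0 : ν₀ ≠ 0)
    (a b : IrrCharacter SL(2, F)) (hab : a ≠ b)
    (hfix : ∀ g, (a : SL(2, F) → ℂ) (cx (x0 ν₀ h0) g) + (b : SL(2, F) → ℂ) (cx (x0 ν₀ h0) g) =
      (a : SL(2, F) → ℂ) g + (b : SL(2, F) → ℂ) g)
    (ha1 : (a : SL(2, F) → ℂ) ≠ fun _ => 1) (hb1 : (b : SL(2, F) → ℂ) ≠ fun _ => 1)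
    (hq : ∀ c : F, c ≠ 0 → (a : SL(2, F) → ℂ) 1 + (b : SL(2, F) → ℂ) 1 -
      ((a : SL(2, F) → ℂ) ((slCx F).u c) + (b : SL(2, F) → ℂ) ((slCx F).u c)) = (q : ℂ)) :
    ∀ g, (a : SL(2, F) → ℂ) (cx (x0 ν₀ h0) g) = (b : SL(2, F) → ℂ) g := by
  classical
  set e := cx (x0 ν₀ h0) with he
  let a' : IrrCharacter SL(2, F) := ⟨(a : SL(2, F) → ℂ) ∘ e, isIrr_comp_equiv e a.2⟩
  have hinner : classInner ((a : SL(2, F) → ℂ) + (b : SL(2, F) → ℂ)) (a' : SL(2, F) → ℂ) = 1 := by
    have e1 : ((a : SL(2, F) → ℂ) + (b : SL(2, F) → ℂ)) =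
        ((a : SL(2, F) → ℂ) + (b : SL(2, F) → ℂ)) ∘ e := by
      funext g
      exact (hfix g).symm
    rw [e1]
    have e2 : (a' : SL(2, F) → ℂ) = (a : SL(2, F) → ℂ) ∘ e := rfl
    rw [e2, classInner_comp_equiv, classInner_add_left, classInner_irr_self a.2,
      classInner_irr b.2 a.2, if_neg (fun e => hab (Subtype.ext e).symm)]
    ring
  rw [classInner_add_left, classInner_irr a.2 a'.2, classInner_irr b.2 a'.2] at hinner
  by_cases hb' : (b : SL(2, F) → ℂ) = a'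
  · intro g
    exact (congrFun hb' g).symm
  · rw [if_neg hb', add_zero] at hinner
    by_cases ha' : (a : SL(2, F) → ℂ) = a'
    · exfalso
      have hfa : ∀ g, (a : SL(2, F) → ℂ) (e g) = (a : SL(2, F) → ℂ) g := fun g => (congrFun ha' g).symm
      have hfb : ∀ g, (b : SL(2, F) → ℂ) (e g) = (b : SL(2, F) → ℂ) g := by
        intro g
        have := hfix g
        rw [hfa] at this
        exact add_left_cancel this
      have h2r : ringChar F ≠ 2 := fun h => h2 (two_eq_zero_iff.mpr h)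
      have hconst : ∀ x : IrrCharacter SL(2, F), (∀ g, (x : SL(2, F) → ℂ) (e g) = (x : SL(2, F) → ℂ) g) →
          ∀ c : F, c ≠ 0 → (x : SL(2, F) → ℂ) ((slCx F).u c) = (x : SL(2, F) → ℂ) ((slCx F).u 1) := by
        intro x hx c hc
        have hcl : ∀ {g h : SL(2, F)}, IsConj g h → (x : SL(2, F) → ℂ) g = (x : SL(2, F) → ℂ) h :=
          fun h => Cfsg.Agent.Lib.Char.IsCharacter.map_isConj (IsIrrCharacter.isCharacter x.2) h
        by_cases hs : IsSquare (c * 1)
        · exact hcl (u_isConj hc one_ne_zero hs)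
        · have h5 : IsSquare (c * (ν₀ * 1)) := by
            have h6 := SL2.isSquare_div_of_not_isSquare h2r (c * 1) ν₀⁻¹ hs (by
              intro h7
              apply hν
              have := h7.inv
              simpa using this)
            have e7 : c * 1 / ν₀⁻¹ = c * (ν₀ * 1) := by
              field_simp
            rwa [e7] at h6
          have h7 := hcl (u_isConj hc (mul_ne_zero h0 one_ne_zero) h5)
          rw [h7, ← cx_x0_u ν₀ h0 1]
          exact hx _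
      have hca := hconst a hfa
      have hcb := hconst b hfb
      obtain ⟨m, hm⟩ := mult_of_const (IsIrrCharacter.isCharacter a.2) hca
      obtain ⟨n, hn⟩ := mult_of_const (IsIrrCharacter.isCharacter b.2) hcb
      have hq1 := hq 1 one_ne_zero
      have hq0 : (q : ℂ) ≠ 0 := Nat.cast_ne_zero.mpr Fintype.card_ne_zero
      have hmn : ((m + n : ℕ) : ℂ) = 1 := by
        apply mul_left_cancel₀ hq0
        push_cast
        rw [mul_one, mul_add, ← hm, ← hn, ← hq1]
        ring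
      have hmn' : m + n = 1 := by exact_mod_cast hmn
      have hu1 : ∀ x : IrrCharacter SL(2, F), (x : SL(2, F) → ℂ) 1 = (x : SL(2, F) → ℂ) ((slCx F).u 1) →
          (∀ c : F, c ≠ 0 → (x : SL(2, F) → ℂ) ((slCx F).u c) = (x : SL(2, F) → ℂ) ((slCx F).u 1)) →
          (x : SL(2, F) → ℂ) = fun _ => 1 := by
        intro x h5 h6
        apply trivial_of_u x.2
        intro c
        by_cases hc : c = 0
        · rw [hc, (slCx F).u_zero]
        · rw [h6 c hc, ← h5]
      rcases Nat.eq_zero_or_pos m with hm0 | hm0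
      · apply ha1
        apply hu1 a _ hca
        rw [hm0] at hm
        simp only [Nat.cast_zero, mul_zero] at hm
        linear_combination hm
      · have hn0 : n = 0 := by omega
        apply hb1
        apply hu1 b _ hcb
        rw [hn0] at hn
        simp only [Nat.cast_zero, mul_zero] at hn
        linear_combination hn
    · rw [if_neg ha'] at hinner
      exact absurd hinner zero_ne_one

end swap

end Cfsg.Agent.Lib.KS2.RK
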