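import Mathlib
import Cfsg.Agent.Lib.KS2.SLSwap

set_option autoImplicit false
set_option linter.unusedSimpArgs false
set_option linter.unusedVariables false
set_option linter.unusedSectionVars false

namespace Cfsg.Agent.Lib.KS2.RK

open Matrix Cfsg Cfsg.Agent.Lib.Char
open scoped MatrixGroups ComplexConjugate

variable {F : Type*} [Field F] [Fintype F]

local notation "q" => (Fintype.card F)

lemma slu00 (c : F) : (((slCx F).u c : SL(2, F)) : Matrix (Fin 2) (Fin 2) F) 0 0 = 1 := (slCx F).u00 c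
lemma slu01 (c : F) : (((slCx F).u c : SL(2, F)) : Matrix (Fin 2) (Fin 2) F) 0 1 = c := (slCx F).u01 c
lemma slu10 (c : F) : (((slCx F).u c : SL(2, F)) : Matrix (Fin 2) (Fin 2) F) 1 0 = 0 := (slCx F).u10 c
lemma slu11 (c : F) : (((slCx F).u c : SL(2, F)) : Matrix (Fin 2) (Fin 2) F) 1 1 = 1 := (slCx F).u11 c

/-- The scalar element of `Z` for a square root of one. -/
noncomputable def zOf (ε : F) (hε : ε * ε = 1) : (slCx F).Z :=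
  ⟨SL2.sc ε hε, by
    rw [Cx.mem_Z]
    refine ⟨?_, ?_, ?_⟩ <;> simp [SL2.sc00, SL2.sc01, SL2.sc10, SL2.sc11, slCx_e]⟩

lemma ux_eq_zu (ε b : F) (hε : ε * ε = 1) : SL2.ux ε b hε = (zOf ε hε : SL(2, F)) * (slCx F).u b := by
  have e : ((zOf ε hε : (slCx F).Z) : SL(2, F)) = SL2.sc ε hε := rfl
  rw [e]
  apply SL2.ext4 <;>
    simp [SL2.mul00, SL2.mul01, SL2.mul10, SL2.mul11, SL2.sc00, SL2.sc01, SL2.sc10, SL2.sc11,
      SL2.ux00, SL2.ux01, SL2.ux10, SL2.ux11, slu00, slu01, slu10, slu11]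

variable [Fintype SL(2, F)]

lemma R_cx (h2 : (2 : F) ≠ 0) (l : (slCx F).D →* ℂˣ) (x : GL (Fin 2) F) (g : SL(2, F)) :
    (slCx F).R l (cx x g) = (slCx F).R l g := by
  apply gl_inv h2 ((slCx F).R_isClass l)
  intro ε hε b b' hb hb'
  rw [ux_eq_zu, ux_eq_zu, (slCx F).R_zu l _ hb, (slCx F).R_zu l _ hb']

lemma chi_cx (h2 : (2 : F) ≠ 0) {l : (slCx F).D →* ℂˣ} {θ : (slCx F).T →* ℂˣ} (hl : (slCx F).Comp l θ)
    (x : GL (Fin 2) F) (g : SL(2, F)) :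
    (slCx F).chi l θ (cx x g) = (slCx F).chi l θ g := by
  classical
  letI : Fintype (slCx F).Z := Fintype.ofFinite _
  apply gl_inv h2 ((slCx F).chi_isClass l θ)
  intro ε hε b b' hb hb'
  rw [ux_eq_zu, ux_eq_zu, (slCx F).chi_zu hl _ hb, (slCx F).chi_zu hl _ hb']

lemma not_triv {χ : IrrCharacter SL(2, F)} (h : χ ∉ Set.range (slCx F).E1) :
    (χ : SL(2, F) → ℂ) ≠ fun _ => 1 := by
  intro e
  apply h
  refine ⟨⟨1, fun c => rfl⟩, ?_⟩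
  apply Subtype.ext
  rw [e]
  funext g
  simp [Cx.E1]

lemma exists_nonsq (h2 : (2 : F) ≠ 0) : ∃ ν₀ : F, ¬ IsSquare ν₀ ∧ ν₀ ≠ 0 := by
  obtain ⟨a, ha⟩ := FiniteField.exists_nonsquare (F := F) (fun h => h2 (two_eq_zero_iff.mpr h))
  exact ⟨a, ha, fun h => ha (h ▸ IsSquare.zero)⟩

namespace OddPack

variable (P : OddPack F)

lemma R_eq (g : SL(2, F)) : (slCx F).R P.l₀ g = (P.ξ₁ : SL(2, F) → ℂ) g + (P.ξ₂ : SL(2, F) → ℂ) g := by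
  rw [P.hΨ]
  rfl

lemma chi_eq (g : SL(2, F)) : (slCx F).chi ((slCx F).lab P.θ₀) P.θ₀ g = (P.η₁ : SL(2, F) → ℂ) g + (P.η₂ : SL(2, F) → ℂ) g := by
  rw [P.hΦ]
  rfl

theorem xi_swap (h2 : (2 : F) ≠ 0) {ν₀ : F} (hν : ¬ IsSquare ν₀) (h0 : ν₀ ≠ 0) (g : SL(2, F)) :
    (P.ξ₁ : SL(2, F) → ℂ) (cx (x0 ν₀ h0) g) = (P.ξ₂ : SL(2, F) → ℂ) g := by
  refine swap_general h2 hν h0 P.ξ₁ P.ξ₂ P.hξ ?_ ?_ ?_ ?_ g
  · intro g
    rw [← R_eq, ← R_eq, R_cx h2]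
  · exact not_triv (P.hnot P.ξ₁ (by simp)).1
  · exact not_triv (P.hnot P.ξ₂ (by simp)).1
  · intro c hc
    rw [← R_eq, ← R_eq, (slCx F).R_u _ hc, (slCx F).R_one]
    ring

theorem eta_swap (h2 : (2 : F) ≠ 0) {ν₀ : F} (hν : ¬ IsSquare ν₀) (h0 : ν₀ ≠ 0) (g : SL(2, F)) :
    (P.η₁ : SL(2, F) → ℂ) (cx (x0 ν₀ h0) g) = (P.η₂ : SL(2, F) → ℂ) g := by
  have hl := (slCx F).lab_comp P.θ₀
  refine swap_general h2 hν h0 P.η₁ P.η₂ P.hη ?_ ?_ ?_ ?_ g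
  · intro g
    rw [← chi_eq, ← chi_eq, chi_cx h2 hl]
  · exact not_triv (P.hnot P.η₁ (by simp)).1
  · exact not_triv (P.hnot P.η₂ (by simp)).1
  · intro c hc
    rw [← chi_eq, ← chi_eq, (slCx F).chi_u hl hc, (slCx F).chi_one hl]
    ring

end OddPack

/-- The elements with `tr² ≠ 4` are conjugate to their `GL₂` conjugates. -/
lemma isConj_cx_of_tr (x : GL (Fin 2) F) {g : SL(2, F)} (h : (SL2.tr g) ^ 2 ≠ 4) : IsConj g (cx x g) := by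
  have hg : ¬ SL2.IsScalar g := by
    rintro ⟨h1, h3, h4⟩
    apply h
    have hd := SL2.det_rel g
    rw [h1, h3] at hd
    simp only [SL2.tr]
    rw [← h4] at hd ⊢
    linear_combination 4 * hd
  exact SL2.isConj_of_tr_eq g (cx x g) hg (not_scalar_cx x hg) (tr_cx x g).symm (Or.inl h)

namespace OddPack

variable (P : OddPack F)

theorem xi_eq (h2 : (2 : F) ≠ 0) {g : SL(2, F)} (h : (SL2.tr g) ^ 2 ≠ 4) :
    (P.ξ₁ : SL(2, F) → ℂ) g = (P.ξ₂ : SL(2, F) → ℂ) g := by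
  obtain ⟨ν₀, hν, h0⟩ := exists_nonsq h2
  rw [← P.xi_swap h2 hν h0 g]
  exact Cfsg.Agent.Lib.Char.IsCharacter.map_isConj (IsIrrCharacter.isCharacter P.ξ₁.2) (isConj_cx_of_tr _ h)

theorem eta_eq (h2 : (2 : F) ≠ 0) {g : SL(2, F)} (h : (SL2.tr g) ^ 2 ≠ 4) :
    (P.η₁ : SL(2, F) → ℂ) g = (P.η₂ : SL(2, F) → ℂ) g := by
  obtain ⟨ν₀, hν, h0⟩ := exists_nonsq h2
  rw [← P.eta_swap h2 hν h0 g]
  exact Cfsg.Agent.Lib.Char.IsCharacter.map_isConj (IsIrrCharacter.isCharacter P.η₁.2) (isConj_cx_of_tr _ h)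

theorem xi₁_half (h2 : (2 : F) ≠ 0) {g : SL(2, F)} (h : (SL2.tr g) ^ 2 ≠ 4) :
    (P.ξ₁ : SL(2, F) → ℂ) g = (slCx F).R P.l₀ g / 2 := by
  rw [R_eq, ← P.xi_eq h2 h]
  ring

theorem xi₂_half (h2 : (2 : F) ≠ 0) {g : SL(2, F)} (h : (SL2.tr g) ^ 2 ≠ 4) :
    (P.ξ₂ : SL(2, F) → ℂ) g = (slCx F).R P.l₀ g / 2 := by
  rw [R_eq, P.xi_eq h2 h]
  ring

theorem eta₁_half (h2 : (2 : F) ≠ 0) {g : SL(2, F)} (h : (SL2.tr g) ^ 2 ≠ 4) :
    (P.η₁ : SL(2, F) → ℂ) g = (slCx F).chi ((slCx F).lab P.θ₀) P.θ₀ g / 2 := by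
  rw [chi_eq, ← P.eta_eq h2 h]
  ring

theorem eta₂_half (h2 : (2 : F) ≠ 0) {g : SL(2, F)} (h : (SL2.tr g) ^ 2 ≠ 4) :
    (P.η₂ : SL(2, F) → ℂ) g = (slCx F).chi ((slCx F).lab P.θ₀) P.θ₀ g / 2 := by
  rw [chi_eq, P.eta_eq h2 h]
  ring

end OddPack

/-- Diagonal elements with `a² ≠ 1` have `tr² ≠ 4`. -/
lemma tr_sq_ne_of_diag {g : SL(2, F)} (h01 : (g : Matrix (Fin 2) (Fin 2) F) 0 1 = 0)
    (h10 : (g : Matrix (Fin 2) (Fin 2) F) 1 0 = 0) (h : (g : Matrix (Fin 2) (Fin 2) F) 0 0 ^ 2 ≠ 1) :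
    (SL2.tr g) ^ 2 ≠ 4 := by
  intro ht
  have hd := SL2.det_rel g
  rw [h01, h10] at hd
  set a := (g : Matrix (Fin 2) (Fin 2) F) 0 0
  set d := (g : Matrix (Fin 2) (Fin 2) F) 1 1
  have h1 : (a - d) ^ 2 = 0 := by
    have : (a + d) ^ 2 = 4 := ht
    linear_combination this - 4 * hd
  have h3 : a = d := by
    have := pow_eq_zero_iff (two_ne_zero) |>.mp h1
    linear_combination this
  apply h
  rw [pow_two]
  rw [← h3] at hd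
  linear_combination hd

/-- Elements with no eigenvector have `tr² ≠ 4` in odd characteristic. -/
lemma tr_sq_ne_of_NE (h2 : (2 : F) ≠ 0) {g : SL(2, F)} (h : (slCx F).NE g) : (SL2.tr g) ^ 2 ≠ 4 := by
  intro ht
  have hd := SL2.det_rel g
  set a := (g : Matrix (Fin 2) (Fin 2) F) 0 0 with ha
  set b := (g : Matrix (Fin 2) (Fin 2) F) 0 1 with hb
  set c := (g : Matrix (Fin 2) (Fin 2) F) 1 0 with hc
  set d := (g : Matrix (Fin 2) (Fin 2) F) 1 1 with hd'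
  have ht' : (a + d) ^ 2 = 4 := ht
  -- discriminant zero: an eigenvector exists
  have hN : ∀ p r : F, ¬ (p = 0 ∧ r = 0) → - r * (a * p + b * r) + p * (c * p + d * r) ≠ 0 := h
  have h4 : (a - d) ^ 2 + 4 * b * c = 0 := by linear_combination ht' - 4 * hd
  by_cases hc0 : c = 0
  · apply hN 1 0 (by simp)
    rw [hc0]
    ring
  · apply hN (a - d) (2 * c)
    · rintro ⟨_, h5⟩
      exact (mul_ne_zero h2 hc0) h5
    · linear_combination (-c) * h4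

end Cfsg.Agent.Lib.KS2.RK
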