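import Mathlib
import Cfsg.Agent.Lib.KS2.SLPack

set_option autoImplicit false
set_option linter.unusedSimpArgs false
set_option linter.unusedVariables false
set_option linter.unusedSectionVars false

namespace Cfsg.Agent.Lib.KS2.RK

open Matrix Cfsg Cfsg.Agent.Lib.Char
open scoped MatrixGroups ComplexConjugate

variable {F : Type*} [Field F] [Fintype F]

local notation "q" => (Fintype.card F)

lemma sgT_eq_inv (t : (slCx F).T) : (slCx F).sgT t = t⁻¹ := by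
  apply Subtype.ext
  apply (slCx F).T_ext ((slCx F).sgT t).2 (t⁻¹).2
  · rw [Cx.sgT00]
    have := ((slCx F).mem_T.mp t.2).2
    have e : (((t⁻¹ : (slCx F).T) : SL(2, F)) : Matrix (Fin 2) (Fin 2) F) 0 0 = ((t : SL(2, F)) : Matrix (Fin 2) (Fin 2) F) 1 1 := by
      rw [Subgroup.coe_inv, SL2.inv00]
    show _ = (((t⁻¹ : (slCx F).T) : SL(2, F)) : Matrix (Fin 2) (Fin 2) F) 0 0
    rw [e]
    exact this.symm
  · rw [Cx.sgT10]
    have e : (((t⁻¹ : (slCx F).T) : SL(2, F)) : Matrix (Fin 2) (Fin 2) F) 1 0 = - ((t : SL(2, F)) : Matrix (Fin 2) (Fin 2) F) 1 0 := by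
      rw [Subgroup.coe_inv, SL2.inv10]
    exact e.symm

variable [Fintype SL(2, F)]

/-- The square of the value of a label off the scalars when `q = 3`. -/
lemma theta_sq_q3 (hq : q = 3) {θ : (slCx F).T →* ℂˣ} (hθ : θ ≠ θ.comp (slCx F).sgT)
    (h2 : (2 : F) ≠ 0) (t : (slCx F).T) (ht : (t : SL(2, F)) ∉ (slCx F).Z) :
    ((θ t : ℂˣ) : ℂ) ^ 2 = -1 := by
  classical
  have hcardT : Nat.card (slCx F).T = 4 := by
    rw [show Nat.card (slCx F).T = Nat.card ((slCx F).toGLike.T (slCx F).ν) from rfl, (slCx F).hT, hq]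
    rfl
  have hcardZ : Nat.card (slCx F).Z = 2 := sl_card_Z_odd h2
  obtain ⟨s, hs⟩ : ∃ s : (slCx F).T, θ s ≠ θ ((slCx F).sgT s) := by
    by_contra hcon
    push Not at hcon
    apply hθ
    ext s
    rw [MonoidHom.comp_apply, hcon s]
  have hsZ : (s : SL(2, F)) ∉ (slCx F).Z := by
    intro h
    apply hs
    rw [(slCx F).sgT_of_Z s h]
  set Z' : Subgroup (slCx F).T := ((slCx F).Z).subgroupOf (slCx F).T with hZ'
  have hidx : Z'.index = 2 := by
    have h1 := Subgroup.card_mul_index Z'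
    have h3 : Nat.card Z' = 2 :=
      (Nat.card_congr (Subgroup.subgroupOfEquivOfLe (slCx F).Z_le_T).toEquiv).trans hcardZ
    rw [h3, hcardT] at h1
    omega
  have hmem : s * t ∈ Z' := by
    rw [Subgroup.mul_mem_iff_of_index_two hidx]
    constructor
    · intro h
      exact absurd (Subgroup.mem_subgroupOf.mp h) hsZ
    · intro h
      exact absurd (Subgroup.mem_subgroupOf.mp h) ht
  have hsq : ∀ z : (slCx F).T, z ∈ Z' → θ z ^ 2 = 1 := by
    intro z hz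
    have h3 : (slCx F).sgT z = z := (slCx F).sgT_of_Z z (Subgroup.mem_subgroupOf.mp hz)
    rw [sgT_eq_inv] at h3
    have h4 : z * z = 1 := by
      nth_rewrite 1 [← h3]
      exact inv_mul_cancel z
    rw [pow_two, ← map_mul, h4, map_one]
  have hs1 : θ s ^ 2 ≠ 1 := by
    intro h
    apply hs
    rw [sgT_eq_inv, map_inv]
    apply eq_inv_of_mul_eq_one_left
    rw [← pow_two]
    exact h
  have hs4 : (θ s ^ 2) ^ 2 = 1 := by
    rw [← pow_mul, ← map_pow]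
    have : s ^ (2 * 2) = 1 := by
      have := pow_card_eq_one' (x := s)
      rwa [hcardT] at this
    rw [this, map_one]
  have hs2 : ((θ s ^ 2 : ℂˣ) : ℂ) = -1 := by
    have h3 : (((θ s ^ 2 : ℂˣ) : ℂ)) ^ 2 = 1 := by
      have := congrArg (Units.val) hs4
      simpa using this
    have h4 : (((θ s ^ 2 : ℂˣ) : ℂ) - 1) * (((θ s ^ 2 : ℂˣ) : ℂ) + 1) = 0 := by
      linear_combination h3
    rcases mul_eq_zero.mp h4 with h5 | h5
    · exfalso
      apply hs1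
      apply Units.ext
      rw [Units.val_one]
      linear_combination h5
    · linear_combination h5
  have hst := hsq _ hmem
  rw [map_mul, mul_pow] at hst
  have hst' := congrArg (Units.val) hst
  simp only [Units.val_mul, Units.val_one] at hst'
  rw [hs2] at hst'
  simp only [Units.val_pow_eq_pow_val] at hst' ⊢
  linear_combination -hst'

/-- Value of a cuspidal function on an element without eigenvector. -/
lemma chi_of_NE {l : (slCx F).D →* ℂˣ} {θ : (slCx F).T →* ℂˣ} {g : SL(2, F)} (hg : (slCx F).NE g) :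
    ∃ t : (slCx F).T, (t : SL(2, F)) ∉ (slCx F).Z ∧ IsConj g (t : SL(2, F)) ∧
      (slCx F).chi l θ g = -((θ t : ℂˣ) : ℂ) - (((θ t)⁻¹ : ℂˣ) : ℂ) := by
  classical
  letI : Fintype (slCx F).Z := Fintype.ofFinite _
  obtain ⟨x, hx⟩ := (slCx F).NE_conj_T hg
  have hz : x⁻¹ * g * x ∉ (slCx F).Z := by
    intro hz
    have h1 := (slCx F).Z_conj hz x⁻¹
    have h3 : (x⁻¹)⁻¹ * (x⁻¹ * g * x) * x⁻¹ = g := by group
    rw [h3] at h1
    rw [← h1] at hz
    exact (slCx F).Z_not_NE hz hg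
  refine ⟨⟨_, hx⟩, hz, ?_, ?_⟩
  · apply isConj_iff.mpr
    exact ⟨x⁻¹, by group⟩
  · have h1 := (slCx F).chi_isClass l θ g x⁻¹
    rw [inv_inv] at h1
    rw [← h1]
    have := (slCx F).chi_T (l := l) (θ := θ) ⟨_, hx⟩ hz
    rw [this, sgT_eq_inv, map_inv]

/-- The classification with degrees. -/
theorem OddPack.cases_deg (P : OddPack F) (χ : IrrCharacter SL(2, F)) :
    ∃ n : ℕ, (χ : SL(2, F) → ℂ) 1 = (n : ℂ) ∧
      ((n = 1 ∧ χ ∈ Set.range (slCx F).E1) ∨ (n = q ∧ χ ∈ Set.range (slCx F).E2) ∨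
        (n = q + 1 ∧ χ ∈ Set.range (slCx F).E3) ∨ (n = q - 1 ∧ χ ∈ Set.range (slCx F).E4) ∨
        (n = (q + 1) / 2 ∧ (χ = P.ξ₁ ∨ χ = P.ξ₂)) ∨ (n = (q - 1) / 2 ∧ (χ = P.η₁ ∨ χ = P.η₂))) := by
  rcases P.hclass χ with ha | ha | ha | ha | ha | ha | ha | ha
  · obtain ⟨a, rfl⟩ := ha
    exact ⟨1, by simpa using (slCx F).deg_E1 a, Or.inl ⟨rfl, a, rfl⟩⟩
  · obtain ⟨a, rfl⟩ := ha
    exact ⟨q, (slCx F).deg_E2 a, Or.inr (Or.inl ⟨rfl, a, rfl⟩)⟩
  · obtain ⟨a, rfl⟩ := ha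
    exact ⟨q + 1, by simpa using (slCx F).deg_E3 a, Or.inr (Or.inr (Or.inl ⟨rfl, a, rfl⟩))⟩
  · obtain ⟨a, rfl⟩ := ha
    exact ⟨q - 1, by rw [(slCx F).deg_E4 a, Cx.qsub_cast F], Or.inr (Or.inr (Or.inr (Or.inl ⟨rfl, a, rfl⟩)))⟩
  · subst ha
    exact ⟨_, P.dξ₁, Or.inr (Or.inr (Or.inr (Or.inr (Or.inl ⟨rfl, Or.inl rfl⟩))))⟩
  · subst ha
    exact ⟨_, P.dξ₂, Or.inr (Or.inr (Or.inr (Or.inr (Or.inl ⟨rfl, Or.inr rfl⟩))))⟩
  · subst ha
    exact ⟨_, P.dη₁, Or.inr (Or.inr (Or.inr (Or.inr (Or.inr ⟨rfl, Or.inl rfl⟩))))⟩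
  · subst ha
    exact ⟨_, P.dη₂, Or.inr (Or.inr (Or.inr (Or.inr (Or.inr ⟨rfl, Or.inr rfl⟩))))⟩

/-- The classification with degrees, in even characteristic. -/
theorem cases_deg_even (h2 : (2 : F) = 0) (χ : IrrCharacter SL(2, F)) :
    ∃ n : ℕ, (χ : SL(2, F) → ℂ) 1 = (n : ℂ) ∧
      ((n = 1 ∧ χ ∈ Set.range (slCx F).E1) ∨ (n = q ∧ χ ∈ Set.range (slCx F).E2) ∨
        (n = q + 1 ∧ χ ∈ Set.range (slCx F).E3) ∨ (n = q - 1 ∧ χ ∈ Set.range (slCx F).E4)) := by
  rcases sl_classify_even h2 χ with ha | ha | ha | ha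
  · obtain ⟨a, rfl⟩ := ha
    exact ⟨1, by simpa using (slCx F).deg_E1 a, Or.inl ⟨rfl, a, rfl⟩⟩
  · obtain ⟨a, rfl⟩ := ha
    exact ⟨q, (slCx F).deg_E2 a, Or.inr (Or.inl ⟨rfl, a, rfl⟩)⟩
  · obtain ⟨a, rfl⟩ := ha
    exact ⟨q + 1, by simpa using (slCx F).deg_E3 a, Or.inr (Or.inr (Or.inl ⟨rfl, a, rfl⟩))⟩
  · obtain ⟨a, rfl⟩ := ha
    exact ⟨q - 1, by rw [(slCx F).deg_E4 a, Cx.qsub_cast F], Or.inr (Or.inr (Or.inr ⟨rfl, a, rfl⟩))⟩

lemma succ_cast : (q : ℂ) + 1 = ((q + 1 : ℕ) : ℂ) := by push_cast; rfl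
lemma pred_cast : (q : ℂ) - 1 = ((q - 1 : ℕ) : ℂ) := (Cx.qsub_cast F).symm

/-- Degrees `q ± 1` for `q ≥ 4`. -/
theorem deg_succ_pred (hq : 4 ≤ q) (χ : IrrCharacter SL(2, F)) :
    ((χ : SL(2, F) → ℂ) 1 = (q : ℂ) + 1 → χ ∈ Set.range (slCx F).E3) ∧
    ((χ : SL(2, F) → ℂ) 1 = (q : ℂ) - 1 → χ ∈ Set.range (slCx F).E4) := by
  by_cases h2 : (2 : F) = 0
  · obtain ⟨n, hn, h⟩ := cases_deg_even h2 χ
    constructor
    · intro hd
      rw [succ_cast, hn] at hd
      have hd' : n = q + 1 := by exact_mod_cast hd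
      rcases h with h | h | h | h
      · omega
      · omega
      · exact h.2
      · omega
    · intro hd
      rw [pred_cast, hn] at hd
      have hd' : n = q - 1 := by exact_mod_cast hd
      rcases h with h | h | h | h
      · omega
      · omega
      · omega
      · exact h.2
  · obtain ⟨P⟩ := exists_oddPack (F := F) h2
    have hq1 := sl_q_odd h2
    obtain ⟨n, hn, h⟩ := P.cases_deg χ
    constructor
    · intro hd
      rw [succ_cast, hn] at hd
      have hd' : n = q + 1 := by exact_mod_cast hd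
      rcases h with h | h | h | h | h | h
      · omega
      · omega
      · exact h.2
      · omega
      · omega
      · omega
    · intro hd
      rw [pred_cast, hn] at hd
      have hd' : n = q - 1 := by exact_mod_cast hd
      rcases h with h | h | h | h | h | h
      · omega
      · omega
      · omega
      · exact h.2
      · omega
      · omega

end Cfsg.Agent.Lib.KS2.RK
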