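import Mathlib
import Cfsg.Agent.Lib.Spec.A5A6

/-!
Abelian Sylow subgroups of alternating groups.
-/

set_option autoImplicit false
set_option linter.unusedSimpArgs false
set_option linter.unusedVariables false
set_option linter.deprecated false

namespace Cfsg.Agent.Lib.KS2.AltSyl

open Equiv Equiv.Perm

section General

variable {G : Type*} [Group G]

lemma centralizer_subgroupOf_normal (P : Subgroup G) :
    ((Subgroup.centralizer (P : Set G)).subgroupOf (Subgroup.normalizer (P : Set G))).Normal := by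
  constructor
  intro c hc g
  rw [Subgroup.mem_subgroupOf] at hc ⊢
  rw [Subgroup.mem_centralizer_iff] at hc ⊢
  intro h hh
  have hgn := g.2
  rw [Subgroup.mem_normalizer_iff] at hgn
  have h1 : (g : G)⁻¹ * h * (g : G) ∈ P := by
    have := (hgn ((g : G)⁻¹ * h * (g : G))).mpr (by
      have e : (g : G) * ((g : G)⁻¹ * h * (g : G)) * (g : G)⁻¹ = h := by group
      rw [e]; exact hh)
    exact this
  have h2 := hc _ h1
  simp only [Subgroup.coe_mul, InvMemClass.coe_inv] at h2 ⊢
  have e : h * ((g : G) * (c : G) * (g : G)⁻¹) = (g : G) * (((g : G)⁻¹ * h * (g : G)) * (c : G)) * (g : G)⁻¹ := by group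
  rw [e, h2]
  group

lemma two_dvd_index [Finite G] (P : Subgroup G) (x n : G) (hx : x ∈ P) (hn : n ∈ Subgroup.normalizer (P : Set G))
    (hinv : n⁻¹ * x * n = x⁻¹) (hx2 : x * x ≠ 1) :
    2 ∣ ((Subgroup.centralizer (P : Set G)).subgroupOf (Subgroup.normalizer (P : Set G))).index := by
  by_contra hcon
  haveI := centralizer_subgroupOf_normal P
  have h1 := Subgroup.pow_index_mem ((Subgroup.centralizer (P : Set G)).subgroupOf (Subgroup.normalizer (P : Set G))) ⟨n, hn⟩
  set i := ((Subgroup.centralizer (P : Set G)).subgroupOf (Subgroup.normalizer (P : Set G))).index with hi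
  rw [Subgroup.mem_subgroupOf, Subgroup.mem_centralizer_iff] at h1
  have h2 : x * n ^ i = n ^ i * x := by
    have := h1 x hx
    simpa using this
  have hsq : x * n ^ 2 = n ^ 2 * x := by
    have h3 : x * n = n * x⁻¹ := by
      rw [← hinv]; group
    have h4 : x⁻¹ * n = n * x := by
      have : n⁻¹ * x⁻¹ * n = x := by
        have := congrArg (fun t => t⁻¹) hinv
        simpa [mul_assoc] using this
      calc x⁻¹ * n = n * (n⁻¹ * x⁻¹ * n) := by group
        _ = n * x := by rw [this]
    calc x * n ^ 2 = (x * n) * n := by rw [pow_two, mul_assoc]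
      _ = n * (x⁻¹ * n) := by rw [h3, mul_assoc]
      _ = n * (n * x) := by rw [h4]
      _ = n ^ 2 * x := by rw [pow_two, mul_assoc]
  have hodd : Odd i := by
    rw [← Nat.not_even_iff_odd]
    intro he
    exact hcon he.two_dvd
  obtain ⟨j, hj⟩ := hodd
  have hcomm : Commute x (n ^ (2 * j)) := by
    rw [pow_mul]
    exact (show Commute x (n ^ 2) from hsq).pow_right j
  have h5 : x * n ^ i = n ^ (2 * j) * (x * n) := by
    rw [hj, pow_succ, ← mul_assoc, hcomm.eq, mul_assoc]
  have h6 : n ^ i * x = n ^ (2 * j) * (n * x) := by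
    rw [hj, pow_succ, mul_assoc]
  rw [h5, h6] at h2
  have h7 := mul_left_cancel h2
  have h8 : x * n = n * x⁻¹ := by
    rw [← hinv]; group
  rw [h8] at h7
  have h9 := mul_left_cancel h7
  apply hx2
  calc x * x = x * x⁻¹ := by rw [h9]
    _ = 1 := mul_inv_cancel x

/-- Elements `r`, `s` with `s² = 1`, `s r s⁻¹ = r⁻¹`, `r⁴ = 1` generate a `2`-group. -/
lemma dihedral_pgroup (r s : G) (hs : s * s = 1) (hsr : s * r * s⁻¹ = r⁻¹) (hr : r ^ 4 = 1) :
    IsPGroup 2 (Subgroup.closure ({r, s} : Set G)) := by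
  have hsinv : s⁻¹ = s := inv_eq_of_mul_eq_one_left hs
  have hsr' : ∀ j : ℤ, s * r ^ j = r ^ (-j) * s := by
    intro j
    have h1 : s * r ^ j * s⁻¹ = r ^ (-j) := by
      rw [← conj_zpow, hsr, inv_zpow, zpow_neg]
    rw [← h1]
    group
  have hall : ∀ g ∈ Subgroup.closure ({r, s} : Set G), (∃ i : ℤ, g = r ^ i) ∨ (∃ i : ℤ, g = r ^ i * s) := by
    intro g hg
    induction hg using Subgroup.closure_induction with
    | mem x hx =>
      rcases hx with rfl | rfl
      · exact Or.inl ⟨1, by simp⟩
      · exact Or.inr ⟨0, by simp⟩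
    | one => exact Or.inl ⟨0, by simp⟩
    | mul x y _ _ hx hy =>
      rcases hx with ⟨i, rfl⟩ | ⟨i, rfl⟩ <;> rcases hy with ⟨j, rfl⟩ | ⟨j, rfl⟩
      · exact Or.inl ⟨i + j, by rw [zpow_add]⟩
      · exact Or.inr ⟨i + j, by rw [zpow_add, mul_assoc]⟩
      · refine Or.inr ⟨i - j, ?_⟩
        rw [mul_assoc, hsr', ← mul_assoc, ← zpow_add, sub_eq_add_neg]
      · refine Or.inl ⟨i - j, ?_⟩
        rw [mul_assoc, ← mul_assoc s, hsr', mul_assoc, hs, mul_one, ← zpow_add, sub_eq_add_neg]
    | inv x _ hx =>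
      rcases hx with ⟨i, rfl⟩ | ⟨i, rfl⟩
      · exact Or.inl ⟨-i, by simp⟩
      · refine Or.inr ⟨i, ?_⟩
        rw [_root_.mul_inv_rev, hsinv, ← zpow_neg, hsr', neg_neg]
  rw [IsPGroup]
  rintro ⟨g, hg⟩
  refine ⟨2, ?_⟩
  apply Subtype.ext
  show g ^ (2 ^ 2) = 1
  rcases hall g hg with ⟨i, rfl⟩ | ⟨i, rfl⟩
  · rw [← zpow_natCast, ← zpow_mul, mul_comm, zpow_mul]
    have : (r ^ ((2 ^ 2 : ℕ) : ℤ)) = 1 := by
      rw [zpow_natCast]
      exact hr
    rw [this, one_zpow]
  · have : (r ^ i * s) * (r ^ i * s) = 1 := by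
      rw [mul_assoc, ← mul_assoc s, hsr', mul_assoc, hs, mul_one, ← zpow_add]
      simp
    calc (r ^ i * s) ^ (2 ^ 2) = ((r ^ i * s) * (r ^ i * s)) ^ 2 := by
          rw [← pow_two, ← pow_mul]
          rfl
      _ = 1 := by rw [this, one_pow]

end General

set_option maxRecDepth 100000 in
lemma D8_facts : ∃ r s : Perm (Fin 6), sign r = 1 ∧ sign s = 1 ∧ s * s = 1 ∧ s * r * s⁻¹ = r⁻¹ ∧ r ^ 4 = 1 ∧ r * s ≠ s * r := by
  refine ⟨swap 0 1 * swap 1 2 * swap 2 3 * swap 4 5, swap 1 3 * swap 4 5, ?_, ?_, ?_, ?_, ?_, ?_⟩ <;> decide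

/-- For `n ≥ 6` no Sylow `2`-subgroup of `A_n` is abelian. -/
lemma sylow_two_not_comm {n : ℕ} (hn : 6 ≤ n) (P : Sylow 2 (alternatingGroup (Fin n)))
    (hP : IsMulCommutative (P : Subgroup (alternatingGroup (Fin n)))) : False := by
  obtain ⟨r₀, s₀, hr, hs, hss, hsr, hr4, hne⟩ := D8_facts
  let ι : Fin 6 ↪ Fin n := Fin.castLEEmb hn
  let φ : Perm (Fin 6) →* Perm (Fin n) := viaEmbeddingHom ι
  have hsign : ∀ e : Perm (Fin 6), sign (φ e) = sign e := by
    intro e
    simp [φ, viaEmbeddingHom_apply, viaEmbedding]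
  have hinj : Function.Injective φ := viaEmbeddingHom_injective ι
  let r : alternatingGroup (Fin n) := ⟨φ r₀, by rw [mem_alternatingGroup, hsign, hr]⟩
  let s : alternatingGroup (Fin n) := ⟨φ s₀, by rw [mem_alternatingGroup, hsign, hs]⟩
  have hD := dihedral_pgroup r s
    (by apply Subtype.ext; show φ s₀ * φ s₀ = 1; rw [← map_mul, hss, map_one])
    (by apply Subtype.ext; show φ s₀ * φ r₀ * (φ s₀)⁻¹ = (φ r₀)⁻¹; rw [← map_inv, ← map_mul, ← map_mul, hsr, map_inv])
    (by apply Subtype.ext; show (φ r₀) ^ 4 = 1; rw [← map_pow, hr4, map_one])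
  obtain ⟨Q, hQ⟩ := hD.exists_le_sylow
  obtain ⟨g, hg⟩ := MulAction.exists_smul_eq (alternatingGroup (Fin n)) P Q
  have hrQ : r ∈ (Q : Subgroup _) := hQ (Subgroup.subset_closure (by simp))
  have hsQ : s ∈ (Q : Subgroup _) := hQ (Subgroup.subset_closure (by simp))
  rw [← hg, Sylow.coe_subgroup_smul, Subgroup.mem_pointwise_smul_iff_inv_smul_mem] at hrQ hsQ
  have hc := hP.is_comm.comm ⟨_, hrQ⟩ ⟨_, hsQ⟩
  have hc1 := congrArg Subtype.val hc
  simp only [Subgroup.coe_mul, MulAut.smul_def, MulAut.conj_inv_apply] at hc1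
  have hc2 : r * s = s * r := by
    have e1 : r * s = g * (g⁻¹ * r * g * (g⁻¹ * s * g)) * g⁻¹ := by group
    have e2 : s * r = g * (g⁻¹ * s * g * (g⁻¹ * r * g)) * g⁻¹ := by group
    rw [e1, e2, hc1]
  apply hne
  apply hinj
  rw [map_mul, map_mul]
  exact congrArg Subtype.val hc2

/-- The odd case. -/
theorem odd_case {n : ℕ} (hn : 5 ≤ n) {p : ℕ} [Fact p.Prime] (hp2 : p ≠ 2)
    (P : Sylow p (alternatingGroup (Fin n))) (hP : IsMulCommutative (P : Subgroup (alternatingGroup (Fin n)))) :
    2 ∣ ((Subgroup.centralizer ((P : Subgroup (alternatingGroup (Fin n))) : Set (alternatingGroup (Fin n)))).subgroupOf (Subgroup.normalizer ((P : Subgroup (alternatingGroup (Fin n))) : Set (alternatingGroup (Fin n))))).index ∨ IsCyclic (P : Subgroup (alternatingGroup (Fin n))) := by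
  have hpp : p.Prime := Fact.out
  have hp3 : 3 ≤ p := by
    have := hpp.two_le
    omega
  by_cases hcyc : IsCyclic (P : Subgroup (alternatingGroup (Fin n)))
  · exact Or.inr hcyc
  left
  obtain ⟨k, hk⟩ := IsPGroup.iff_card.mp P.isPGroup'
  have hk0 : k ≠ 0 := by
    rintro rfl
    apply hcyc
    rw [pow_zero] at hk
    have : Subsingleton (P : Subgroup (alternatingGroup (Fin n))) := (Nat.card_eq_one_iff_unique.mp hk).1
    infer_instance
  have hdvd : p ∣ Nat.card (P : Subgroup (alternatingGroup (Fin n))) := by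
    rw [hk]
    exact dvd_pow_self p hk0
  obtain ⟨x, hx⟩ := exists_prime_orderOf_dvd_card' p hdvd
  set X : alternatingGroup (Fin n) := (x : alternatingGroup (Fin n)) with hX
  set Y : Perm (Fin n) := (X : Perm (Fin n)) with hY
  have hordY : orderOf Y = p := by
    rw [hY, Subgroup.orderOf_coe, hX, Subgroup.orderOf_coe, hx]
  obtain ⟨m, hm⟩ := cycleType_prime_order (σ := Y) (by rw [hordY]; exact hpp)
  rw [hordY] at hm
  -- an even permutation inverting `Y`
  have hconj : IsConj Y Y⁻¹ := by
    rw [isConj_iff_cycleType_eq, cycleType_inv]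
  obtain ⟨τ₀, hτ₀⟩ := isConj_iff.mp hconj
  have hev : ∃ τ : Perm (Fin n), sign τ = 1 ∧ τ * Y * τ⁻¹ = Y⁻¹ := by
    by_cases hs : sign τ₀ = 1
    · exact ⟨τ₀, hs, hτ₀⟩
    · by_cases hcen : Subgroup.centralizer {Y} ≤ alternatingGroup (Fin n)
      · exfalso
        obtain ⟨-, h2, h3⟩ := centralizer_le_alternating_iff.mp hcen
        have hm0 : m = 0 := by
          have := h3 p
          rw [hm, Multiset.count_replicate_self] at this
          omega
        rw [hm, hm0] at h2
        simp only [Fintype.card_fin, Multiset.sum_replicate] at h2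
        have hle : n ≤ p + 1 := by simpa using h2
        apply hcyc
        have h4 : Nat.card (P : Subgroup (alternatingGroup (Fin n))) ∣ (p + 1).factorial := by
          have h5 := Subgroup.card_subgroup_dvd_card (P : Subgroup (alternatingGroup (Fin n)))
          have h6 : Nat.card (alternatingGroup (Fin n)) ∣ n.factorial := by
            have := Subgroup.card_subgroup_dvd_card (alternatingGroup (Fin n))
            rwa [Nat.card_perm, Nat.card_fin] at this
          exact (h5.trans h6).trans (Nat.factorial_dvd_factorial hle)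
        have hk1 : k = 1 := by
          by_contra hk1
          have h2k : 2 ≤ k := by omega
          rw [hk] at h4
          have h7 : p ^ 2 ∣ (p + 1).factorial := (pow_dvd_pow p h2k).trans h4
          have e : (p + 1).factorial = p * ((p + 1) * (p - 1).factorial) := by
            obtain ⟨q, rfl⟩ : ∃ q, p = q + 1 := ⟨p - 1, by omega⟩
            simp only [Nat.add_sub_cancel, Nat.factorial_succ]
            ring
          rw [e, pow_two] at h7
          have h8 := Nat.dvd_of_mul_dvd_mul_left hpp.pos h7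
          rcases (Nat.Prime.dvd_mul hpp).mp h8 with h9 | h9
          · have : p ∣ 1 := (Nat.dvd_add_right (dvd_refl p)).mp h9
            exact hpp.one_lt.ne' (Nat.dvd_one.mp this)
          · have := (hpp.dvd_factorial).mp h9
            omega
        rw [hk1, pow_one] at hk
        exact isCyclic_of_prime_card hk
      · rw [SetLike.not_le_iff_exists] at hcen
        obtain ⟨σ, hσ1, hσ2⟩ := hcen
        have hσs : sign σ = -1 := by
          rw [mem_alternatingGroup] at hσ2
          rcases Int.units_eq_one_or (sign σ) with h | h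
          · exact absurd h hσ2
          · exact h
        have hτs : sign τ₀ = -1 := by
          rcases Int.units_eq_one_or (sign τ₀) with h | h
          · exact absurd h hs
          · exact h
        refine ⟨τ₀ * σ, by rw [map_mul, hσs, hτs]; rfl, ?_⟩
        have hcomm : σ * Y = Y * σ := by
          have := Subgroup.mem_centralizer_iff.mp hσ1 Y (by simp)
          exact this.symm
        calc τ₀ * σ * Y * (τ₀ * σ)⁻¹ = τ₀ * (σ * Y) * σ⁻¹ * τ₀⁻¹ := by group
          _ = τ₀ * Y * τ₀⁻¹ := by rw [hcomm]; group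
          _ = Y⁻¹ := hτ₀
  obtain ⟨τ, hτs, hτ⟩ := hev
  let g : alternatingGroup (Fin n) := ⟨τ⁻¹, by rw [mem_alternatingGroup, map_inv, hτs, inv_one]⟩
  have hgx : g⁻¹ * X * g = X⁻¹ := by
    apply Subtype.ext
    show τ⁻¹⁻¹ * Y * τ⁻¹ = Y⁻¹
    rw [inv_inv, hτ]
  have hXP : X ∈ (P : Subgroup (alternatingGroup (Fin n))) := x.2
  haveI : IsMulCommutative P := hP
  obtain ⟨ν, hν, hν2⟩ := P.conj_eq_normalizer_conj_of_mem X g hXP (by
    rw [hgx]
    exact Subgroup.inv_mem _ hXP)
  refine two_dvd_index (P : Subgroup (alternatingGroup (Fin n))) X ν hXP hν ?_ ?_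
  · rw [← hν2, hgx]
  · intro h
    have h2 : orderOf X ∣ 2 := by
      apply orderOf_dvd_of_pow_eq_one
      rw [pow_two, h]
    rw [hX, Subgroup.orderOf_coe, hx] at h2
    exact hp2 ((Nat.prime_dvd_prime_iff_eq hpp Nat.prime_two).mp h2)

section Five

/-- The four-group in `A₅`. -/
def LL : Finset (Perm (Fin 5)) := {1, swap 0 1 * swap 2 3, swap 0 2 * swap 1 3, swap 0 3 * swap 1 2}

set_option maxRecDepth 100000 in
lemma LL_mul : ∀ a ∈ LL, ∀ b ∈ LL, a * b ∈ LL := by decide

set_option maxRecDepth 100000 in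
lemma LL_one : (1 : Perm (Fin 5)) ∈ LL := by decide

set_option maxRecDepth 100000 in
lemma LL_inv : ∀ a ∈ LL, a⁻¹ ∈ LL := by decide

set_option maxRecDepth 100000 in
lemma LL_sign : ∀ a ∈ LL, sign a = 1 := by decide

def V₀ : Subgroup (alternatingGroup (Fin 5)) where
  carrier := {x | x.1 ∈ LL}
  mul_mem' := fun {a b} ha hb => LL_mul _ ha _ hb
  one_mem' := LL_one
  inv_mem' := fun {a} ha => LL_inv _ ha

instance : DecidablePred (· ∈ V₀) := fun x => inferInstanceAs (Decidable (x.1 ∈ LL))

set_option maxRecDepth 1000000 in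
set_option maxHeartbeats 0 in
lemma V₀_card : Nat.card V₀ = 4 := by
  rw [Nat.card_eq_fintype_card]
  decide

set_option maxRecDepth 1000000 in
set_option maxHeartbeats 0 in
lemma stab_fwd : ∀ y : Perm (Fin 5), sign y = 1 → y 4 = 4 → ∀ h ∈ LL, y * h * y⁻¹ ∈ LL := by decide

set_option maxRecDepth 1000000 in
set_option maxHeartbeats 0 in
lemma stab_bwd : ∀ y : Perm (Fin 5), sign y = 1 → (∀ h ∈ LL, y * h * y⁻¹ ∈ LL) → y 4 = 4 := by decide

set_option maxRecDepth 1000000 in
set_option maxHeartbeats 0 in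
lemma stab_card : Fintype.card {x : alternatingGroup (Fin 5) // x.1 4 = 4} = 12 := by decide

lemma mem_N (y : alternatingGroup (Fin 5)) : y ∈ Subgroup.normalizer (V₀ : Set (alternatingGroup (Fin 5))) ↔ y.1 4 = 4 := by
  rw [Subgroup.mem_normalizer_iff]
  constructor
  · intro h
    apply stab_bwd y.1 y.2
    intro a ha
    have hs : a ∈ alternatingGroup (Fin 5) := LL_sign a ha
    exact (h ⟨a, hs⟩).mp ha
  · intro h x
    constructor
    · intro hx
      exact stab_fwd y.1 y.2 h _ hx
    · intro hx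
      have h4 : (y⁻¹ : alternatingGroup (Fin 5)).1 4 = 4 := by
        show (y.1)⁻¹ 4 = 4
        rw [Equiv.Perm.inv_eq_iff_eq]
        exact h.symm
      have := stab_fwd (y⁻¹).1 (y⁻¹).2 h4 _ hx
      have e : (y⁻¹ : alternatingGroup (Fin 5)).1 * (y * x * y⁻¹).1 * ((y⁻¹ : alternatingGroup (Fin 5)).1)⁻¹ = x.1 := by
        show (y⁻¹ * (y * x * y⁻¹) * y⁻¹⁻¹ : alternatingGroup (Fin 5)).1 = x.1
        congr 1
        group
      rw [e] at this
      exact this

lemma N_card : Nat.card (Subgroup.normalizer (V₀ : Set (alternatingGroup (Fin 5)))) = 12 := by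
  rw [← stab_card, ← Nat.card_eq_fintype_card]
  exact Nat.card_congr (Equiv.subtypeEquivRight mem_N)

lemma card_A5 : Nat.card (alternatingGroup (Fin 5)) = 60 := by
  rw [Nat.card_eq_fintype_card]
  have := two_mul_card_alternatingGroup (α := Fin 5)
  rw [Fintype.card_perm, Fintype.card_fin] at this
  have h : (5 : ℕ).factorial = 120 := rfl
  omega

lemma fact_60 : (60 : ℕ).factorization 2 = 2 := by
  have : (60 : ℕ) = 2 ^ 2 * 15 := by norm_num
  rw [this, Nat.factorization_mul (by norm_num) (by norm_num), Nat.Prime.factorization_pow Nat.prime_two]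
  simp
  apply Nat.factorization_eq_zero_of_not_dvd
  norm_num

theorem five_case (P : Sylow 2 (alternatingGroup (Fin 5))) :
    ((Subgroup.centralizer ((P : Subgroup (alternatingGroup (Fin 5))) : Set (alternatingGroup (Fin 5)))).subgroupOf (Subgroup.normalizer ((P : Subgroup (alternatingGroup (Fin 5))) : Set (alternatingGroup (Fin 5))))).index = 3 ∧ IsKleinFour (P : Subgroup (alternatingGroup (Fin 5))) := by
  have hcard : ∀ Q : Sylow 2 (alternatingGroup (Fin 5)), Nat.card (Q : Subgroup (alternatingGroup (Fin 5))) = 4 := by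
    intro Q
    rw [Q.card_eq_multiplicity, card_A5, fact_60]
    norm_num
  have h4 := hcard P
  have hsq : ∀ x ∈ (P : Subgroup (alternatingGroup (Fin 5))), x * x = 1 := by
    intro x hx
    have hd : orderOf (⟨x, hx⟩ : (P : Subgroup (alternatingGroup (Fin 5)))) ∣ 4 := by
      rw [← h4]
      exact orderOf_dvd_natCard _
    rw [Subgroup.orderOf_mk] at hd
    have h2 : orderOf x = 1 ∨ orderOf x = 2 := by
      rcases Cfsg.Agent.Lib.Spec.A5_order x with h | h | h | h
      · exact Or.inl h
      · exact Or.inr h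
      · rw [h] at hd; exact absurd hd (by norm_num)
      · rw [h] at hd; exact absurd hd (by norm_num)
    rw [← pow_two]
    rcases h2 with h | h
    · rw [orderOf_eq_one_iff] at h
      rw [h, one_pow]
    · rw [← h]
      exact pow_orderOf_eq_one x
  have hnt : Nontrivial (P : Subgroup (alternatingGroup (Fin 5))) := by
    rw [← Finite.one_lt_card_iff_nontrivial, h4]
    norm_num
  have hKl : IsKleinFour (P : Subgroup (alternatingGroup (Fin 5))) := by
    refine ⟨h4, ?_⟩
    have h1 : Monoid.exponent (P : Subgroup (alternatingGroup (Fin 5))) ∣ 2 := by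
      apply Monoid.exponent_dvd_of_forall_pow_eq_one
      rintro ⟨x, hx⟩
      apply Subtype.ext
      show x ^ 2 = 1
      rw [pow_two]
      exact hsq x hx
    rcases (Nat.dvd_prime Nat.prime_two).mp h1 with h2 | h2
    · rw [Monoid.exp_eq_one_iff] at h2
      exact absurd hnt (not_nontrivial_iff_subsingleton.mpr h2)
    · exact h2
  refine ⟨?_, hKl⟩
  -- the centralizer
  obtain ⟨⟨i, hi⟩, hi1⟩ := exists_ne (1 : (P : Subgroup (alternatingGroup (Fin 5))))
  have hi1' : i ≠ 1 := fun h => hi1 (Subtype.ext h)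
  have hiord : orderOf i = 2 := orderOf_eq_prime (by rw [pow_two]; exact hsq i hi) hi1'
  have hC : Subgroup.centralizer ((P : Subgroup (alternatingGroup (Fin 5))) : Set (alternatingGroup (Fin 5))) = (P : Subgroup (alternatingGroup (Fin 5))) := by
    have hp2 : IsPGroup 2 (Subgroup.centralizer ((P : Subgroup (alternatingGroup (Fin 5))) : Set (alternatingGroup (Fin 5)))) := by
      rintro ⟨c, hc⟩
      have hcom : Commute i c := (Subgroup.mem_centralizer_iff.mp hc i hi)
      have h2 : orderOf c = 1 ∨ orderOf c = 2 := by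
        rcases Cfsg.Agent.Lib.Spec.A5_order c with h | h | h | h
        · exact Or.inl h
        · exact Or.inr h
        · exfalso
          have h6 := hcom.orderOf_mul_eq_mul_orderOf_of_coprime (by rw [hiord, h]; norm_num)
          rw [hiord, h] at h6
          rcases Cfsg.Agent.Lib.Spec.A5_order (i * c) with h' | h' | h' | h' <;> omega
        · exfalso
          have h6 := hcom.orderOf_mul_eq_mul_orderOf_of_coprime (by rw [hiord, h]; norm_num)
          rw [hiord, h] at h6
          rcases Cfsg.Agent.Lib.Spec.A5_order (i * c) with h' | h' | h' | h' <;> omega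
      refine ⟨1, ?_⟩
      apply Subtype.ext
      show c ^ (2 ^ 1) = 1
      rw [pow_one]
      rcases h2 with h | h
      · rw [orderOf_eq_one_iff] at h
        rw [h, one_pow]
      · rw [← h]
        exact pow_orderOf_eq_one c
    apply P.is_maximal' hp2
    intro x hx
    rw [Subgroup.mem_centralizer_iff]
    intro y hy
    have := hKl
    have hcomm := IsKleinFour.isMulCommutative (G := (P : Subgroup (alternatingGroup (Fin 5))))
    have h7 := hcomm.is_comm.comm ⟨y, hy⟩ ⟨x, hx⟩
    exact congrArg Subtype.val h7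
  rw [hC]
  -- the normalizer
  let V : Sylow 2 (alternatingGroup (Fin 5)) := Sylow.ofCard V₀ (by rw [V₀_card, card_A5, fact_60]; norm_num)
  have e1 : Nat.card (Sylow 2 (alternatingGroup (Fin 5))) = (Subgroup.normalizer ((P : Subgroup (alternatingGroup (Fin 5))) : Set (alternatingGroup (Fin 5)))).index := Sylow.card_eq_index_normalizer P
  have e2 : Nat.card (Sylow 2 (alternatingGroup (Fin 5))) = (Subgroup.normalizer (V₀ : Set (alternatingGroup (Fin 5)))).index := Sylow.card_eq_index_normalizer V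
  have e3 := Subgroup.card_mul_index (Subgroup.normalizer ((P : Subgroup (alternatingGroup (Fin 5))) : Set (alternatingGroup (Fin 5))))
  have e4 := Subgroup.card_mul_index (Subgroup.normalizer (V₀ : Set (alternatingGroup (Fin 5))))
  rw [N_card, card_A5, ← e2] at e4
  rw [card_A5, ← e1] at e3
  have e6 : Nat.card (Subgroup.normalizer ((P : Subgroup (alternatingGroup (Fin 5))) : Set (alternatingGroup (Fin 5)))) = 12 := by
    have h0 : 0 < Nat.card (Sylow 2 (alternatingGroup (Fin 5))) := Nat.card_pos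
    have : Nat.card (Subgroup.normalizer ((P : Subgroup (alternatingGroup (Fin 5))) : Set (alternatingGroup (Fin 5)))) * Nat.card (Sylow 2 (alternatingGroup (Fin 5))) = 12 * Nat.card (Sylow 2 (alternatingGroup (Fin 5))) := by
      rw [e3, e4]
    exact Nat.eq_of_mul_eq_mul_right h0 this
  have e8 := Subgroup.card_mul_index (((P : Subgroup (alternatingGroup (Fin 5)))).subgroupOf (Subgroup.normalizer ((P : Subgroup (alternatingGroup (Fin 5))) : Set (alternatingGroup (Fin 5)))))
  rw [e6, Nat.card_congr (Subgroup.subgroupOfEquivOfLe Subgroup.le_normalizer).toEquiv, h4] at e8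
  omega

end Five

theorem main (n : ℕ) (hn : 5 ≤ n) {p : ℕ} [Fact p.Prime]
    (P : Sylow p (alternatingGroup (Fin n))) (hP : IsMulCommutative (P : Subgroup (alternatingGroup (Fin n)))) :
    (¬ (n = 5 ∧ p = 2) → 2 ∣ ((Subgroup.centralizer ((P : Subgroup (alternatingGroup (Fin n))) : Set (alternatingGroup (Fin n)))).subgroupOf (Subgroup.normalizer ((P : Subgroup (alternatingGroup (Fin n))) : Set (alternatingGroup (Fin n))))).index ∨ IsCyclic (P : Subgroup (alternatingGroup (Fin n)))) ∧
    ((n = 5 ∧ p = 2) → ((Subgroup.centralizer ((P : Subgroup (alternatingGroup (Fin n))) : Set (alternatingGroup (Fin n)))).subgroupOf (Subgroup.normalizer ((P : Subgroup (alternatingGroup (Fin n))) : Set (alternatingGroup (Fin n))))).index = 3 ∧ IsKleinFour (P : Subgroup (alternatingGroup (Fin n)))) := by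
  constructor
  · intro h
    by_cases hp2 : p = 2
    · subst hp2
      have h6 : 6 ≤ n := by
        by_contra hlt
        apply h
        exact ⟨by omega, rfl⟩
      exact (sylow_two_not_comm h6 P hP).elim
    · exact odd_case hn hp2 P hP
  · rintro ⟨rfl, rfl⟩
    exact five_case P

end Cfsg.Agent.Lib.KS2.AltSyl
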