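import Mathlib

/-!
A fixed-point inequality for irreducible sections of `p`-groups, `p` odd.
-/

set_option autoImplicit false
set_option linter.unusedSimpArgs false
set_option linter.unusedVariables false
set_option linter.deprecated false

namespace Cfsg.Agent.Lib.KS2.BaerP

section Key

variable {V A : Type*} [AddCommGroup V] [Finite V] [Group A] [Finite A]

/-- The fixed points of an additive automorphism. -/
def Fx (g : V ≃+ V) : AddSubgroup V where
  carrier := {x | g x = x}
  add_mem' := by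
    intro a b ha hb
    simp only [Set.mem_setOf_eq] at *
    rw [map_add, ha, hb]
  zero_mem' := by simp
  neg_mem' := by
    intro a ha
    simp only [Set.mem_setOf_eq] at *
    rw [map_neg, ha]

lemma mem_Fx {g : V ≃+ V} {x : V} : x ∈ Fx g ↔ g x = x := Iff.rfl

def IsAdd (g : Equiv.Perm V) : Prop := ∀ x y, g (x + y) = g x + g y

lemma IsAdd.one : IsAdd (1 : Equiv.Perm V) := fun _ _ => rfl

lemma IsAdd.mul {g h : Equiv.Perm V} (hg : IsAdd g) (hh : IsAdd h) : IsAdd (g * h) := by
  intro x y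
  simp only [Equiv.Perm.mul_apply]
  rw [hh, hg]

lemma IsAdd.inv {g : Equiv.Perm V} (hg : IsAdd g) : IsAdd g⁻¹ := by
  intro x y
  apply g.injective
  rw [hg]
  simp

def lft (g : Equiv.Perm V) (hg : IsAdd g) : V ≃+ V := { g with map_add' := hg }

@[simp] lemma lft_apply (g : Equiv.Perm V) (hg : IsAdd g) (x : V) : lft g hg x = g x := rfl

variable (φ : A →* Equiv.Perm V)

lemma Fx_eq_bot (hirr : ∀ W : AddSubgroup V, (∀ a, ∀ x ∈ W, φ a x ∈ W) → W = ⊥ ∨ W = ⊤)
    {g : V ≃+ V} (hg : ∃ x, g x ≠ x) (hc : ∀ a x, φ a (g x) = g (φ a x)) : Fx g = ⊥ := by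
  rcases hirr (Fx g) (by
    intro a x hx
    rw [mem_Fx] at hx ⊢
    rw [← hc, hx]) with h | h
  · exact h
  · exfalso
    obtain ⟨x, hx⟩ := hg
    have : x ∈ Fx g := by rw [h]; trivial
    exact hx this

omit [Group A] [Finite A] in
lemma cube_bound {X Y Z : V ≃+ V} (hYX : ∀ w, Y (X w) = Z (X (Y w))) (hZXa : ∀ w, Z (X w) = X (Z w))
    (hZYa : ∀ w, Z (Y w) = Y (Z w))
    (hF1 : Fx Z = ⊥) (hF2 : ∀ w : V, Z (Z w) = w → w = 0) : Nat.card (Fx Y) ^ 3 ≤ Nat.card V := by
  have hz : ∀ w : V, Z w = w → w = 0 := by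
    intro w hw
    have : w ∈ Fx Z := hw
    rw [hF1] at this
    simpa using this
  have key : ∀ w0 w1 w2 : V, Y w0 = w0 → Y w1 = w1 → Y w2 = w2 → w0 + X w1 + X (X w2) = 0 →
      w0 = 0 ∧ w1 = 0 ∧ w2 = 0 := by
    intro w0 w1 w2 h0 h1' h2 hE
    set a : V := X w1 with ha
    set b : V := X (X w2) with hb
    have Ya : Y a = Z a := by rw [ha, hYX, h1']
    have Yb : Y b = Z (Z b) := by
      rw [hb, hYX, hYX, h2, ← hZXa]
    have E1 : w0 + Z a + Z (Z b) = 0 := by
      have := congrArg Y hE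
      rw [map_add, map_add, h0, Ya, Yb, map_zero] at this
      exact this
    have E2 : (Z a - a) + (Z (Z b) - b) = 0 := by
      have : (Z a - a) + (Z (Z b) - b) = (w0 + Z a + Z (Z b)) - (w0 + a + b) := by abel
      rw [this, E1, hE, sub_zero]
    have E3 : (Z (Z a) - Z a) + (Z (Z (Z (Z b))) - Z (Z b)) = 0 := by
      have := congrArg Y E2
      rw [map_add, map_sub, map_sub, ← hZYa, ← hZYa, ← hZYa, Ya, Yb, map_zero] at this
      simpa using this
    have E4 : (Z (Z a) - Z a) + (Z (Z (Z b)) - Z b) = 0 := by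
      have := congrArg Z E2
      rw [map_add, map_sub, map_sub, map_zero] at this
      exact this
    have E5 : Z ((Z (Z (Z b)) - Z b) - (Z (Z b) - b)) = 0 := by
      have e : Z ((Z (Z (Z b)) - Z b) - (Z (Z b) - b)) = ((Z (Z a) - Z a) + (Z (Z (Z (Z b))) - Z (Z b))) - ((Z (Z a) - Z a) + (Z (Z (Z b)) - Z b)) := by
        simp only [map_sub]
        abel
      rw [e, E3, E4, sub_zero]
    have E6 : Z (Z (Z b) - b) = Z (Z b) - b := by
      have h2' : (Z (Z (Z b)) - Z b) - (Z (Z b) - b) = 0 := by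
        apply Z.injective
        rw [E5, map_zero]
      rw [sub_eq_zero] at h2'
      simpa [map_sub] using h2'
    have hb0 : b = 0 := hF2 b (sub_eq_zero.mp (hz _ E6))
    have ha0 : a = 0 := by
      apply hz
      rw [hb0, map_zero, map_zero, sub_zero, add_zero] at E2
      exact sub_eq_zero.mp E2
    refine ⟨?_, ?_, ?_⟩
    · rw [ha0, hb0, add_zero, add_zero] at hE
      exact hE
    · exact X.injective (by rw [← ha, ha0, map_zero])
    · exact X.injective (X.injective (by rw [← hb, hb0, map_zero, map_zero]))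
  classical
  let f : Fx Y × Fx Y × Fx Y → V := fun u => (u.1 : V) + X (u.2.1 : V) + X (X (u.2.2 : V))
  have hf : Function.Injective f := by
    rintro ⟨⟨u0, hu0⟩, ⟨u1, hu1⟩, ⟨u2, hu2⟩⟩ ⟨⟨v0, hv0⟩, ⟨v1, hv1⟩, ⟨v2, hv2⟩⟩ e
    have e0 : (u0 - v0) + X (u1 - v1) + X (X (u2 - v2)) = 0 := by
      simp only [f] at e
      simp only [map_sub]
      have : (u0 - v0) + (X u1 - X v1) + (X (X u2) - X (X v2)) = (u0 + X u1 + X (X u2)) - (v0 + X v1 + X (X v2)) := by abel
      rw [this, e, sub_self]
    have hh := key (u0 - v0) (u1 - v1) (u2 - v2)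
      (by rw [map_sub, mem_Fx.mp hu0, mem_Fx.mp hv0])
      (by rw [map_sub, mem_Fx.mp hu1, mem_Fx.mp hv1])
      (by rw [map_sub, mem_Fx.mp hu2, mem_Fx.mp hv2]) e0
    obtain ⟨h0, h1', h2⟩ := hh
    simp only [Prod.mk.injEq, Subtype.mk.injEq]
    exact ⟨sub_eq_zero.mp h0, sub_eq_zero.mp h1', sub_eq_zero.mp h2⟩
  have := Nat.card_le_card_of_injective f hf
  rw [Nat.card_prod, Nat.card_prod] at this
  calc Nat.card (Fx Y) ^ 3 = Nat.card (Fx Y) * (Nat.card (Fx Y) * Nat.card (Fx Y)) := by ring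
    _ ≤ _ := this

theorem exists_not_sum {p : ℕ} [Fact p.Prime] (hp : p ≠ 2) (hA : IsPGroup p A)
    (hadd : ∀ a, IsAdd (φ a))
    (hirr : ∀ W : AddSubgroup V, (∀ a, ∀ x ∈ W, φ a x ∈ W) → W = ⊥ ∨ W = ⊤)
    (hnt : φ ≠ 1) (C D : Set A) (hC : Subgroup.closure C = ⊤) (hD : Subgroup.closure D = ⊤) :
    ∃ c ∈ C, ∃ d ∈ D, ∃ v : V, ∀ s t : V, φ c s = s → φ d t = t → v ≠ s + t := by
  have hgen : ∀ {E : Set A} (S : Subgroup A), Subgroup.closure E = ⊤ → S ≠ ⊤ → ∃ e ∈ E, e ∉ S := by
    intro E S hE hS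
    by_contra hcon
    push Not at hcon
    apply hS
    rw [eq_top_iff, ← hE, Subgroup.closure_le]
    exact fun e he => hcon e he
  have hker : φ.ker ≠ ⊤ := by
    intro h
    apply hnt
    ext a x
    have : a ∈ φ.ker := by rw [h]; trivial
    rw [MonoidHom.mem_ker] at this
    simp [this]
  obtain ⟨a0, x0, hx0⟩ : ∃ a x, φ a x ≠ x := by
    by_contra hcon
    push Not at hcon
    apply hnt
    ext a x
    simpa using hcon a x
  have hx00 : x0 ≠ 0 := by
    rintro rfl
    apply hx0
    have := hadd a0 0 0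
    simpa using this
  have hne_of : ∀ {g : Equiv.Perm V}, g ≠ 1 → ∃ x, g x ≠ x := by
    intro g hg
    by_contra hcon
    push Not at hcon
    apply hg
    ext x
    simpa using hcon x
  by_cases hab : ∀ a b, φ a * φ b = φ b * φ a
  · obtain ⟨c, hcC, hc⟩ := hgen φ.ker hC hker
    obtain ⟨d, hdD, hd⟩ := hgen φ.ker hD hker
    rw [MonoidHom.mem_ker] at hc hd
    have h1 := Fx_eq_bot φ hirr (g := lft (φ c) (hadd c)) (hne_of hc) (fun a x => by
      have := DFunLike.congr_fun (hab a c) x
      simpa using this)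
    have h2 := Fx_eq_bot φ hirr (g := lft (φ d) (hadd d)) (hne_of hd) (fun a x => by
      have := DFunLike.congr_fun (hab a d) x
      simpa using this)
    refine ⟨c, hcC, d, hdD, x0, ?_⟩
    intro s t hs ht e
    have hs0 : s ∈ Fx (lft (φ c) (hadd c)) := hs
    have ht0 : t ∈ Fx (lft (φ d) (hadd d)) := ht
    rw [h1] at hs0
    rw [h2] at ht0
    have hs' : s = 0 := by simpa using hs0
    have ht' : t = 0 := by simpa using ht0
    rw [hs', ht', add_zero] at e
    exact hx00 e
  · push Not at hab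
    -- a non-central element of the second centre
    set R : Subgroup (Equiv.Perm V) := φ.range with hR
    have hRp : IsPGroup p R := hA.of_surjective φ.rangeRestrict φ.rangeRestrict_surjective
    have hcen : Subgroup.center R ≠ ⊤ := by
      obtain ⟨a, b, hne⟩ := hab
      intro h
      apply hne
      have h1 : (⟨φ a, a, rfl⟩ : R) ∈ Subgroup.center R := by rw [h]; trivial
      have := (Subgroup.mem_center_iff.mp h1) ⟨φ b, b, rfl⟩
      have e := congrArg Subtype.val this
      exact e.symm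
    haveI hQnt : Nontrivial (R ⧸ Subgroup.center R) := by
      rw [QuotientGroup.nontrivial_iff]
      exact hcen
    have hQp : IsPGroup p (R ⧸ Subgroup.center R) := hRp.to_quotient _
    haveI := hQp.center_nontrivial
    obtain ⟨yb, hyb⟩ := exists_ne (1 : Subgroup.center (R ⧸ Subgroup.center R))
    obtain ⟨y, hy⟩ := QuotientGroup.mk'_surjective (Subgroup.center R) (yb : R ⧸ Subgroup.center R)
    have hy2 : ∀ g : R, g * y * g⁻¹ * y⁻¹ ∈ Subgroup.center R := by
      intro g
      rw [← QuotientGroup.eq_one_iff]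
      have hc := Subgroup.mem_center_iff.mp yb.2 (g : R ⧸ Subgroup.center R)
      have e : ((g * y * g⁻¹ * y⁻¹ : R) : R ⧸ Subgroup.center R) = (g : R ⧸ Subgroup.center R) * (yb : R ⧸ Subgroup.center R) * (g : R ⧸ Subgroup.center R)⁻¹ * (yb : R ⧸ Subgroup.center R)⁻¹ := by
        rw [← hy]
        rfl
      rw [e, hc]
      group
    have hy3 : y ∉ Subgroup.center R := by
      intro h
      apply hyb
      apply Subtype.ext
      rw [← hy]
      show ((y : R) : R ⧸ Subgroup.center R) = 1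
      rw [QuotientGroup.eq_one_iff]
      exact h
    obtain ⟨_, x, rfl⟩ := y
    set X : Equiv.Perm V := φ x with hX
    -- the centraliser of `X`
    set S : Subgroup A := Subgroup.comap φ (Subgroup.centralizer {X}) with hS
    have hSne : S ≠ ⊤ := by
      intro h
      apply hy3
      rw [Subgroup.mem_center_iff]
      rintro ⟨_, a, rfl⟩
      have : a ∈ S := by rw [h]; trivial
      rw [hS, Subgroup.mem_comap, Subgroup.mem_centralizer_iff] at this
      apply Subtype.ext
      exact (this X (by simp)).symm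
    obtain ⟨c, hcC, hc⟩ := hgen S hC hSne
    obtain ⟨d, hdD, hd⟩ := hgen S hD hSne
    have hXa : IsAdd X := hadd x
    have bound : ∀ e : A, e ∉ S → Nat.card (Fx (lft (φ e) (hadd e))) ^ 3 ≤ Nat.card V := by
      intro e he
      set Y : Equiv.Perm V := φ e with hY
      have hYa : IsAdd Y := hadd e
      set Z : Equiv.Perm V := Y * X * Y⁻¹ * X⁻¹ with hZ
      have hZa : IsAdd Z := ((hYa.mul hXa).mul hYa.inv).mul hXa.inv
      have hZR : ∀ a, φ a * Z = Z * φ a := by
        intro a
        have h1 := hy2 ⟨φ e, e, rfl⟩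
        have h2 := Subgroup.mem_center_iff.mp h1 ⟨φ a, a, rfl⟩
        have h3 := congrArg Subtype.val h2
        exact h3
      have hZne : Z ≠ 1 := by
        intro h
        apply he
        rw [hS, Subgroup.mem_comap, Subgroup.mem_centralizer_iff]
        intro g hg
        rw [Set.mem_singleton_iff] at hg
        subst hg
        rw [hZ] at h
        have h4 : Y * X = X * Y := by
          have := congrArg (fun t => t * X * Y) h
          simpa [mul_assoc] using this
        exact h4.symm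
      have hZo : ∃ k : ℕ, Z ^ (p ^ k) = 1 := by
        have hZin : Z ∈ R := by
          rw [hZ]
          exact R.mul_mem (R.mul_mem (R.mul_mem ⟨e, rfl⟩ ⟨x, rfl⟩) (R.inv_mem ⟨e, rfl⟩)) (R.inv_mem ⟨x, rfl⟩)
        obtain ⟨k, hk⟩ := hRp ⟨Z, hZin⟩
        refine ⟨k, ?_⟩
        have := congrArg Subtype.val hk
        simpa using this
      have hZ2ne : Z * Z ≠ 1 := by
        intro h
        obtain ⟨k, hk⟩ := hZo
        apply hZne
        have h2 : Z ^ 2 = 1 := by rw [pow_two, h]
        have hcop : Nat.Coprime (p ^ k) 2 := by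
          apply Nat.Coprime.pow_left
          exact (Nat.coprime_primes (Fact.out : p.Prime) Nat.prime_two).mpr hp
        have h₁ := orderOf_dvd_of_pow_eq_one hk
        have h₂ := orderOf_dvd_of_pow_eq_one h2
        exact orderOf_eq_one_iff.mp (Nat.eq_one_of_dvd_coprimes hcop h₁ h₂)
      set Zl : V ≃+ V := lft Z hZa with hZl
      have hF1 : Fx Zl = ⊥ := Fx_eq_bot φ hirr (hne_of hZne) (fun a w => by
        have := DFunLike.congr_fun (hZR a) w
        simpa [hZl] using this)
      have hF2 : Fx (lft (Z * Z) (hZa.mul hZa)) = ⊥ := Fx_eq_bot φ hirr (hne_of hZ2ne) (fun a w => by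
        have h1 := DFunLike.congr_fun (hZR a) (Z w)
        have h2 := DFunLike.congr_fun (hZR a) w
        simp only [Equiv.Perm.mul_apply] at h1 h2
        simp only [lft_apply, Equiv.Perm.mul_apply]
        rw [h1, h2])
      refine cube_bound (X := lft X hXa) (Z := Zl) ?_ ?_ ?_ hF1 ?_
      · intro w
        show Y (X w) = Z (X (Y w))
        simp only [hZ, Equiv.Perm.mul_apply]
        rw [show X⁻¹ (X (Y w)) = Y w from X.symm_apply_apply _, show Y⁻¹ (Y w) = w from Y.symm_apply_apply _]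
      · intro w
        exact (DFunLike.congr_fun (hZR x) w).symm
      · intro w
        exact (DFunLike.congr_fun (hZR e) w).symm
      · intro w hw
        have : w ∈ Fx (lft (Z * Z) (hZa.mul hZa)) := by
          rw [mem_Fx]
          exact hw
        rw [hF2] at this
        simpa using this
    have hcard1 : 1 < Nat.card V := by
      have : Nontrivial V := ⟨⟨x0, 0, hx00⟩⟩
      exact Finite.one_lt_card
    by_contra hcon
    push Not at hcon
    have h1 := hcon c hcC d hdD
    -- `V = Fix(c) + Fix(d)`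
    let f : Fx (lft (φ c) (hadd c)) × Fx (lft (φ d) (hadd d)) → V := fun u => (u.1 : V) + (u.2 : V)
    have hf : Function.Surjective f := by
      intro v
      obtain ⟨s, t, hs, ht, e⟩ := h1 v
      exact ⟨(⟨s, hs⟩, ⟨t, ht⟩), e.symm⟩
    have h2 := Nat.card_le_card_of_surjective f hf
    rw [Nat.card_prod] at h2
    have h3 := bound c hc
    have h4 := bound d hd
    have h5 : Nat.card V ^ 3 ≤ Nat.card V ^ 2 := by
      calc Nat.card V ^ 3 ≤ (Nat.card (Fx (lft (φ c) (hadd c))) * Nat.card (Fx (lft (φ d) (hadd d)))) ^ 3 :=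
            Nat.pow_le_pow_left h2 3
        _ = Nat.card (Fx (lft (φ c) (hadd c))) ^ 3 * Nat.card (Fx (lft (φ d) (hadd d))) ^ 3 := by ring
        _ ≤ Nat.card V * Nat.card V := Nat.mul_le_mul h3 h4
        _ = Nat.card V ^ 2 := by ring
    have h6 := Nat.pow_lt_pow_right hcard1 (show 2 < 3 by norm_num)
    omega

end Key

section Sec

open scoped commutatorElement

variable {A M₀ : Type*} [Group A] [Finite A] [Group M₀] [Finite M₀] [MulDistribMulAction A M₀]

theorem exists_not_mul {p : ℕ} [Fact p.Prime] (hp : p ≠ 2) (hA : IsPGroup p A)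
    (L₀ : Subgroup M₀) (hc : commutator M₀ ≤ L₀) (hinv : ∀ a : A, ∀ x ∈ L₀, a • x ∈ L₀)
    (hmax : ∀ W : Subgroup M₀, L₀ ≤ W → (∀ a : A, ∀ x ∈ W, a • x ∈ W) → W = L₀ ∨ W = ⊤)
    (hact : ¬ ∀ (a : A) (x : M₀), x⁻¹ * (a • x) ∈ L₀)
    (C D : Set A) (hC : Subgroup.closure C = ⊤) (hD : Subgroup.closure D = ⊤) :
    ∃ c ∈ C, ∃ d ∈ D, ∃ x : M₀, ∀ y w : M₀, d • y = y → c • w = w → x ≠ y * w := by
  haveI hL : L₀.Normal := Subgroup.Normal.of_commutator_le (h := hc)
  have hcomm : ∀ a b : M₀ ⧸ L₀, a * b = b * a := by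
    intro a b
    induction a using QuotientGroup.induction_on with
    | H a =>
    induction b using QuotientGroup.induction_on with
    | H b =>
    rw [← QuotientGroup.mk_mul, ← QuotientGroup.mk_mul, QuotientGroup.eq]
    apply hc
    have : (a * b)⁻¹ * (b * a) = ⁅b⁻¹, a⁻¹⁆ := by
      rw [commutatorElement_def]
      group
    rw [this]
    exact Subgroup.commutator_mem_commutator (Subgroup.mem_top _) (Subgroup.mem_top _)
  letI iC : CommGroup (M₀ ⧸ L₀) := { (inferInstance : Group (M₀ ⧸ L₀)) with mul_comm := hcomm }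
  let Q : A → (M₀ ⧸ L₀) →* (M₀ ⧸ L₀) := fun a =>
    QuotientGroup.map L₀ L₀ (MulDistribMulAction.toMonoidHom M₀ a) (fun x hx => hinv a x hx)
  have hQ : ∀ (a : A) (x : M₀), Q a (x : M₀ ⧸ L₀) = ((a • x : M₀) : M₀ ⧸ L₀) := fun a x => rfl
  have hQ1 : ∀ v : M₀ ⧸ L₀, Q 1 v = v := by
    intro v
    induction v using QuotientGroup.induction_on with
    | H x => rw [hQ, one_smul]
  have hQm : ∀ (a b : A) (v : M₀ ⧸ L₀), Q (a * b) v = Q a (Q b v) := by
    intro a b v
    induction v using QuotientGroup.induction_on with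
    | H x => rw [hQ, hQ, hQ, mul_smul]
  letI iF : Finite (Additive (M₀ ⧸ L₀)) := inferInstanceAs (Finite (M₀ ⧸ L₀))
  let φ : A →* Equiv.Perm (Additive (M₀ ⧸ L₀)) :=
    { toFun := fun a =>
        { toFun := fun v => Additive.ofMul (Q a (Additive.toMul v))
          invFun := fun v => Additive.ofMul (Q a⁻¹ (Additive.toMul v))
          left_inv := fun v => by
            simp only [toMul_ofMul]
            rw [← hQm, inv_mul_cancel, hQ1, ofMul_toMul]
          right_inv := fun v => by
            simp only [toMul_ofMul]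
            rw [← hQm, mul_inv_cancel, hQ1, ofMul_toMul] }
      map_one' := by
        ext v
        simp [hQ1]
      map_mul' := fun a b => by
        ext v
        simp [hQm] }
  have hφ : ∀ (a : A) (x : M₀), φ a (Additive.ofMul (x : M₀ ⧸ L₀)) = Additive.ofMul (((a • x : M₀) : M₀ ⧸ L₀)) := fun a x => rfl
  have hrep : ∀ v : Additive (M₀ ⧸ L₀), ∃ x : M₀, v = Additive.ofMul (x : M₀ ⧸ L₀) := by
    intro v
    obtain ⟨x, hx⟩ := QuotientGroup.mk_surjective (Additive.toMul v)
    exact ⟨x, by rw [hx]; rfl⟩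
  have hadd : ∀ a, IsAdd (φ a) := by
    intro a x y
    exact congrArg Additive.ofMul (map_mul (Q a) _ _)
  have hirr : ∀ W : AddSubgroup (Additive (M₀ ⧸ L₀)), (∀ a, ∀ x ∈ W, φ a x ∈ W) → W = ⊥ ∨ W = ⊤ := by
    intro W hW
    let W' : Subgroup M₀ :=
      { carrier := {x | Additive.ofMul (x : M₀ ⧸ L₀) ∈ W}
        mul_mem' := by
          intro a b ha hb
          have := W.add_mem ha hb
          exact this
        one_mem' := W.zero_mem
        inv_mem' := by
          intro a ha
          have := W.neg_mem ha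
          exact this }
    have hW'mem : ∀ x, x ∈ W' ↔ Additive.ofMul (x : M₀ ⧸ L₀) ∈ W := fun x => Iff.rfl
    rcases hmax W' (by
      intro x hx
      rw [hW'mem]
      have : ((x : M₀ ⧸ L₀)) = 1 := (QuotientGroup.eq_one_iff x).mpr hx
      rw [this]
      exact W.zero_mem) (by
      intro a x hx
      rw [hW'mem] at hx ⊢
      exact hW a _ hx) with h | h
    · left
      rw [eq_bot_iff]
      intro v hv
      obtain ⟨x, rfl⟩ := hrep v
      have hx : x ∈ W' := hv
      rw [h] at hx
      have : ((x : M₀ ⧸ L₀)) = 1 := (QuotientGroup.eq_one_iff x).mpr hx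
      rw [this]
      exact AddSubgroup.zero_mem _
    · right
      rw [eq_top_iff]
      intro v _
      obtain ⟨x, rfl⟩ := hrep v
      have hx : x ∈ W' := by rw [h]; trivial
      exact hx
  have hnt : φ ≠ 1 := by
    intro h
    apply hact
    intro a x
    have h1 : φ a (Additive.ofMul (x : M₀ ⧸ L₀)) = Additive.ofMul (x : M₀ ⧸ L₀) := by
      rw [h]; rfl
    rw [hφ] at h1
    have h2 : ((a • x : M₀) : M₀ ⧸ L₀) = x := Additive.ofMul.injective h1
    exact QuotientGroup.eq.mp h2.symm
  obtain ⟨c, hcC, d, hdD, v, hv⟩ := exists_not_sum φ hp hA hadd hirr hnt C D hC hD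
  obtain ⟨x, rfl⟩ := hrep v
  refine ⟨c, hcC, d, hdD, x, ?_⟩
  intro y w hy hw e
  apply hv (Additive.ofMul (w : M₀ ⧸ L₀)) (Additive.ofMul (y : M₀ ⧸ L₀))
  · rw [hφ, hw]
  · rw [hφ, hy]
  · rw [e, add_comm]
    rfl

end Sec

end Cfsg.Agent.Lib.KS2.BaerP
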