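import Mathlib
import Cfsg.Agent.Lib.KS2.BaerP
import Cfsg.Agent.Lib.Coprime.Action

/-!
A Baer–Suzuki type theorem with normal `p`-complement (`p` odd).
-/

set_option autoImplicit false
set_option linter.unusedSimpArgs false
set_option linter.unusedVariables false
set_option linter.deprecated false

namespace Cfsg.Agent.Lib.KS2.BaerP

open Cfsg.Agent.Lib.Coprime
open scoped Pointwise commutatorElement

variable {G : Type*} [Group G] [Finite G]

/-- A `p`-subgroup of `MP` is conjugate into `P` by an element of `M`. -/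
lemma exists_conj_le {p : ℕ} [Fact p.Prime] (P : Sylow p G) (M : Subgroup G)
    (hinv : ∀ a ∈ (P : Subgroup G), ∀ x ∈ M, a * x * a⁻¹ ∈ M)
    (S : Set G) (hR : IsPGroup p (Subgroup.closure S))
    (hle : ∀ r ∈ S, ∃ m ∈ M, ∃ a ∈ (P : Subgroup G), r = m * a) :
    ∃ y ∈ M, ∀ r ∈ Subgroup.closure S, y⁻¹ * r * y ∈ (P : Subgroup G) := by
  -- the subgroup `MP`
  let T : Subgroup G :=
    { carrier := {g | ∃ m ∈ M, ∃ a ∈ (P : Subgroup G), g = m * a}
      mul_mem' := by
        rintro _ _ ⟨m, hm, a, ha, rfl⟩ ⟨m', hm', a', ha', rfl⟩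
        refine ⟨m * (a * m' * a⁻¹), M.mul_mem hm (hinv a ha m' hm'), a * a', (P : Subgroup G).mul_mem ha ha', by group⟩
      one_mem' := ⟨1, M.one_mem, 1, (P : Subgroup G).one_mem, by simp⟩
      inv_mem' := by
        rintro _ ⟨m, hm, a, ha, rfl⟩
        refine ⟨a⁻¹ * m⁻¹ * a⁻¹⁻¹, hinv _ ((P : Subgroup G).inv_mem ha) _ (M.inv_mem hm), a⁻¹, (P : Subgroup G).inv_mem ha, by group⟩ }
  have hPT : (P : Subgroup G) ≤ T := fun a ha => ⟨1, M.one_mem, a, ha, by simp⟩
  have hRT : Subgroup.closure S ≤ T := by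
    rw [Subgroup.closure_le]
    exact fun r hr => hle r hr
  let P₁ : Sylow p T := P.subtype hPT
  have hR₁ : IsPGroup p ((Subgroup.closure S).subgroupOf T) := hR.comap_subtype
  obtain ⟨Q, hQ⟩ := hR₁.exists_le_sylow
  obtain ⟨g, hg⟩ := MulAction.exists_smul_eq T P₁ Q
  obtain ⟨g, m, hm, a, ha, hgma⟩ := g
  refine ⟨m, hm, ?_⟩
  intro r hr
  have hr₁ : (⟨r, hRT hr⟩ : T) ∈ (Q : Subgroup T) := hQ (by rw [Subgroup.mem_subgroupOf]; exact hr)
  rw [← hg, Sylow.coe_subgroup_smul, Subgroup.mem_pointwise_smul_iff_inv_smul_mem] at hr₁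
  have h1 : (⟨g, ⟨m, hm, a, ha, hgma⟩⟩ : T)⁻¹ * ⟨r, hRT hr⟩ * (⟨g, ⟨m, hm, a, ha, hgma⟩⟩ : T) ∈ (P₁ : Subgroup T) := by
    simpa [MulAut.smul_def, MulAut.conj_inv_apply] using hr₁
  rw [Sylow.coe_subtype, Subgroup.mem_subgroupOf] at h1
  have h2 : g⁻¹ * r * g ∈ (P : Subgroup G) := by
    simpa using h1
  rw [hgma] at h2
  have e : m⁻¹ * r * m = a * ((m * a)⁻¹ * r * (m * a)) * a⁻¹ := by group
  rw [e]
  exact (P : Subgroup G).mul_mem ((P : Subgroup G).mul_mem ha h2) ((P : Subgroup G).inv_mem ha)

theorem centralizes {p : ℕ} [Fact p.Prime] (hp3 : 3 ≤ p) (P : Sylow p G)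
    (N : Subgroup G) [N.Normal] (hN : (Nat.card N).Coprime p)
    (C D : Set G) (hC : Subgroup.closure C = (P : Subgroup G)) (hD : Subgroup.closure D = (P : Subgroup G))
    (h : ∀ x ∈ N, ∀ c ∈ C, ∀ d ∈ D, IsPGroup p ↥(Subgroup.closure ({x * c * x⁻¹, d} : Set G))) :
    ∀ a ∈ (P : Subgroup G), ∀ x ∈ N, a * x * a⁻¹ = x := by
  have hpp : p.Prime := Fact.out
  have hp2 : p ≠ 2 := by omega
  have hPp : IsPGroup p (P : Subgroup G) := P.isPGroup'
  obtain ⟨kP, hkP⟩ := (IsPGroup.iff_card.mp hPp)
  have hsolP : Group.IsSolvable (P : Subgroup G) := by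
    haveI := hPp.isNilpotent
    infer_instance
  have hCP : C ⊆ (P : Subgroup G) := by
    rw [← hC]; exact Subgroup.subset_closure
  have hDP : D ⊆ (P : Subgroup G) := by
    rw [← hD]; exact Subgroup.subset_closure
  have hgenP : ∀ E : Set G, Subgroup.closure E = (P : Subgroup G) →
      Subgroup.closure (Subtype.val ⁻¹' E : Set ↥(P : Subgroup G)) = ⊤ := by
    intro E hE
    have hEP : E ⊆ (P : Subgroup G) := by rw [← hE]; exact Subgroup.subset_closure
    have h1 : (Subgroup.closure (Subtype.val ⁻¹' E : Set ↥(P : Subgroup G))).map (P : Subgroup G).subtype = (P : Subgroup G) := by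
      have e : (P : Subgroup G).subtype '' (Subtype.val ⁻¹' E : Set ↥(P : Subgroup G)) = E := by
        ext x
        constructor
        · rintro ⟨y, hy, rfl⟩
          exact hy
        · intro hx
          exact ⟨⟨x, hEP hx⟩, hx, rfl⟩
      rw [MonoidHom.map_closure, e, hE]
    rw [eq_top_iff]
    intro a _
    have : (a : G) ∈ (Subgroup.closure (Subtype.val ⁻¹' E : Set ↥(P : Subgroup G))).map (P : Subgroup G).subtype := by
      rw [h1]; exact a.2
    obtain ⟨b, hb, e⟩ := this
    have : b = a := Subtype.ext e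
    rwa [← this]
  have main : ∀ m : ℕ, ∀ M : Subgroup G, Nat.card M = m → M ≤ N → (∀ a ∈ (P : Subgroup G), ∀ x ∈ M, a * x * a⁻¹ ∈ M) →
      ∀ a ∈ (P : Subgroup G), ∀ x ∈ M, a * x * a⁻¹ = x := by
    intro m
    induction m using Nat.strong_induction_on with
    | _ m IH =>
    intro M hcard hMN hinv
    by_contra hcon
    letI iM : MulDistribMulAction (P : Subgroup G) M :=
      { smul := fun a x => ⟨(a : G) * (x : G) * (a : G)⁻¹, hinv a a.2 x x.2⟩
        one_smul := fun x => Subtype.ext (by show (1 : G) * (x : G) * (1 : G)⁻¹ = x; simp)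
        mul_smul := fun a b x => Subtype.ext (by
          show ((a : G) * (b : G)) * (x : G) * ((a : G) * (b : G))⁻¹ = (a : G) * ((b : G) * (x : G) * (b : G)⁻¹) * (a : G)⁻¹
          group)
        smul_mul := fun a x y => Subtype.ext (by
          show (a : G) * ((x : G) * (y : G)) * (a : G)⁻¹ = ((a : G) * (x : G) * (a : G)⁻¹) * ((a : G) * (y : G) * (a : G)⁻¹)
          group)
        smul_one := fun a => Subtype.ext (by
          show (a : G) * (1 : G) * (a : G)⁻¹ = 1
          group) }
    have hsmM : ∀ (a : (P : Subgroup G)) (x : M), ((a • x : M) : G) = (a : G) * (x : G) * (a : G)⁻¹ := fun a x => rfl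
    have hcopM : (Nat.card (P : Subgroup G)).Coprime (Nat.card M) := by
      rw [hkP]
      apply Nat.Coprime.pow_left
      exact (Nat.Coprime.coprime_dvd_left (Subgroup.card_dvd_of_le hMN) hN).symm
    -- `M` is a `q`-group
    obtain ⟨q, hq, hqM⟩ : ∃ q : ℕ, q.Prime ∧ IsPGroup q M := by
      by_contra hno
      push Not at hno
      let K : Subgroup M :=
        { carrier := {x | ∀ a : (P : Subgroup G), a • x = x}
          mul_mem' := by
            intro x y hx hy a
            rw [smul_mul', hx a, hy a]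
          one_mem' := fun a => smul_one a
          inv_mem' := by
            intro x hx a
            rw [smul_inv', hx a] }
      have hdvd : Nat.card M ∣ Nat.card K := by
        have hMpos : Nat.card M ≠ 0 := Nat.card_pos.ne'
        have hKpos : Nat.card K ≠ 0 := Nat.card_pos.ne'
        rw [← Nat.factorization_prime_le_iff_dvd hMpos hKpos]
        intro q hq
        haveI : Fact q.Prime := ⟨hq⟩
        obtain ⟨Q, hQ⟩ := exists_fixed_sylow (A := (P : Subgroup G)) (G := M) hcopM (Or.inl hsolP) q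
        have hQinv : ∀ (a : (P : Subgroup G)) (x : M), x ∈ (Q : Subgroup M) → a • x ∈ (Q : Subgroup M) := by
          intro a x hx
          have h1 : a • x ∈ a • (Q : Subgroup M) := Subgroup.smul_mem_pointwise_smul x a _ hx
          have h2 := hQ a
          rw [Sylow.ext_iff] at h2
          rw [Sylow.pointwise_smul_def] at h2
          rwa [h2] at h1
        have hQne : (Q : Subgroup M) ≠ ⊤ := by
          intro htop
          apply hno q hq
          have := Q.isPGroup'
          rw [htop] at this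
          exact this.of_equiv Subgroup.topEquiv
        have hQK : (Q : Subgroup M) ≤ K := by
          intro x hx a
          have hlt : Nat.card ((Q : Subgroup M).map M.subtype) < m := by
            rw [Subgroup.card_map_of_injective M.subtype_injective, ← hcard]
            have hle := Subgroup.card_le_card_group (Q : Subgroup M)
            apply lt_of_le_of_ne hle
            intro he
            exact hQne (Subgroup.eq_top_of_card_eq _ he)
          have := IH _ hlt ((Q : Subgroup M).map M.subtype) rfl (by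
            rintro _ ⟨y, _, rfl⟩
            exact hMN y.2) (by
            rintro b hb _ ⟨y, hy, rfl⟩
            exact ⟨(⟨b, hb⟩ : (P : Subgroup G)) • y, hQinv _ _ hy, rfl⟩) a a.2 x ⟨x, hx, rfl⟩
          apply Subtype.ext
          exact this
        have h1 : Nat.card (Q : Subgroup M) ∣ Nat.card K := Subgroup.card_dvd_of_le hQK
        rw [Q.card_eq_multiplicity] at h1
        exact (hq.pow_dvd_iff_le_factorization hKpos).mp h1
      have hKtop : K = ⊤ := by
        apply Subgroup.eq_top_of_card_eq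
        exact le_antisymm (Subgroup.card_le_card_group K) (Nat.le_of_dvd Nat.card_pos hdvd)
      apply hcon
      intro a ha x hx
      have hmem : (⟨x, hx⟩ : M) ∈ K := by rw [hKtop]; trivial
      have := hmem ⟨a, ha⟩
      exact congrArg Subtype.val this
    -- the commutator subgroup is proper
    haveI : Fact q.Prime := ⟨hq⟩
    haveI hnil : Group.IsNilpotent M := hqM.isNilpotent
    have hMnt : Nontrivial M := by
      by_contra hnt
      rw [not_nontrivial_iff_subsingleton] at hnt
      apply hcon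
      intro a ha x hx
      have : (⟨x, hx⟩ : M) = 1 := Subsingleton.elim _ _
      have hx1 : x = 1 := congrArg Subtype.val this
      rw [hx1]
      group
    have hlt : commutator M < ⊤ := Group.IsSolvable.commutator_lt_top_of_nontrivial M
    -- a maximal invariant subgroup
    have hcinv : ∀ a : (P : Subgroup G), ∀ x ∈ commutator M, a • x ∈ commutator M := by
      intro a x hx
      rw [commutator_eq_closure] at hx
      induction hx using Subgroup.closure_induction with
      | mem x hx =>
        obtain ⟨u, v, rfl⟩ := hx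
        have e : a • ⁅u, v⁆ = ⁅a • u, a • v⁆ := by
          simp only [commutatorElement_def, smul_mul', smul_inv']
        rw [e]
        exact Subgroup.commutator_mem_commutator (Subgroup.mem_top _) (Subgroup.mem_top _)
      | one => rw [smul_one]; exact Subgroup.one_mem _
      | mul x y _ _ hx hy => rw [smul_mul']; exact Subgroup.mul_mem _ hx hy
      | inv x _ hx => rw [smul_inv']; exact Subgroup.inv_mem _ hx
    have hfin : Set.Finite {L : Subgroup M | commutator M ≤ L ∧ L ≠ ⊤ ∧ ∀ a : (P : Subgroup G), ∀ x ∈ L, a • x ∈ L} := Set.toFinite _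
    obtain ⟨L₀, hL₀⟩ := hfin.exists_maximal ⟨commutator M, le_rfl, hlt.ne, hcinv⟩
    obtain ⟨hL₀c, hL₀ne, hL₀inv⟩ := hL₀.prop
    have hL₀max : ∀ W : Subgroup M, L₀ ≤ W → (∀ a : (P : Subgroup G), ∀ x ∈ W, a • x ∈ W) → W = L₀ ∨ W = ⊤ := by
      intro W hLW hW
      by_cases hWt : W = ⊤
      · exact Or.inr hWt
      · left
        exact le_antisymm (hL₀.le_of_ge ⟨hL₀c.trans hLW, hWt, hW⟩ hLW) hLW
    -- `P` centralizes `L₀`
    have hL₀fix : ∀ a : (P : Subgroup G), ∀ x ∈ L₀, a • x = x := by
      intro a x hx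
      have hlt : Nat.card (L₀.map M.subtype) < m := by
        rw [Subgroup.card_map_of_injective M.subtype_injective, ← hcard]
        have hle := Subgroup.card_le_card_group L₀
        apply lt_of_le_of_ne hle
        intro he
        exact hL₀ne (Subgroup.eq_top_of_card_eq _ he)
      have := IH _ hlt (L₀.map M.subtype) rfl (by
        rintro _ ⟨y, _, rfl⟩
        exact hMN y.2) (by
        rintro b hb _ ⟨y, hy, rfl⟩
        exact ⟨(⟨b, hb⟩ : (P : Subgroup G)) • y, hL₀inv _ _ hy, rfl⟩) a a.2 x ⟨x, hx, rfl⟩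
      apply Subtype.ext
      exact this
    have hact : ¬ ∀ (a : (P : Subgroup G)) (x : M), x⁻¹ * (a • x) ∈ L₀ := by
      intro hall
      apply hcon
      intro a ha x hx
      have hcopL : (Nat.card (P : Subgroup G)).Coprime (Nat.card L₀) :=
        hcopM.coprime_dvd_right (Subgroup.card_subgroup_dvd_card L₀)
      have := fixed_of_fixed_sub L₀ hL₀fix hcopL (Or.inl hsolP) (⟨x, hx⟩ : M) (fun b => hall b _) ⟨a, ha⟩
      exact congrArg Subtype.val this
    obtain ⟨c, hcC, d, hdD, x, hx⟩ := exists_not_mul hp2 hPp L₀ hL₀c hL₀inv hL₀max hact _ _ (hgenP C hC) (hgenP D hD)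
    -- elements of `P` conjugated into `P` are fixed
    have hfix : ∀ (e : (P : Subgroup G)) (y : M), (y : G)⁻¹ * (e : G) * (y : G) ∈ (P : Subgroup G) → e • y = y := by
      intro e y hy
      apply Subtype.ext
      show (e : G) * (y : G) * (e : G)⁻¹ = y
      set t : G := (y : G)⁻¹ * ((e : G) * (y : G) * (e : G)⁻¹) with ht
      have ht1 : t ∈ (P : Subgroup G) := by
        have e1 : t = ((y : G)⁻¹ * (e : G) * (y : G)) * (e : G)⁻¹ := by
          rw [ht]; group
        rw [e1]
        exact (P : Subgroup G).mul_mem hy ((P : Subgroup G).inv_mem e.2)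
      have ht2 : t ∈ M := M.mul_mem (M.inv_mem y.2) (hinv e e.2 y y.2)
      have ht3 : t = 1 := by
        have hd1 : orderOf t ∣ p ^ kP := by
          rw [← hkP]
          exact orderOf_dvd_natCard (⟨t, ht1⟩ : (P : Subgroup G)) |> fun h => by simpa using h
        have hd2 : orderOf t ∣ Nat.card M := by
          exact orderOf_dvd_natCard (⟨t, ht2⟩ : M) |> fun h => by simpa using h
        have hcop' : (p ^ kP).Coprime (Nat.card M) := by
          rw [← hkP]; exact hcopM
        exact orderOf_eq_one_iff.mp (Nat.eq_one_of_dvd_coprimes hcop' hd1 hd2)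
      rw [ht] at ht3
      exact (inv_mul_eq_one.mp ht3).symm
    obtain ⟨y, hy, hyR⟩ := exists_conj_le P M hinv ({(x : G) * (c : G) * (x : G)⁻¹, (d : G)} : Set G)
      (h x (hMN x.2) c hcC d hdD) (by
        rintro r (rfl | rfl)
        · exact ⟨(x : G) * ((c : G) * (x : G)⁻¹ * (c : G)⁻¹), M.mul_mem x.2 (hinv c c.2 _ (M.inv_mem x.2)), c, c.2, by group⟩
        · exact ⟨1, M.one_mem, d, d.2, by simp⟩)
    have hy1 := hyR ((x : G) * (c : G) * (x : G)⁻¹) (Subgroup.subset_closure (by simp))
    have hy2 := hyR (d : G) (Subgroup.subset_closure (by simp))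
    have hfd : d • (⟨y, hy⟩ : M) = ⟨y, hy⟩ := hfix d ⟨y, hy⟩ hy2
    set w : M := x⁻¹ * ⟨y, hy⟩ with hw
    have hfc : c • w = w := by
      apply hfix c w
      have e : ((w : M) : G)⁻¹ * (c : G) * ((w : M) : G) = y⁻¹ * ((x : G) * (c : G) * (x : G)⁻¹) * y := by
        rw [hw]
        simp only [Subgroup.coe_mul, Subgroup.coe_inv]
        group
      rw [e]
      exact hy1
    have hfc' : c • w⁻¹ = w⁻¹ := by
      rw [smul_inv', hfc]
    apply hx ⟨y, hy⟩ w⁻¹ hfd hfc'
    rw [hw]
    group
  intro a ha x hx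
  exact main _ N rfl le_rfl (fun a _ x hx => Subgroup.Normal.conj_mem inferInstance x hx a) a ha x hx

end Cfsg.Agent.Lib.KS2.BaerP
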