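import Mathlib
import Cfsg.Agent.Lib.Char.Burnside
import Cfsg.Agent.Lib.Char.Induced
import Cfsg.Agent.Lib.Char.Ops
import Cfsg.Agent.Lib.KS2.Mackey

/-!
# The permutation character of `SL_n(F)` on nonzero vectors
-/

set_option autoImplicit false
set_option linter.unusedSimpArgs false
set_option linter.unusedVariables false
set_option linter.deprecated false

namespace Cfsg.Agent.Lib.KS2.PermSL

open Matrix Cfsg Cfsg.Agent.Lib.Char
open scoped MatrixGroups ComplexConjugate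

universe u

section Generic

/-- Fibres of a transitive action. -/
lemma card_fiber {G U : Type*} [Group G] [Finite G] [MulAction G U] [MulAction.IsPretransitive G U]
    (u u' : U) : Nat.card {g : G // g • u = u'} * Nat.card U = Nat.card G := by
  classical
  obtain ⟨g₀, rfl⟩ := MulAction.exists_smul_eq G u u'
  have h1 : Nat.card {g : G // g • u = g₀ • u} = Nat.card (MulAction.stabilizer G u) := by
    refine Nat.card_congr ⟨fun g => ⟨g₀⁻¹ * g.1, ?_⟩, fun s => ⟨g₀ * s.1, ?_⟩, ?_, ?_⟩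
    · rw [MulAction.mem_stabilizer_iff, mul_smul, g.2, inv_smul_smul]
    · rw [mul_smul, MulAction.mem_stabilizer_iff.mp s.2]
    · intro g
      simp
    · intro s
      simp
  have h2 : Nat.card U = Nat.card (MulAction.orbit G u) := by
    rw [MulAction.orbit_eq_univ]
    exact (Nat.card_congr (Equiv.Set.univ U)).symm
  rw [h1, h2, mul_comm]
  rw [← Nat.card_prod]
  exact Nat.card_congr (MulAction.orbitProdStabilizerEquivGroup G u)

end Generic

variable {F : Type u} [Field F] {n : ℕ}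

/-- Nonzero vectors. -/
abbrev Xv (F : Type u) [Field F] (n : ℕ) := {v : Fin n → F // v ≠ 0}

lemma sl_inv_mulVec (g : SL(n, F)) (v : Fin n → F) : ((g⁻¹ : SL(n, F)) : Matrix (Fin n) (Fin n) F) *ᵥ ((g : Matrix (Fin n) (Fin n) F) *ᵥ v) = v := by
  rw [Matrix.mulVec_mulVec, ← Matrix.SpecialLinearGroup.coe_mul]
  simp

lemma sl_mulVec_inj (g : SL(n, F)) {v w : Fin n → F} (h : (g : Matrix (Fin n) (Fin n) F) *ᵥ v = (g : Matrix (Fin n) (Fin n) F) *ᵥ w) : v = w := by
  rw [← sl_inv_mulVec g v, h, sl_inv_mulVec]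

lemma sl_mulVec_ne_zero (g : SL(n, F)) {v : Fin n → F} (hv : v ≠ 0) : (g : Matrix (Fin n) (Fin n) F) *ᵥ v ≠ 0 := by
  intro h
  apply hv
  apply sl_mulVec_inj g
  rw [h, Matrix.mulVec_zero]

instance actX : MulAction (SL(n, F)) (Xv F n) where
  smul g v := ⟨(g : Matrix (Fin n) (Fin n) F) *ᵥ v.1, sl_mulVec_ne_zero g v.2⟩
  one_smul v := Subtype.ext (by
    show ((1 : SL(n, F)) : Matrix (Fin n) (Fin n) F) *ᵥ v.1 = v.1
    simp)
  mul_smul g h v := Subtype.ext (by
    show ((g * h : SL(n, F)) : Matrix (Fin n) (Fin n) F) *ᵥ v.1 = (g : Matrix (Fin n) (Fin n) F) *ᵥ ((h : Matrix (Fin n) (Fin n) F) *ᵥ v.1)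
    rw [Matrix.SpecialLinearGroup.coe_mul, Matrix.mulVec_mulVec])

lemma smul_coe (g : SL(n, F)) (v : Xv F n) : ((g • v : Xv F n) : Fin n → F) = (g : Matrix (Fin n) (Fin n) F) *ᵥ v.1 := rfl

/-- Independence of two vectors. -/
def Ind (v w : Fin n → F) : Prop := ∀ c : F, w ≠ c • v

/-- Independent pairs. -/
abbrev Pv (F : Type u) [Field F] (n : ℕ) := {p : Xv F n × Xv F n // Ind p.1.1 p.2.1}

lemma ind_smul (g : SL(n, F)) {v w : Fin n → F} (h : Ind v w) :
    Ind ((g : Matrix (Fin n) (Fin n) F) *ᵥ v) ((g : Matrix (Fin n) (Fin n) F) *ᵥ w) := by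
  intro c hc
  apply h c
  apply sl_mulVec_inj g
  rw [hc, Matrix.mulVec_smul]

instance actP : MulAction (SL(n, F)) (Pv F n) where
  smul g p := ⟨(g • p.1.1, g • p.1.2), ind_smul g p.2⟩
  one_smul p := Subtype.ext (by
    show ((1 : SL(n, F)) • p.1.1, (1 : SL(n, F)) • p.1.2) = p.1
    simp)
  mul_smul g h p := Subtype.ext (by
    show ((g * h) • p.1.1, (g * h) • p.1.2) = (g • h • p.1.1, g • h • p.1.2)
    rw [mul_smul, mul_smul])

lemma lin_indep_of_ind {v w : Fin n → F} (hv : v ≠ 0) (h : Ind v w) : LinearIndependent F ![v, w] := by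
  rw [LinearIndependent.pair_iff]
  intro s t hst
  by_cases ht : t = 0
  · subst ht
    rw [zero_smul, add_zero] at hst
    refine ⟨?_, rfl⟩
    exact (smul_eq_zero.mp hst).resolve_right hv
  · exfalso
    apply h (-(s / t))
    have h1 : t • w = -(s • v) := eq_neg_of_add_eq_zero_right hst
    have h2 : w = t⁻¹ • (t • w) := by rw [smul_smul, inv_mul_cancel₀ ht, one_smul]
    rw [h2, h1, smul_neg, smul_smul, ← neg_smul]
    congr 1
    field_simp

section Trans

variable [Fintype F] [DecidableEq F]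

/-- Every independent pair is the image of the first two basis vectors. -/
theorem exists_sl (i₀ i₁ i₂ : Fin n) (h01 : i₀ ≠ i₁) (h02 : i₀ ≠ i₂) (h12 : i₁ ≠ i₂) {v w : Fin n → F} (hv : v ≠ 0) (h : Ind v w) :
    ∃ g : SL(n, F), (g : Matrix (Fin n) (Fin n) F) *ᵥ Pi.single i₀ 1 = v ∧ (g : Matrix (Fin n) (Fin n) F) *ᵥ Pi.single i₁ 1 = w := by
  classical
  have hs := lin_indep_of_ind hv h
  let b := Module.Basis.sumExtend hs
  have hb0 : b (Sum.inl 0) = v := by
    simp [b, Module.Basis.sumExtend]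
    rfl
  have hb1 : b (Sum.inl 1) = w := by
    simp [b, Module.Basis.sumExtend]
    rfl
  -- indexing
  have hcard : Fintype.card (Fin 2 ⊕ Module.Basis.sumExtendIndex hs) = n := by
    have h1 := Module.finrank_eq_card_basis b
    rw [Module.finrank_fin_fun] at h1
    exact h1.symm
  let ψ : (Fin 2 ⊕ Module.Basis.sumExtendIndex hs) ≃ Fin n := Fintype.equivFinOfCardEq hcard
  have hab : ψ (Sum.inl 0) ≠ ψ (Sum.inl 1) := by
    intro h0
    have := ψ.injective h0
    simp at this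
  let σ₁ : Equiv.Perm (Fin n) := Equiv.swap (ψ (Sum.inl 0)) i₀
  have hσ₁ : σ₁ (ψ (Sum.inl 0)) = i₀ := Equiv.swap_apply_left _ _
  have hb' : σ₁ (ψ (Sum.inl 1)) ≠ i₀ := by
    intro h0
    apply hab
    apply σ₁.injective
    rw [hσ₁, h0]
  let σ₂ : Equiv.Perm (Fin n) := Equiv.swap (σ₁ (ψ (Sum.inl 1))) i₁
  have hσ₂0 : σ₂ i₀ = i₀ := Equiv.swap_apply_of_ne_of_ne (Ne.symm hb') h01
  have hσ₂1 : σ₂ (σ₁ (ψ (Sum.inl 1))) = i₁ := Equiv.swap_apply_left _ _
  let τ : (Fin 2 ⊕ Module.Basis.sumExtendIndex hs) ≃ Fin n := ψ.trans (σ₁.trans σ₂)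
  have hτ0 : τ (Sum.inl 0) = i₀ := by
    show σ₂ (σ₁ (ψ (Sum.inl 0))) = i₀
    rw [hσ₁, hσ₂0]
  have hτ1 : τ (Sum.inl 1) = i₁ := by
    show σ₂ (σ₁ (ψ (Sum.inl 1))) = i₁
    exact hσ₂1
  let b' : Module.Basis (Fin n) F (Fin n → F) := b.reindex τ
  have hb'0 : b' i₀ = v := by
    rw [Module.Basis.reindex_apply, ← hτ0, Equiv.symm_apply_apply, hb0]
  have hb'1 : b' i₁ = w := by
    rw [Module.Basis.reindex_apply, ← hτ1, Equiv.symm_apply_apply, hb1]
  let M : Matrix (Fin n) (Fin n) F := (Pi.basisFun F (Fin n)).toMatrix b'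
  have hdet : IsUnit M.det := by
    have := (Pi.basisFun F (Fin n)).isUnit_det b'
    rwa [Module.Basis.det_apply] at this
  have hMv : ∀ j, M *ᵥ Pi.single j 1 = b' j := by
    intro j
    funext i
    simp [M, Module.Basis.toMatrix_apply]
  let d : F := M.det
  have hd : d ≠ 0 := hdet.ne_zero
  let D : Matrix (Fin n) (Fin n) F := Matrix.diagonal (Function.update (fun _ => 1) i₂ d⁻¹)
  have hDdet : D.det = d⁻¹ := by
    rw [Matrix.det_diagonal, Finset.prod_update_of_mem (Finset.mem_univ _)]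
    simp
  have hDv : ∀ j, j ≠ i₂ → D *ᵥ Pi.single j 1 = Pi.single j 1 := by
    intro j hj
    rw [Matrix.mulVec_single_one]
    funext i
    simp only [D, Matrix.col_apply, Matrix.diagonal_apply, Pi.single_apply]
    by_cases hij : i = j
    · subst hij
      simp [hj]
    · simp [hij]
  refine ⟨⟨M * D, by rw [Matrix.det_mul, hDdet]; exact mul_inv_cancel₀ hd⟩, ?_, ?_⟩
  · show (M * D) *ᵥ Pi.single i₀ 1 = v
    rw [← Matrix.mulVec_mulVec, hDv i₀ h02, hMv, hb'0]
  · show (M * D) *ᵥ Pi.single i₁ 1 = w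
    rw [← Matrix.mulVec_mulVec, hDv i₁ h12, hMv, hb'1]

end Trans

section Count

variable [Fintype F] [DecidableEq F]

/-- Scalars on nonzero vectors. -/
def scX (c : Fˣ) (v : Xv F n) : Xv F n := ⟨(c : F) • v.1, smul_ne_zero c.ne_zero v.2⟩

@[simp] lemma scX_coe (c : Fˣ) (v : Xv F n) : ((scX c v : Xv F n) : Fin n → F) = (c : F) • v.1 := rfl

lemma scX_one (v : Xv F n) : scX 1 v = v := Subtype.ext (by simp)

lemma scX_mul (c d : Fˣ) (v : Xv F n) : scX c (scX d v) = scX (c * d) v :=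
  Subtype.ext (by simp [smul_smul])

lemma smul_scX (g : SL(n, F)) (c : Fˣ) (v : Xv F n) : g • scX c v = scX c (g • v) :=
  Subtype.ext (by
    show (g : Matrix (Fin n) (Fin n) F) *ᵥ ((c : F) • v.1) = (c : F) • ((g : Matrix (Fin n) (Fin n) F) *ᵥ v.1)
    rw [Matrix.mulVec_smul])

lemma scX_inj {c d : Fˣ} {v : Xv F n} (h : scX c v = scX d v) : c = d := by
  have h1 : (c : F) • v.1 = (d : F) • v.1 := congrArg Subtype.val h
  obtain ⟨i, hi⟩ : ∃ i, v.1 i ≠ 0 := by
    by_contra hc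
    push Not at hc
    exact v.2 (funext hc)
  have h2 := congrFun h1 i
  simp only [Pi.smul_apply, smul_eq_mul] at h2
  exact Units.ext (mul_right_cancel₀ hi h2)

lemma exists_ind (hn : 3 ≤ n) (v : Xv F n) : ∃ w : Xv F n, Ind v.1 w.1 := by
  obtain ⟨i, hi⟩ : ∃ i, v.1 i ≠ 0 := by
    by_contra hc
    push Not at hc
    exact v.2 (funext hc)
  obtain ⟨j, hj⟩ : ∃ j : Fin n, j ≠ i := by
    by_cases h0 : i.1 = 0
    · exact ⟨⟨1, by omega⟩, fun h => by
        have := congrArg Fin.val h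
        simp at this
        omega⟩
    · exact ⟨⟨0, by omega⟩, fun h => by
        have := congrArg Fin.val h
        simp at this
        omega⟩
  refine ⟨⟨Pi.single j 1, ?_⟩, ?_⟩
  · intro h
    have := congrFun h j
    simp at this
  · intro c hc
    have h1 := congrFun hc i
    simp [Pi.single_apply, hj.symm] at h1
    have hc0 : c = 0 := by
      rcases h1 with h1 | h1
      · exact h1
      · exact absurd h1 hi
    have h2 := congrFun hc j
    simp [hc0] at h2

/-- The basic indices. -/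
lemma exists_three (hn : 3 ≤ n) : ∃ i₀ i₁ i₂ : Fin n, i₀ ≠ i₁ ∧ i₀ ≠ i₂ ∧ i₁ ≠ i₂ :=
  ⟨⟨0, by omega⟩, ⟨1, by omega⟩, ⟨2, by omega⟩, by simp [Fin.ext_iff], by simp [Fin.ext_iff], by simp [Fin.ext_iff]⟩

lemma single_ind {i j : Fin n} (hij : i ≠ j) : Ind (Pi.single i (1 : F)) (Pi.single j (1 : F) : Fin n → F) := by
  intro c hc
  have h1 := congrFun hc i
  simp [Pi.single_apply, hij] at h1
  have h2 := congrFun hc j
  simp [Pi.single_apply, hij, hij.symm, ← h1] at h2

lemma pretrans_P (hn : 3 ≤ n) : MulAction.IsPretransitive (SL(n, F)) (Pv F n) := by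
  obtain ⟨i₀, i₁, i₂, h01, h02, h12⟩ := exists_three hn
  have key : ∀ p : Pv F n, ∃ g : SL(n, F), g • (⟨(⟨Pi.single i₀ 1, by
      intro h
      have := congrFun h i₀
      simp at this⟩, ⟨Pi.single i₁ 1, by
      intro h
      have := congrFun h i₁
      simp at this⟩), single_ind h01⟩ : Pv F n) = p := by
    intro p
    obtain ⟨g, h1, h2⟩ := exists_sl i₀ i₁ i₂ h01 h02 h12 p.1.1.2 p.2
    refine ⟨g, Subtype.ext (Prod.ext (Subtype.ext ?_) (Subtype.ext ?_))⟩
    · exact h1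
    · exact h2
  refine ⟨fun p q => ?_⟩
  obtain ⟨g, rfl⟩ := key p
  obtain ⟨h, rfl⟩ := key q
  exact ⟨h * g⁻¹, by rw [mul_smul, inv_smul_smul]⟩

lemma pretrans_X (hn : 3 ≤ n) : MulAction.IsPretransitive (SL(n, F)) (Xv F n) := by
  haveI := pretrans_P (F := F) hn
  refine ⟨fun v v' => ?_⟩
  obtain ⟨w, hw⟩ := exists_ind hn v
  obtain ⟨w', hw'⟩ := exists_ind hn v'
  obtain ⟨g, hg⟩ := MulAction.exists_smul_eq (SL(n, F)) (⟨(v, w), hw⟩ : Pv F n) (⟨(v', w'), hw'⟩ : Pv F n)
  refine ⟨g, ?_⟩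
  have := congrArg (fun p : Pv F n => p.1.1) hg
  exact this

/-- Size of stabiliser of a vector. -/
noncomputable def s₁ (F : Type u) [Field F] (n : ℕ) [Fintype F] [DecidableEq F] : ℕ :=
  Nat.card (SL(n, F)) / Nat.card (Xv F n)

lemma card_fib₁ (hn : 3 ≤ n) (v v' : Xv F n) :
    Nat.card {g : SL(n, F) // g • v = v'} = s₁ F n := by
  haveI := pretrans_X (F := F) hn
  have h := card_fiber (G := SL(n, F)) v v'
  unfold s₁
  have hpos : 0 < Nat.card (Xv F n) := Nat.card_pos_iff.mpr ⟨⟨v⟩, inferInstance⟩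
  rw [← h, Nat.mul_div_cancel _ hpos]

lemma s₁_mul (hn : 3 ≤ n) : s₁ F n * Nat.card (Xv F n) = Nat.card (SL(n, F)) := by
  haveI := pretrans_X (F := F) hn
  obtain ⟨i₀, i₁, i₂, h01, h02, h12⟩ := exists_three hn
  have v : Xv F n := ⟨Pi.single i₀ 1, by
      intro h
      have := congrFun h i₀
      simp at this⟩
  rw [← card_fib₁ hn v v]
  exact card_fiber (G := SL(n, F)) v v

noncomputable instance : Fintype (SL(n, F)) := Fintype.ofFinite _

/-- Number of vectors scaled by `c`. -/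
noncomputable def Nn (g : SL(n, F)) (c : Fˣ) : ℕ := ∑ v : Xv F n, if g • v = scX c v then 1 else 0

lemma sum_ind_fib₁ (hn : 3 ≤ n) (v v' : Xv F n) :
    (∑ g : SL(n, F), if g • v = v' then 1 else 0) = s₁ F n := by
  rw [← card_fib₁ hn v v', Nat.card_eq_fintype_card, Fintype.card_subtype, Finset.card_filter]

/-- First moment. -/
lemma sum_Nn (hn : 3 ≤ n) (c : Fˣ) : ∑ g : SL(n, F), Nn g c = Nat.card (SL(n, F)) := by
  unfold Nn
  rw [Finset.sum_comm]
  have : ∀ v : Xv F n, (∑ g : SL(n, F), if g • v = scX c v then 1 else 0) = s₁ F n :=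
    fun v => sum_ind_fib₁ hn v _
  simp only [this, Finset.sum_const, Finset.card_univ, smul_eq_mul]
  rw [← s₁_mul hn, Nat.card_eq_fintype_card (α := Xv F n), mul_comm]

/-- Independent pairs: the size of a fibre. -/
noncomputable def s₂ (F : Type u) [Field F] (n : ℕ) [Fintype F] [DecidableEq F] : ℕ :=
  Nat.card (SL(n, F)) / Nat.card (Pv F n)

lemma card_fib₂ (hn : 3 ≤ n) (p q : Pv F n) :
    Nat.card {g : SL(n, F) // g • p = q} = s₂ F n := by
  haveI := pretrans_P (F := F) hn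
  have h := card_fiber (G := SL(n, F)) p q
  unfold s₂
  have hpos : 0 < Nat.card (Pv F n) := Nat.card_pos_iff.mpr ⟨⟨p⟩, inferInstance⟩
  rw [← h, Nat.mul_div_cancel _ hpos]

lemma s₂_mul (hn : 3 ≤ n) : s₂ F n * Nat.card (Pv F n) = Nat.card (SL(n, F)) := by
  haveI := pretrans_P (F := F) hn
  obtain ⟨i₀, i₁, i₂, h01, h02, h12⟩ := exists_three hn
  have p : Pv F n := ⟨(⟨Pi.single i₀ 1, by
      intro h
      have := congrFun h i₀
      simp at this⟩, ⟨Pi.single i₁ 1, by
      intro h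
      have := congrFun h i₁
      simp at this⟩), single_ind h01⟩
  rw [← card_fib₂ hn p p]
  exact card_fiber (G := SL(n, F)) p p

/-- The scaled independent pair. -/
def scP (c d : Fˣ) (p : Pv F n) : Pv F n := ⟨(scX c p.1.1, scX d p.1.2), by
  intro e he
  apply p.2 ((d⁻¹ : Fˣ) * e * c)
  have h1 : (d : F) • p.1.2.1 = e • (c : F) • p.1.1.1 := he
  have h2 : p.1.2.1 = (d⁻¹ : Fˣ).1 • ((d : F) • p.1.2.1) := by
    rw [smul_smul]
    simp
  rw [h2, h1, smul_smul, smul_smul, mul_assoc]⟩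

open Classical in
/-- Dependent pairs form `X × Fˣ`. -/
noncomputable def depEquiv : {p : Xv F n × Xv F n // ¬ Ind p.1.1 p.2.1} ≃ Xv F n × Fˣ where
  toFun p := (p.1.1, (Classical.choose (by
      have h := p.2
      unfold Ind at h
      push Not at h
      obtain ⟨c, hc⟩ := h
      have hc0 : c ≠ 0 := by
        rintro rfl
        rw [zero_smul] at hc
        exact p.1.2.2 hc
      exact ⟨Units.mk0 c hc0, hc⟩ : ∃ e : Fˣ, p.1.2.1 = (e : F) • p.1.1.1)))
  invFun q := ⟨(q.1, scX q.2 q.1), by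
    unfold Ind
    push Not
    exact ⟨q.2, rfl⟩⟩
  left_inv p := by
    apply Subtype.ext
    refine Prod.ext rfl (Subtype.ext ?_)
    exact (Classical.choose_spec (_ : ∃ e : Fˣ, p.1.2.1 = (e : F) • p.1.1.1)).symm
  right_inv q := by
    refine Prod.ext rfl ?_
    apply scX_inj (v := q.1)
    exact Subtype.ext (Classical.choose_spec (_ : ∃ e : Fˣ, (scX q.2 q.1).1 = (e : F) • q.1.1)).symm

open Classical in
/-- Second moment. -/
lemma sum_Nn_mul (hn : 3 ≤ n) (c d : Fˣ) :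
    ∑ g : SL(n, F), Nn g c * Nn g d =
      Nat.card (SL(n, F)) * (1 + if c = d then Fintype.card Fˣ else 0) := by
  have h1 : ∑ g : SL(n, F), Nn g c * Nn g d =
      ∑ p : Xv F n × Xv F n, ∑ g : SL(n, F), if g • p.1 = scX c p.1 ∧ g • p.2 = scX d p.2 then 1 else 0 := by
    rw [Finset.sum_comm]
    refine Finset.sum_congr rfl fun g _ => ?_
    unfold Nn
    rw [Finset.sum_mul_sum, ← Finset.sum_product', Finset.univ_product_univ]
    refine Finset.sum_congr rfl fun p _ => ?_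
    by_cases h1 : g • p.1 = scX c p.1 <;> by_cases h2 : g • p.2 = scX d p.2 <;> simp [h1, h2]
  rw [h1]
  rw [← Equiv.sum_comp (Equiv.sumCompl (fun p : Xv F n × Xv F n => Ind p.1.1 p.2.1))]
  rw [Fintype.sum_sum_type]
  have h2 : ∀ p : Pv F n, (∑ g : SL(n, F), if g • (p.1.1) = scX c p.1.1 ∧ g • p.1.2 = scX d p.1.2 then 1 else 0) = s₂ F n := by
    intro p
    rw [← card_fib₂ hn p (scP c d p), Nat.card_eq_fintype_card, Fintype.card_subtype, Finset.card_filter]
    refine Finset.sum_congr rfl fun g _ => ?_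
    congr 1
    apply propext
    constructor
    · rintro ⟨h1, h2⟩
      exact Subtype.ext (Prod.ext h1 h2)
    · intro h
      exact ⟨congrArg (fun p : Pv F n => p.1.1) h, congrArg (fun p : Pv F n => p.1.2) h⟩
  have h3 : ∀ q : Xv F n × Fˣ, (∑ g : SL(n, F), if g • (q.1) = scX c q.1 ∧ g • scX q.2 q.1 = scX d (scX q.2 q.1) then 1 else 0) = if c = d then s₁ F n else 0 := by
    intro q
    by_cases hcd : c = d
    · subst hcd
      rw [if_pos rfl, ← sum_ind_fib₁ hn q.1 (scX c q.1)]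
      refine Finset.sum_congr rfl fun g _ => ?_
      congr 1
      apply propext
      constructor
      · exact fun h => h.1
      · intro h
        refine ⟨h, ?_⟩
        rw [smul_scX, h, scX_mul, scX_mul, mul_comm]
    · rw [if_neg hcd]
      refine Finset.sum_eq_zero fun g _ => ?_
      rw [if_neg]
      rintro ⟨h1, h2⟩
      rw [smul_scX, h1, scX_mul, scX_mul, mul_comm] at h2
      exact hcd (mul_right_cancel (scX_inj h2))
  have h4 : ∑ p : {p : Xv F n × Xv F n // Ind p.1.1 p.2.1}, (∑ g : SL(n, F), if g • (p.1.1) = scX c p.1.1 ∧ g • p.1.2 = scX d p.1.2 then 1 else 0) = Nat.card (SL(n, F)) := by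
    rw [Finset.sum_congr rfl (fun p _ => h2 p), Finset.sum_const, Finset.card_univ, smul_eq_mul, ← s₂_mul hn,
      Nat.card_eq_fintype_card (α := Pv F n), mul_comm]
  have h5 : ∑ p : {p : Xv F n × Xv F n // ¬ Ind p.1.1 p.2.1}, (∑ g : SL(n, F), if g • (p.1.1) = scX c p.1.1 ∧ g • p.1.2 = scX d p.1.2 then 1 else 0) = Nat.card (SL(n, F)) * if c = d then Fintype.card Fˣ else 0 := by
    rw [← Equiv.sum_comp (depEquiv (F := F) (n := n)).symm]
    have h6 := fun q : Xv F n × Fˣ => h3 q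
    show ∑ q : Xv F n × Fˣ, (∑ g : SL(n, F), if g • (q.1) = scX c q.1 ∧ g • scX q.2 q.1 = scX d (scX q.2 q.1) then 1 else 0) = _
    rw [Finset.sum_congr rfl (fun q _ => h3 q), Finset.sum_const, Finset.card_univ, smul_eq_mul, Fintype.card_prod, ← s₁_mul hn,
      Nat.card_eq_fintype_card (α := Xv F n)]
    by_cases hcd : c = d
    · simp only [hcd, if_true]
      ring
    · simp [hcd]
  show (∑ p : {p : Xv F n × Xv F n // Ind p.1.1 p.2.1}, (∑ g : SL(n, F), if g • (p.1.1) = scX c p.1.1 ∧ g • p.1.2 = scX d p.1.2 then 1 else 0)) + (∑ p : {p : Xv F n × Xv F n // ¬ Ind p.1.1 p.2.1}, (∑ g : SL(n, F), if g • (p.1.1) = scX c p.1.1 ∧ g • p.1.2 = scX d p.1.2 then 1 else 0)) = _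
  rw [h4, h5]
  ring

end Count

section Chi

variable [Fintype F] [DecidableEq F]

/-- The class function attached to a linear character of `Fˣ`. -/
noncomputable def chi (l : Fˣ →* ℂˣ) (g : SL(n, F)) : ℂ :=
  (Fintype.card Fˣ : ℂ)⁻¹ * ∑ c : Fˣ, ((l c : ℂˣ) : ℂ) * (Nn g c : ℂ)

lemma Q_ne : (Fintype.card Fˣ : ℂ) ≠ 0 := by
  exact_mod_cast Fintype.card_ne_zero

lemma G_ne : (Nat.card (SL(n, F)) : ℂ) ≠ 0 := by
  exact_mod_cast (Nat.card_pos (α := SL(n, F))).ne'

lemma sum_hom (l : Fˣ →* ℂˣ) [Decidable (l = 1)] : ∑ c : Fˣ, ((l c : ℂˣ) : ℂ) = if l = 1 then (Fintype.card Fˣ : ℂ) else 0 := by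
  have := RK.sum_hom_conj l (1 : Fˣ →* ℂˣ)
  rw [Nat.card_eq_fintype_card] at this
  simpa using this

open Classical in
lemma inner_chi_chi (hn : 3 ≤ n) (l m : Fˣ →* ℂˣ) :
    classInner (chi (n := n) l) (chi (n := n) m) = (if l = 1 ∧ m = 1 then 1 else 0) + (if l = m then 1 else 0) := by
  rw [classInner_def]
  have hQ := Q_ne (F := F)
  have hG := G_ne (F := F) (n := n)
  have h1 : ∀ g : SL(n, F), chi l g * conj (chi m g) =
      (Fintype.card Fˣ : ℂ)⁻¹ * (Fintype.card Fˣ : ℂ)⁻¹ * ∑ c : Fˣ, ∑ d : Fˣ,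
        ((l c : ℂˣ) : ℂ) * conj ((m d : ℂˣ) : ℂ) * ((Nn g c * Nn g d : ℕ) : ℂ) := by
    intro g
    unfold chi
    rw [map_mul, map_inv₀, map_sum, Complex.conj_natCast]
    simp only [map_mul, Complex.conj_natCast, Nat.cast_mul]
    rw [mul_mul_mul_comm, Finset.sum_mul_sum]
    congr 1
    refine Finset.sum_congr rfl fun c _ => Finset.sum_congr rfl fun d _ => ?_
    ring
  simp only [h1]
  rw [← Finset.mul_sum]
  have h2 : ∑ g : SL(n, F), ∑ c : Fˣ, ∑ d : Fˣ, ((l c : ℂˣ) : ℂ) * conj ((m d : ℂˣ) : ℂ) * ((Nn g c * Nn g d : ℕ) : ℂ)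
      = (Nat.card (SL(n, F)) : ℂ) * ((∑ c : Fˣ, ((l c : ℂˣ) : ℂ)) * (∑ d : Fˣ, conj ((m d : ℂˣ) : ℂ)) +
        (Fintype.card Fˣ : ℂ) * ∑ c : Fˣ, ((l c : ℂˣ) : ℂ) * conj ((m c : ℂˣ) : ℂ)) := by
    rw [Finset.sum_comm]
    have : ∀ c : Fˣ, ∑ g : SL(n, F), ∑ d : Fˣ, ((l c : ℂˣ) : ℂ) * conj ((m d : ℂˣ) : ℂ) * ((Nn g c * Nn g d : ℕ) : ℂ)
        = ∑ d : Fˣ, ((l c : ℂˣ) : ℂ) * conj ((m d : ℂˣ) : ℂ) * ((Nat.card (SL(n, F)) * (1 + if c = d then Fintype.card Fˣ else 0) : ℕ) : ℂ) := by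
      intro c
      rw [Finset.sum_comm]
      refine Finset.sum_congr rfl fun d _ => ?_
      rw [← Finset.mul_sum, ← sum_Nn_mul hn c d, Nat.cast_sum]
    simp only [this]
    rw [Finset.sum_mul_sum, Finset.mul_sum, ← Finset.sum_add_distrib, Finset.mul_sum]
    refine Finset.sum_congr rfl fun c _ => ?_
    have h3 : ∀ d : Fˣ, ((l c : ℂˣ) : ℂ) * conj ((m d : ℂˣ) : ℂ) * ((Nat.card (SL(n, F)) * (1 + if c = d then Fintype.card Fˣ else 0) : ℕ) : ℂ)
        = (Nat.card (SL(n, F)) : ℂ) * (((l c : ℂˣ) : ℂ) * conj ((m d : ℂˣ) : ℂ)) + (Nat.card (SL(n, F)) : ℂ) * (Fintype.card Fˣ : ℂ) * (if c = d then ((l c : ℂˣ) : ℂ) * conj ((m c : ℂˣ) : ℂ) else 0) := by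
      intro d
      by_cases hcd : c = d
      · subst hcd
        simp only [if_true]
        push_cast
        ring
      · simp [hcd]
        ring
    simp only [h3]
    rw [Finset.sum_add_distrib, ← Finset.mul_sum, ← Finset.mul_sum, ← Finset.mul_sum, Finset.sum_ite_eq]
    simp only [Finset.mem_univ, if_true]
    ring
  rw [h2]
  have h5 : ∑ d : Fˣ, conj ((m d : ℂˣ) : ℂ) = if m = 1 then (Fintype.card Fˣ : ℂ) else 0 := by
    rw [← map_sum, sum_hom]
    split_ifs <;> simp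
  rw [sum_hom, h5, RK.sum_hom_conj, Nat.card_eq_fintype_card (α := Fˣ)]
  by_cases h8 : l = m
  · subst h8
    by_cases h6 : l = 1
    · simp only [h6, and_self, if_true]
      field_simp
    · simp only [h6, and_self, if_true, if_false]
      field_simp
      ring
  · have h9 : ¬ (l = 1 ∧ m = 1) := fun h => h8 (h.1.trans h.2.symm)
    have h10 : (if l = 1 then (Fintype.card Fˣ : ℂ) else 0) * (if m = 1 then (Fintype.card Fˣ : ℂ) else 0) = 0 := by
      by_cases h6 : l = 1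
      · have h7 : ¬ m = 1 := fun h7 => h9 ⟨h6, h7⟩
        simp [h7]
      · simp [h6]
    rw [h10]
    simp [h8, h9]

open Classical in
lemma inner_chi_one (hn : 3 ≤ n) (l : Fˣ →* ℂˣ) :
    classInner (chi (n := n) l) (fun _ => 1) = if l = 1 then 1 else 0 := by
  rw [classInner_def]
  have hQ := Q_ne (F := F)
  have hG := G_ne (F := F) (n := n)
  simp only [map_one, _root_.mul_one]
  unfold chi
  rw [← Finset.mul_sum, Finset.sum_comm]
  have : ∀ c : Fˣ, ∑ g : SL(n, F), ((l c : ℂˣ) : ℂ) * (Nn g c : ℂ) = ((l c : ℂˣ) : ℂ) * (Nat.card (SL(n, F)) : ℂ) := by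
    intro c
    rw [← Finset.mul_sum, ← sum_Nn hn c, Nat.cast_sum]
  simp only [this]
  rw [← Finset.sum_mul, sum_hom]
  split_ifs <;> field_simp <;> simp

lemma classInner_one_chi (hn : 3 ≤ n) (l : Fˣ →* ℂˣ) [Decidable (l = 1)] :
    classInner (fun _ => 1) (chi (n := n) l) = if l = 1 then 1 else 0 := by
  classical
  rw [← conj_classInner, inner_chi_one hn]
  split_ifs <;> simp

lemma one_inner_one : classInner (fun _ : SL(n, F) => (1 : ℂ)) (fun _ => 1) = 1 := by
  rw [classInner_def]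
  simp only [map_one, _root_.mul_one, Finset.sum_const, Finset.card_univ, nsmul_eq_mul]
  rw [← Nat.card_eq_fintype_card]
  exact inv_mul_cancel₀ (G_ne (F := F) (n := n))

end Chi

section Ind

variable [Fintype F] [DecidableEq F]

/-- Stabiliser of the line through `v`. -/
def lineStab (v : Xv F n) : Subgroup (SL(n, F)) where
  carrier := {g | ∃ c : Fˣ, g • v = scX c v}
  mul_mem' := by
    rintro a b ⟨c, hc⟩ ⟨d, hd⟩
    refine ⟨d * c, ?_⟩
    rw [mul_smul, hd, smul_scX, hc, scX_mul]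
  one_mem' := ⟨1, by rw [one_smul, scX_one]⟩
  inv_mem' := by
    rintro a ⟨c, hc⟩
    refine ⟨c⁻¹, ?_⟩
    have h1 : a⁻¹ • (scX c v) = v := by rw [← hc, inv_smul_smul]
    rw [smul_scX] at h1
    have h2 := congrArg (scX c⁻¹) h1
    rw [scX_mul, inv_mul_cancel, scX_one] at h2
    exact h2

/-- The scalar by which a line stabiliser acts. -/
noncomputable def lc (v : Xv F n) (g : lineStab v) : Fˣ := Classical.choose g.2

lemma lc_spec (v : Xv F n) (g : lineStab v) : g.1 • v = scX (lc v g) v :=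
  Classical.choose_spec g.2

/-- The scalar by which a line stabiliser acts, as a homomorphism. -/
noncomputable def lineChar (v : Xv F n) : lineStab v →* Fˣ :=
  MonoidHom.mk' (lc v) (by
    intro a b
    apply scX_inj (v := v)
    rw [← lc_spec, Subgroup.coe_mul, mul_smul, lc_spec, smul_scX, lc_spec, scX_mul, mul_comm])

lemma lineChar_spec (v : Xv F n) (g : lineStab v) : g.1 • v = scX (lineChar v g) v :=
  lc_spec v g

noncomputable instance (v : Xv F n) : Fintype (lineStab v) := Fintype.ofFinite _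

open Classical in
lemma ext_eq (v : Xv F n) (l : Fˣ →* ℂˣ) (y : SL(n, F)) :
    extendByZero (lineStab v) (fun g => ((l.comp (lineChar v) g : ℂˣ) : ℂ)) y =
      ∑ c : Fˣ, ((l c : ℂˣ) : ℂ) * (if y • v = scX c v then 1 else 0) := by
  by_cases hy : y ∈ lineStab v
  · rw [extendByZero_of_mem _ _ hy]
    have hs := lineChar_spec v ⟨y, hy⟩
    rw [Finset.sum_eq_single (lineChar v ⟨y, hy⟩)]
    · simp [hs]
    · intro c _ hc
      rw [if_neg, MulZeroClass.mul_zero]
      intro h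
      apply hc
      apply scX_inj (v := v)
      rw [← h, ← hs]
    · intro h
      exact absurd (Finset.mem_univ _) h
  · rw [extendByZero_of_not_mem _ _ hy]
    symm
    refine Finset.sum_eq_zero fun c _ => ?_
    rw [if_neg, MulZeroClass.mul_zero]
    intro h
    exact hy ⟨c, h⟩

open Classical in
lemma card_lineStab (hn : 3 ≤ n) (v : Xv F n) :
    (Nat.card (lineStab v) : ℂ) = (Fintype.card Fˣ : ℂ) * (s₁ F n : ℂ) := by
  have h1 := sum_extendByZero (lineStab v) (fun g => (((1 : Fˣ →* ℂˣ).comp (lineChar v) g : ℂˣ) : ℂ))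
  simp only [ext_eq] at h1
  simp only [MonoidHom.one_apply, MonoidHom.comp_apply, Units.val_one, one_mul, Finset.sum_const, Finset.card_univ, nsmul_eq_mul, _root_.mul_one] at h1
  rw [Nat.card_eq_fintype_card, ← h1, Finset.sum_comm]
  have h2 : ∀ c : Fˣ, ∑ y : SL(n, F), (if y • v = scX c v then (1 : ℂ) else 0) = (s₁ F n : ℂ) := by
    intro c
    rw [← sum_ind_fib₁ hn v (scX c v), Nat.cast_sum]
    refine Finset.sum_congr rfl fun g _ => ?_
    split_ifs <;> simp
  simp only [h2, Finset.sum_const, Finset.card_univ, nsmul_eq_mul]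

lemma s₁_ne (hn : 3 ≤ n) : (s₁ F n : ℂ) ≠ 0 := by
  have := s₁_mul (F := F) hn
  have h2 : s₁ F n ≠ 0 := by
    intro h
    rw [h, zero_mul] at this
    exact (Nat.card_pos (α := SL(n, F))).ne' this.symm
  exact_mod_cast h2

open Classical in
/-- The class function `chi` is an induced character. -/
lemma chi_eq_ind (hn : 3 ≤ n) (v : Xv F n) (l : Fˣ →* ℂˣ) :
    chi l = indFun (lineStab v) (fun g => ((l.comp (lineChar v) g : ℂˣ) : ℂ)) := by
  funext g
  rw [indFun_apply, card_lineStab hn]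
  simp only [ext_eq]
  have h1 : ∀ x : SL(n, F), ∀ c : Fˣ, ((x⁻¹ * g * x) • v = scX c v) ↔ (g • (x • v) = scX c (x • v)) := by
    intro x c
    rw [mul_smul, mul_smul, inv_smul_eq_iff, smul_scX]
  simp only [h1]
  rw [Finset.sum_comm]
  have h2 : ∀ c : Fˣ, ∑ x : SL(n, F), ((l c : ℂˣ) : ℂ) * (if g • (x • v) = scX c (x • v) then 1 else 0) =
      ((l c : ℂˣ) : ℂ) * ((s₁ F n : ℂ) * (Nn g c : ℂ)) := by
    intro c
    rw [← Finset.mul_sum]
    congr 1
    have h3 : ∀ u : Xv F n, ∑ x : SL(n, F), (if x • v = u then (1 : ℂ) else 0) = (s₁ F n : ℂ) := by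
      intro u
      rw [← sum_ind_fib₁ hn v u, Nat.cast_sum]
      refine Finset.sum_congr rfl fun g _ => ?_
      split_ifs <;> simp
    unfold Nn
    rw [Nat.cast_sum, Finset.mul_sum]
    have h4 : ∀ u : Xv F n, (s₁ F n : ℂ) * ((if g • u = scX c u then 1 else 0 : ℕ) : ℂ) =
        ∑ x : SL(n, F), (if x • v = u then (1 : ℂ) else 0) * (if g • (x • v) = scX c (x • v) then 1 else 0) := by
      intro u
      have h5 : ∀ x : SL(n, F), (if x • v = u then (1 : ℂ) else 0) * (if g • (x • v) = scX c (x • v) then 1 else 0)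
          = (if x • v = u then (1 : ℂ) else 0) * (if g • u = scX c u then 1 else 0) := by
        intro x
        by_cases hx : x • v = u
        · rw [hx]
        · simp [hx]
      simp only [h5]
      rw [← Finset.sum_mul, h3]
      simp
    simp only [h4]
    rw [Finset.sum_comm]
    refine Finset.sum_congr rfl fun x _ => ?_
    rw [← Finset.sum_mul, Finset.sum_ite_eq]
    simp
  simp only [h2]
  unfold chi
  have hs := s₁_ne (F := F) hn
  have hQ := Q_ne (F := F)
  rw [mul_inv, mul_assoc]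
  have h6 : ∑ c : Fˣ, ((l c : ℂˣ) : ℂ) * ((s₁ F n : ℂ) * (Nn g c : ℂ)) = (s₁ F n : ℂ) * ∑ c : Fˣ, ((l c : ℂˣ) : ℂ) * (Nn g c : ℂ) := by
    rw [Finset.mul_sum]
    refine Finset.sum_congr rfl fun c _ => ?_
    ring
  rw [h6, ← mul_assoc (s₁ F n : ℂ)⁻¹, inv_mul_cancel₀ hs, one_mul]

lemma chi_isChar (hn : 3 ≤ n) (l : Fˣ →* ℂˣ) : IsCharacter (SL(n, F)) (chi (n := n) l) := by
  classical
  obtain ⟨v⟩ : Nonempty (Xv F n) := by
    obtain ⟨i₀, i₁, i₂, h01, h02, h12⟩ := exists_three hn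
    exact ⟨⟨Pi.single i₀ 1, by
      intro h
      have := congrFun h i₀
      simp at this⟩⟩
  rw [chi_eq_ind hn v l]
  apply indFun_isCharacter
  exact IsIrrCharacter.isCharacter (isIrrCharacter_of_hom (l.comp (lineChar v)))

end Ind

section Final

variable [Fintype F] [DecidableEq F]

/-- Dual orthogonality. -/
lemma sum_over_homs (c : Fˣ) [Fintype (Fˣ →* ℂˣ)] :
    ∑ l : Fˣ →* ℂˣ, ((l c : ℂˣ) : ℂ) = if c = 1 then (Fintype.card Fˣ : ℂ) else 0 := by
  classical
  haveI : NeZero (Monoid.exponent Fˣ) := ⟨Monoid.exponent_ne_zero_of_finite⟩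
  have hcard : Fintype.card (Fˣ →* ℂˣ) = Fintype.card Fˣ := by
    rw [← Nat.card_eq_fintype_card, ← Nat.card_eq_fintype_card]
    exact CommGroup.card_monoidHom_of_hasEnoughRootsOfUnity Fˣ ℂ
  by_cases hc : c = 1
  · subst hc
    simp [hcard]
  · rw [if_neg hc]
    obtain ⟨l₀, hl₀⟩ := CommGroup.exists_apply_ne_one_of_hasEnoughRootsOfUnity Fˣ ℂ hc
    have h1 : ∑ l : Fˣ →* ℂˣ, ((l c : ℂˣ) : ℂ) = ((l₀ c : ℂˣ) : ℂ) * ∑ l : Fˣ →* ℂˣ, ((l c : ℂˣ) : ℂ) := by
      rw [Finset.mul_sum]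
      rw [← Equiv.sum_comp (Equiv.mulLeft l₀)]
      refine Finset.sum_congr rfl fun l _ => ?_
      simp
    have h2 : (((l₀ c : ℂˣ) : ℂ) - 1) * ∑ l : Fˣ →* ℂˣ, ((l c : ℂˣ) : ℂ) = 0 := by
      rw [sub_mul, ← h1, one_mul, sub_self]
    rcases mul_eq_zero.mp h2 with h3 | h3
    · exfalso
      apply hl₀
      ext
      simpa [sub_eq_zero] using h3
    · exact h3

lemma Nn_one_eq (g : SL(n, F)) :
    (Nat.card {v : Fin n → F // v ≠ 0 ∧ (g : Matrix (Fin n) (Fin n) F).mulVec v = v} : ℂ) = (Nn g 1 : ℂ) := by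
  congr 1
  classical
  unfold Nn
  rw [← Finset.card_filter]
  rw [← Fintype.card_subtype, ← Nat.card_eq_fintype_card]
  refine Nat.card_congr ⟨fun v => ⟨⟨v.1, v.2.1⟩, Subtype.ext (by
      show (g : Matrix (Fin n) (Fin n) F) *ᵥ v.1 = ((1 : Fˣ) : F) • v.1
      rw [v.2.2]
      simp)⟩, fun v => ⟨v.1.1, v.1.2, ?_⟩, ?_, ?_⟩
  · have := congrArg Subtype.val v.2
    simpa [smul_coe] using this
  · intro v
    rfl
  · intro v
    rfl

lemma sum_chi (g : SL(n, F)) [Fintype (Fˣ →* ℂˣ)] :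
    ∑ l : Fˣ →* ℂˣ, chi l g = (Nn g 1 : ℂ) := by
  classical
  unfold chi
  rw [← Finset.mul_sum, Finset.sum_comm]
  have h1 : ∀ c : Fˣ, ∑ l : Fˣ →* ℂˣ, ((l c : ℂˣ) : ℂ) * (Nn g c : ℂ) = (if c = 1 then (Fintype.card Fˣ : ℂ) else 0) * (Nn g c : ℂ) := by
    intro c
    rw [← Finset.sum_mul, sum_over_homs]
  simp only [h1]
  rw [Finset.sum_eq_single 1]
  · simp only [if_true]
    rw [← mul_assoc, inv_mul_cancel₀ Q_ne, one_mul]
  · intro c _ hc
    simp [hc]
  · intro h
    exact absurd (Finset.mem_univ _) h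

lemma chi_one_val (l : Fˣ →* ℂˣ) : chi (n := n) l (1 : SL(n, F)) = (Fintype.card (Xv F n) : ℂ) / (Fintype.card Fˣ : ℂ) := by
  classical
  unfold chi
  rw [Finset.sum_eq_single 1]
  · have : Nn (1 : SL(n, F)) (1 : Fˣ) = Fintype.card (Xv F n) := by
      unfold Nn
      simp [scX_one]
    rw [this]
    simp
    ring
  · intro c _ hc
    have : Nn (1 : SL(n, F)) c = 0 := by
      unfold Nn
      refine Finset.sum_eq_zero fun v _ => ?_
      rw [if_neg]
      intro h
      rw [one_smul] at h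
      apply hc
      apply scX_inj (v := v)
      rw [← h, scX_one]
    rw [this]
    simp
  · intro h
    exact absurd (Finset.mem_univ _) h

lemma card_Xv_gt (hn : 3 ≤ n) : Fintype.card Fˣ < Fintype.card (Xv F n) := by
  classical
  obtain ⟨i₀, i₁, i₂, h01, h02, h12⟩ := exists_three hn
  have hv : (Pi.single i₀ (1 : F) : Fin n → F) ≠ 0 := by
    intro h
    have := congrFun h i₀
    simp at this
  have hw : (Pi.single i₁ (1 : F) : Fin n → F) ≠ 0 := by
    intro h
    have := congrFun h i₁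
    simp at this
  let φ : Fˣ → Xv F n := fun c => scX c ⟨Pi.single i₀ 1, hv⟩
  have hφ : Function.Injective φ := fun c d h => scX_inj h
  refine Fintype.card_lt_of_injective_of_notMem φ hφ (b := ⟨Pi.single i₁ 1, hw⟩) ?_
  rintro ⟨c, hc⟩
  have h1 := single_ind (F := F) h01 (c : F)
  apply h1
  have := congrArg Subtype.val hc
  exact this.symm

/-- The family of constituents. -/
noncomputable def xi (l : Fˣ →* ℂˣ) [Decidable (l = 1)] (g : SL(n, F)) : ℂ :=
  chi l g - (if l = 1 then 1 else 0)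

open Classical in
lemma xi_inner (hn : 3 ≤ n) (l m : Fˣ →* ℂˣ) :
    classInner (xi (n := n) l) (xi (n := n) m) = if l = m then 1 else 0 := by
  have h1 : ∀ l : Fˣ →* ℂˣ, xi (n := n) l = chi (n := n) l - (if l = 1 then 1 else 0 : ℂ) • (fun _ => (1 : ℂ)) := by
    intro l
    funext g
    by_cases h : l = 1 <;> simp [xi, h]
  rw [h1, h1, classInner_sub_left, classInner_sub_right, classInner_sub_right, classInner_smul_left, classInner_smul_left,
    classInner_smul_right, classInner_smul_right, inner_chi_chi hn, inner_chi_one hn, classInner_one_chi hn, one_inner_one]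
  by_cases h8 : l = m
  · subst h8
    by_cases h6 : l = 1
    · simp [h6]
    · simp [h6]
  · have h9 : ¬ (l = 1 ∧ m = 1) := fun h => h8 (h.1.trans h.2.symm)
    by_cases h6 : l = 1
    · have h7 : ¬ m = 1 := fun h7 => h9 ⟨h6, h7⟩
      simp [h6, h7, h8]
    · by_cases h7 : m = 1 <;> simp [h6, h7, h8]

open Classical in
lemma xi_irr (hn : 3 ≤ n) (l : Fˣ →* ℂˣ) : IsIrrCharacter (SL(n, F)) (xi (n := n) l) := by
  apply isIrr_of_generalized_norm_one
  · have h1 : xi (n := n) l = chi (n := n) l - ((if l = 1 then 1 else 0 : ℤ) : ℂ) • (fun _ => (1 : ℂ)) := by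
      funext g
      by_cases h : l = 1 <;> simp [xi, h]
    rw [h1]
    apply IsGeneralizedCharacter.sub (IsGeneralizedCharacter.of_isCharacter (chi_isChar hn l))
    exact IsGeneralizedCharacter.intCast_smul (IsGeneralizedCharacter.of_isCharacter IsCharacter.one) _
  · rw [xi_inner hn]
    simp
  · unfold xi
    rw [chi_one_val]
    have h1 := card_Xv_gt (F := F) hn
    have hQ : 0 < Fintype.card Fˣ := Fintype.card_pos
    have h3 : (((Fintype.card (Xv F n) : ℂ) / (Fintype.card Fˣ : ℂ))).re = (Fintype.card (Xv F n) : ℝ) / (Fintype.card Fˣ : ℝ) := by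
      rw [← Complex.ofReal_natCast, ← Complex.ofReal_natCast, ← Complex.ofReal_div, Complex.ofReal_re]
    have h4 : (1 : ℝ) < (Fintype.card (Xv F n) : ℝ) / (Fintype.card Fˣ : ℝ) := by
      rw [one_lt_div (by exact_mod_cast hQ)]
      exact_mod_cast h1
    by_cases h : l = 1
    · simp only [h, if_true, Complex.sub_re, Complex.one_re]
      rw [h3]
      linarith
    · simp only [h, if_false, Complex.sub_re, Complex.zero_re]
      rw [h3]
      linarith

theorem main (hn : 3 ≤ n) :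
    ∃ χ : Fin (Fintype.card F - 1) → (SL(n, F) → ℂ),
      (∀ i, IsIrrCharacter (SL(n, F)) (χ i)) ∧ Function.Injective χ ∧
      ∀ g : SL(n, F),
        (Nat.card {v : Fin n → F // v ≠ 0 ∧ (g : Matrix (Fin n) (Fin n) F).mulVec v = v} : ℂ) = 1 + ∑ i, χ i g := by
  classical
  haveI : NeZero (Monoid.exponent Fˣ) := ⟨Monoid.exponent_ne_zero_of_finite⟩
  haveI : Fintype (Fˣ →* ℂˣ) := Fintype.ofFinite _
  have hcard : Fintype.card (Fˣ →* ℂˣ) = Fintype.card F - 1 := by
    rw [← Nat.card_eq_fintype_card, CommGroup.card_monoidHom_of_hasEnoughRootsOfUnity Fˣ ℂ,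
      Nat.card_eq_fintype_card, Fintype.card_units]
  let e : (Fˣ →* ℂˣ) ≃ Fin (Fintype.card F - 1) := Fintype.equivFinOfCardEq hcard
  refine ⟨fun i => xi (n := n) (e.symm i), fun i => xi_irr hn _, ?_, ?_⟩
  · intro i j hij
    have h1 := xi_inner (F := F) hn (e.symm i) (e.symm j)
    simp only at hij
    rw [← hij, xi_inner hn] at h1
    simp only [if_true] at h1
    by_contra hne
    have h2 : e.symm i ≠ e.symm j := fun h => hne (e.symm.injective h)
    rw [if_neg h2] at h1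
    exact one_ne_zero h1
  · intro g
    rw [Nn_one_eq, Equiv.sum_comp e.symm (fun l => xi (n := n) l g)]
    unfold xi
    rw [Finset.sum_sub_distrib, sum_chi]
    simp
end Final

end Cfsg.Agent.Lib.KS2.PermSL
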