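import Mathlib
import Cfsg.Agent.Lib.KS2.PermSL

/-!
Agreement counts for conjugates in `SL_n(F)` acting on nonzero vectors: the average of the number of "projective agreements".
-/

set_option autoImplicit false
set_option linter.unusedSectionVars false
set_option linter.unusedVariables false

namespace Cfsg.Agent.Lib.KS2.ClassProd

open Matrix Cfsg.Agent.Lib.KS2.PermSL
open scoped MatrixGroups

universe u

variable {F : Type u} [Field F] [Fintype F] [DecidableEq F] {n : ℕ}

/-- Dependence of nonzero vectors. -/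
def Dep (v w : Xv F n) : Prop := ¬ Ind v.1 w.1

lemma dep_iff {v w : Xv F n} : Dep v w ↔ ∃ c : F, w.1 = c • v.1 := by
  unfold Dep Ind
  push Not
  rfl

lemma dep_iff' {v w : Xv F n} : Dep v w ↔ ∃ c : Fˣ, w.1 = (c : F) • v.1 := by
  rw [dep_iff]
  constructor
  · rintro ⟨c, hc⟩
    have h0 : c ≠ 0 := by
      rintro rfl
      rw [zero_smul] at hc
      exact w.2 hc
    exact ⟨Units.mk0 c h0, hc⟩
  · rintro ⟨c, hc⟩
    exact ⟨c, hc⟩

lemma dep_refl (v : Xv F n) : Dep v v := dep_iff.mpr ⟨1, by simp⟩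

lemma dep_symm {v w : Xv F n} (h : Dep v w) : Dep w v := by
  obtain ⟨c, hc⟩ := dep_iff'.mp h
  refine dep_iff.mpr ⟨(c⁻¹ : Fˣ), ?_⟩
  rw [hc, smul_smul]
  simp

lemma dep_trans {u v w : Xv F n} (h : Dep u v) (h' : Dep v w) : Dep u w := by
  obtain ⟨c, hc⟩ := dep_iff.mp h
  obtain ⟨d, hd⟩ := dep_iff.mp h'
  exact dep_iff.mpr ⟨d * c, by rw [hd, hc, smul_smul]⟩

lemma dep_smul (g : SL(n, F)) {v w : Xv F n} : Dep (g • v) (g • w) ↔ Dep v w := by
  rw [dep_iff, dep_iff]
  constructor
  · rintro ⟨c, hc⟩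
    refine ⟨c, ?_⟩
    apply sl_mulVec_inj g
    rw [Matrix.mulVec_smul]
    exact hc
  · rintro ⟨c, hc⟩
    refine ⟨c, ?_⟩
    show (g : Matrix (Fin n) (Fin n) F) *ᵥ w.1 = c • ((g : Matrix (Fin n) (Fin n) F) *ᵥ v.1)
    rw [hc, Matrix.mulVec_smul]

open Classical in
/-- Counting the `x` such that `ρ x` and `σ x` are dependent. -/
noncomputable def cnt (σ ρ : Xv F n → Xv F n) : ℕ := ∑ x : Xv F n, if Dep (ρ x) (σ x) then 1 else 0

open Classical in
/-- Number of vectors spanning invariant lines. -/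
noncomputable def fixC (π : Xv F n → Xv F n) : ℕ := ∑ x : Xv F n, if Dep x (π x) then 1 else 0

open Classical in
lemma sum_fib₁ (hn : 3 ≤ n) (x y : Xv F n) : (∑ g : SL(n, F), if g • x = y then 1 else 0) = s₁ F n := by
  convert sum_ind_fib₁ hn x y

open Classical in
lemma sum_pair (hn : 3 ≤ n) {x x' : Xv F n} (hx : ¬ Dep x x') (y y' : Xv F n) :
    (∑ g : SL(n, F), if g • x = y ∧ g • x' = y' then 1 else 0) = if Dep y y' then 0 else s₂ F n := by
  by_cases hy : Dep y y'
  · rw [if_pos hy]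
    refine Finset.sum_eq_zero fun g _ => ?_
    rw [if_neg]
    rintro ⟨h1, h2⟩
    apply hx
    rw [← h1, ← h2] at hy
    exact (dep_smul g).mp hy
  · rw [if_neg hy]
    have hx' : Ind x.1 x'.1 := not_not.mp hx
    have hy' : Ind y.1 y'.1 := not_not.mp hy
    have h := card_fib₂ (F := F) hn (⟨(x, x'), hx'⟩ : Pv F n) (⟨(y, y'), hy'⟩ : Pv F n)
    rw [← h, Nat.card_eq_fintype_card, Fintype.card_subtype, Finset.card_filter]
    refine Finset.sum_congr rfl fun g _ => ?_
    congr 1
    apply propext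
    constructor
    · rintro ⟨h1, h2⟩
      exact Subtype.ext (Prod.ext h1 h2)
    · intro h
      exact ⟨congrArg (fun p : Pv F n => p.1.1) h, congrArg (fun p : Pv F n => p.1.2) h⟩

open Classical in
/-- The number of vectors dependent on a given one. -/
lemma sum_dep (v : Xv F n) : (∑ w : Xv F n, if Dep v w then 1 else 0) = Fintype.card Fˣ := by
  have h1 : (∑ w : Xv F n, if Dep v w then 1 else 0) = (Finset.univ.filter (fun w : Xv F n => Dep v w)).card := by
    rw [Finset.card_filter]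
  rw [h1, ← Finset.card_univ]
  symm
  refine Finset.card_bij (fun c _ => scX c v) (fun c _ => ?_) (fun c _ d _ h => scX_inj h) (fun w hw => ?_)
  · simp only [Finset.mem_filter, Finset.mem_univ, true_and]
    exact dep_iff.mpr ⟨c, rfl⟩
  · simp only [Finset.mem_filter, Finset.mem_univ, true_and] at hw
    obtain ⟨c, hc⟩ := dep_iff'.mp hw
    exact ⟨c, Finset.mem_univ _, Subtype.ext hc.symm⟩

open Classical in
/-- Count of pairs. -/
lemma sum_C (ρ : Xv F n → Xv F n) :
    (∑ y : Xv F n, ∑ y' : Xv F n, (if Dep (ρ y) y' then 1 else 0) * (if Dep y y' then 0 else 1)) =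
      Fintype.card Fˣ * (∑ y : Xv F n, if Dep y (ρ y) then 0 else 1) := by
  rw [Finset.mul_sum]
  refine Finset.sum_congr rfl fun y _ => ?_
  by_cases hy : Dep y (ρ y)
  · rw [if_pos hy, mul_zero]
    refine Finset.sum_eq_zero fun y' _ => ?_
    by_cases h : Dep (ρ y) y'
    · rw [if_pos (dep_trans hy h), mul_zero]
    · rw [if_neg h, zero_mul]
  · rw [if_neg hy, mul_one, ← sum_dep (ρ y)]
    refine Finset.sum_congr rfl fun y' _ => ?_
    by_cases h : Dep (ρ y) y'
    · rw [if_pos h, if_neg]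
      intro h2
      exact hy (dep_trans h2 (dep_symm h))
    · rw [if_neg h, zero_mul]

open Classical in
theorem avg_nat (hn : 3 ≤ n) (σ ρ : Xv F n → Xv F n) :
    (∑ g : SL(n, F), cnt σ (fun x => g • ρ (g⁻¹ • x))) =
      fixC σ * fixC ρ * s₁ F n +
      (∑ x : Xv F n, if Dep x (σ x) then 0 else 1) * s₂ F n *
        (Fintype.card Fˣ * (∑ y : Xv F n, if Dep y (ρ y) then 0 else 1)) := by
  unfold cnt fixC
  rw [Finset.sum_comm]
  have key : ∀ x : Xv F n, (∑ g : SL(n, F), if Dep (g • ρ (g⁻¹ • x)) (σ x) then 1 else 0) =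
      (if Dep x (σ x) then (∑ y : Xv F n, if Dep y (ρ y) then 1 else 0) * s₁ F n else 0) +
      (if Dep x (σ x) then 0 else 1) * s₂ F n *
        (Fintype.card Fˣ * (∑ y : Xv F n, if Dep y (ρ y) then 0 else 1)) := by
    intro x
    have e1 : (∑ g : SL(n, F), if Dep (g • ρ (g⁻¹ • x)) (σ x) then 1 else 0) =
        ∑ g : SL(n, F), if Dep (ρ (g • x)) (g • σ x) then 1 else 0 := by
      refine (Equiv.sum_comp (Equiv.inv (SL(n, F))) _).symm.trans ?_
      refine Finset.sum_congr rfl fun g _ => ?_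
      simp only [Equiv.inv_apply, inv_inv]
      have : Dep (g⁻¹ • ρ (g • x)) (σ x) ↔ Dep (ρ (g • x)) (g • σ x) := by
        rw [← dep_smul g, smul_inv_smul]
      simp only [this]
    rw [e1]
    by_cases hx : Dep x (σ x)
    · rw [if_pos hx, if_pos hx, zero_mul, zero_mul, add_zero]
      have e2 : ∀ g : SL(n, F), (if Dep (ρ (g • x)) (g • σ x) then 1 else 0) =
          ∑ y : Xv F n, (if g • x = y then 1 else 0) * (if Dep y (ρ y) then 1 else 0) := by
        intro g
        rw [Finset.sum_eq_single (g • x)]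
        · have : Dep (ρ (g • x)) (g • σ x) ↔ Dep (g • x) (ρ (g • x)) := by
            have h1 : Dep (g • x) (g • σ x) := (dep_smul g).mpr hx
            constructor
            · intro h
              exact dep_trans h1 (dep_symm h)
            · intro h
              exact dep_trans (dep_symm h) h1
          simp [this]
        · intro y _ hy
          rw [if_neg (Ne.symm hy), zero_mul]
        · simp
      rw [Finset.sum_congr rfl (fun g _ => e2 g), Finset.sum_comm, Finset.sum_mul]
      refine Finset.sum_congr rfl fun y _ => ?_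
      rw [← Finset.sum_mul, sum_fib₁ hn x y, mul_comm]
    · rw [if_neg hx, if_neg hx, zero_add, one_mul]
      have e2 : ∀ g : SL(n, F), (if Dep (ρ (g • x)) (g • σ x) then 1 else 0) =
          ∑ y : Xv F n, ∑ y' : Xv F n, (if g • x = y ∧ g • σ x = y' then 1 else 0) * (if Dep (ρ y) y' then 1 else 0) := by
        intro g
        rw [Finset.sum_eq_single (g • x), Finset.sum_eq_single (g • σ x)]
        · simp
        · intro y' _ hy'
          rw [if_neg (by
            rintro ⟨-, h⟩
            exact hy' h.symm), zero_mul]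
        · simp
        · intro y _ hy
          refine Finset.sum_eq_zero fun y' _ => ?_
          rw [if_neg (by
            rintro ⟨h, -⟩
            exact hy h.symm), zero_mul]
        · simp
      rw [Finset.sum_congr rfl (fun g _ => e2 g), Finset.sum_comm]
      have e3 : ∀ y : Xv F n, (∑ g : SL(n, F), ∑ y' : Xv F n, (if g • x = y ∧ g • σ x = y' then 1 else 0) * (if Dep (ρ y) y' then 1 else 0)) =
          s₂ F n * ∑ y' : Xv F n, (if Dep (ρ y) y' then 1 else 0) * (if Dep y y' then 0 else 1) := by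
        intro y
        rw [Finset.sum_comm, Finset.mul_sum]
        refine Finset.sum_congr rfl fun y' _ => ?_
        rw [← Finset.sum_mul, sum_pair hn hx y y']
        by_cases h1 : Dep y y' <;> simp [h1, mul_comm]
      rw [Finset.sum_congr rfl (fun y _ => e3 y), ← Finset.mul_sum, sum_C]
  rw [Finset.sum_congr rfl (fun x _ => key x), Finset.sum_add_distrib]
  congr 1
  · rw [← Finset.sum_filter, Finset.sum_const, smul_eq_mul, Finset.sum_boole, Nat.cast_id]
    ring_nf
    rw [Finset.sum_boole]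
    simp only [Nat.cast_id]
    ring
  · rw [← Finset.sum_mul, ← Finset.sum_mul]

open Classical in
lemma sum_compl (P : Xv F n → Prop) :
    (∑ x : Xv F n, if P x then 0 else 1) + (∑ x : Xv F n, if P x then 1 else 0) = Fintype.card (Xv F n) := by
  rw [← Finset.sum_add_distrib, ← Finset.card_univ, Finset.card_eq_sum_ones]
  refine Finset.sum_congr rfl fun x _ => ?_
  by_cases h : P x <;> simp [h]

open Classical in
lemma card_Pv : (Nat.card (Pv F n) : ℤ) = (Fintype.card (Xv F n) : ℤ) * ((Fintype.card (Xv F n) : ℤ) - Fintype.card Fˣ) := by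
  have h1 := Nat.card_congr (Equiv.sumCompl (fun p : Xv F n × Xv F n => Ind p.1.1 p.2.1))
  rw [Nat.card_sum, Nat.card_congr (depEquiv (F := F) (n := n)), Nat.card_prod, Nat.card_prod] at h1
  simp only [Nat.card_eq_fintype_card] at h1
  have h2 : (Fintype.card (Pv F n) : ℤ) + (Fintype.card (Xv F n) : ℤ) * Fintype.card Fˣ = (Fintype.card (Xv F n) : ℤ) * Fintype.card (Xv F n) := by
    exact_mod_cast h1
  rw [Nat.card_eq_fintype_card]
  linarith

/-- The average identity. -/
theorem avg_identity (hn : 3 ≤ n) (σ ρ : Xv F n → Xv F n) (c : ℕ)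
    (h : ∀ g : SL(n, F), cnt σ (fun x => g • ρ (g⁻¹ • x)) = c) :
    ((c : ℤ) - Fintype.card Fˣ) * ((Fintype.card (Xv F n) : ℤ) - Fintype.card Fˣ) =
      ((fixC σ : ℤ) - Fintype.card Fˣ) * ((fixC ρ : ℤ) - Fintype.card Fˣ) := by
  classical
  have h1 := avg_nat hn σ ρ
  simp only [h, Finset.sum_const, Finset.card_univ, smul_eq_mul] at h1
  have hsA := sum_compl (F := F) (n := n) (fun x => Dep x (σ x))
  have hsB := sum_compl (F := F) (n := n) (fun x => Dep x (ρ x))
  set Ac : ℕ := ∑ x : Xv F n, if Dep x (σ x) then 0 else 1 with hAc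
  set Bc : ℕ := ∑ x : Xv F n, if Dep x (ρ x) then 0 else 1 with hBc
  have hA : (∑ x : Xv F n, if Dep x (σ x) then 1 else 0) = fixC σ := rfl
  have hB : (∑ x : Xv F n, if Dep x (ρ x) then 1 else 0) = fixC ρ := rfl
  rw [hA] at hsA
  rw [hB] at hsB
  set T : ℕ := Fintype.card (Xv F n) with hT
  set q₁ : ℕ := Fintype.card Fˣ with hq₁
  set A := fixC σ
  set B := fixC ρ
  have hG1 := s₁_mul (F := F) hn
  have hG2 := s₂_mul (F := F) hn
  have hP := card_Pv (F := F) (n := n)
  rw [Nat.card_eq_fintype_card (α := Xv F n)] at hG1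
  rw [← hT] at hG1 hP
  rw [← hq₁] at hP
  have hGpos : 0 < Nat.card (SL(n, F)) := Nat.card_pos
  have hTpos : (0 : ℤ) < T := by
    have : 0 < T := by
      rw [← hG1] at hGpos
      exact Nat.pos_of_mul_pos_left hGpos |> fun h => h
    exact_mod_cast this
  have hs₂ : (s₂ F n : ℤ) ≠ 0 := by
    intro h0
    have : s₂ F n = 0 := by exact_mod_cast h0
    rw [this, zero_mul] at hG2
    omega
  have hG : (Fintype.card (SL(n, F)) : ℤ) = (Nat.card (SL(n, F)) : ℤ) := by
    rw [Nat.card_eq_fintype_card]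
  have e1 : (s₁ F n : ℤ) * T = (s₂ F n : ℤ) * (T * (T - q₁)) := by
    rw [← hP]
    exact_mod_cast hG1.trans hG2.symm
  have e2 : (s₁ F n : ℤ) = (s₂ F n : ℤ) * (T - q₁) := by
    have : ((s₁ F n : ℤ) - (s₂ F n : ℤ) * (T - q₁)) * T = 0 := by linear_combination e1
    rcases mul_eq_zero.mp this with h0 | h0
    · linarith
    · omega
  have e3 : (Fintype.card (SL(n, F)) : ℤ) = (s₂ F n : ℤ) * (T * (T - q₁)) := by
    rw [hG, ← hP]
    exact_mod_cast hG2.symm
  have h2 : ((Fintype.card (SL(n, F)) : ℕ) : ℤ) * c = (A : ℤ) * B * (s₁ F n) + (Ac : ℤ) * (s₂ F n) * (q₁ * Bc) := by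
    exact_mod_cast h1
  have hAc' : (Ac : ℤ) = T - A := by
    have : ((Ac : ℤ) + A) = T := by exact_mod_cast hsA
    linarith
  have hBc' : (Bc : ℤ) = T - B := by
    have : ((Bc : ℤ) + B) = T := by exact_mod_cast hsB
    linarith
  rw [e3, e2, hAc', hBc'] at h2
  have h3 : (s₂ F n : ℤ) * T * ((((c : ℤ) - q₁) * ((T : ℤ) - q₁)) - ((A : ℤ) - q₁) * ((B : ℤ) - q₁)) = 0 := by
    linear_combination h2
  rcases mul_eq_zero.mp h3 with h4 | h4
  · rcases mul_eq_zero.mp h4 with h5 | h5
    · exact absurd h5 hs₂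
    · omega
  · linarith

end Cfsg.Agent.Lib.KS2.ClassProd
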