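import Mathlib
import Cfsg.Agent.Lib.KS2.ClassProd1

/-!
Extending independent families by elements of `SL_n`, local scalars, and special vectors.
-/

set_option autoImplicit false
set_option linter.unusedSectionVars false
set_option linter.unusedVariables false

namespace Cfsg.Agent.Lib.KS2.ClassProd

open Matrix Cfsg.Agent.Lib.KS2.PermSL
open scoped MatrixGroups

universe u

variable {F : Type u} [Field F] {n : ℕ}

section Ext

/-- Moving one basis to another by an element of `SL_n`, up to a scalar at one index. -/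
lemma core {I : Type*} [Fintype I] [DecidableEq I] (bu bv : Module.Basis I F (Fin n → F)) (i₀ : I) :
    ∃ (h : SL(n, F)) (t : F), t ≠ 0 ∧ ∀ i, (h : Matrix (Fin n) (Fin n) F) *ᵥ bu i = (if i = i₀ then t else 1) • bv i := by
  classical
  let φ : (Fin n → F) ≃ₗ[F] (Fin n → F) := bu.equiv bv (Equiv.refl I)
  have hδ : LinearMap.det (φ : (Fin n → F) →ₗ[F] (Fin n → F)) ≠ 0 := (LinearEquiv.isUnit_det' φ).ne_zero
  set δ := LinearMap.det (φ : (Fin n → F) →ₗ[F] (Fin n → F)) with hδdef
  let d : I → F := fun i => if i = i₀ then δ⁻¹ else 1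
  let ψ : (Fin n → F) →ₗ[F] (Fin n → F) := Matrix.toLin bv bv (Matrix.diagonal d)
  have hψ : LinearMap.det ψ = δ⁻¹ := by
    rw [LinearMap.det_toLin, Matrix.det_diagonal]
    simp [d, Finset.prod_ite_eq']
  let f : (Fin n → F) →ₗ[F] (Fin n → F) := ψ ∘ₗ (φ : (Fin n → F) →ₗ[F] (Fin n → F))
  have hf : LinearMap.det f = 1 := by
    rw [LinearMap.det_comp, hψ, ← hδdef, inv_mul_cancel₀ hδ]
  refine ⟨⟨LinearMap.toMatrix' f, by rw [LinearMap.det_toMatrix']; exact hf⟩, δ⁻¹, inv_ne_zero hδ, fun i => ?_⟩
  show LinearMap.toMatrix' f *ᵥ bu i = _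
  rw [LinearMap.toMatrix'_mulVec]
  show ψ (φ (bu i)) = _
  have e1 : φ (bu i) = bv i := by
    simp [φ]
  rw [e1]
  show Matrix.toLin bv bv (Matrix.diagonal d) (bv i) = _
  rw [Matrix.toLin_self, Finset.sum_eq_single i]
  · simp [d]
  · intro j _ hj
    rw [Matrix.diagonal_apply_ne _ hj, zero_smul]
  · simp

variable [Fintype F]

lemma sumExtend_inl {k : ℕ} {u : Fin k → (Fin n → F)} (hu : LinearIndependent F u) (i : Fin k) :
    Module.Basis.sumExtend hu (Sum.inl i) = u i := by
  simp [Module.Basis.sumExtend]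
  rfl

lemma finite_index {k : ℕ} {u : Fin k → (Fin n → F)} (hu : LinearIndependent F u) :
    Finite (Module.Basis.sumExtendIndex hu) := by
  haveI : Finite (Fin k ⊕ Module.Basis.sumExtendIndex hu) := Module.Finite.finite_basis (Module.Basis.sumExtend hu)
  exact Finite.of_injective (Sum.inr : Module.Basis.sumExtendIndex hu → Fin k ⊕ _) Sum.inr_injective

lemma card_index {k : ℕ} {u : Fin k → (Fin n → F)} (hu : LinearIndependent F u) :
    Nat.card (Module.Basis.sumExtendIndex hu) + k = n := by
  haveI := finite_index hu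
  have h1 := Module.finrank_eq_nat_card_basis (Module.Basis.sumExtend hu)
  rw [Module.finrank_fin_fun, Nat.card_sum, Nat.card_eq_fintype_card (α := Fin k), Fintype.card_fin] at h1
  omega

/-- Independent families of the same length smaller than `n` are related by `SL_n`. -/
lemma ext_lt {k : ℕ} (hk : k < n) {u v : Fin k → (Fin n → F)} (hu : LinearIndependent F u) (hv : LinearIndependent F v) :
    ∃ h : SL(n, F), ∀ i, (h : Matrix (Fin n) (Fin n) F) *ᵥ u i = v i := by
  classical
  have cu := card_index hu
  have cv := card_index hv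
  haveI := finite_index hu
  haveI := finite_index hv
  haveI : Fintype (Module.Basis.sumExtendIndex hu) := Fintype.ofFinite _
  haveI : Fintype (Module.Basis.sumExtendIndex hv) := Fintype.ofFinite _
  let e : Module.Basis.sumExtendIndex hu ≃ Module.Basis.sumExtendIndex hv :=
    Fintype.equivOfCardEq (by rw [← Nat.card_eq_fintype_card, ← Nat.card_eq_fintype_card]; omega)
  let bv := (Module.Basis.sumExtend hv).reindex (Equiv.sumCongr (Equiv.refl _) e).symm
  have hne : Nonempty (Module.Basis.sumExtendIndex hu) := by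
    apply (Nat.card_pos_iff.mp ?_).1
    omega
  obtain ⟨j₀⟩ := hne
  obtain ⟨h, t, ht, hh⟩ := core (Module.Basis.sumExtend hu) bv (Sum.inr j₀)
  refine ⟨h, fun i => ?_⟩
  have := hh (Sum.inl i)
  rw [sumExtend_inl] at this
  rw [this, if_neg (by simp), one_smul]
  simp [bv, sumExtend_inl hv]

/-- Independent families of the same length are related by `SL_n` up to scalars. -/
lemma ext_le {k : ℕ} (hk0 : 0 < k) {u v : Fin k → (Fin n → F)} (hu : LinearIndependent F u) (hv : LinearIndependent F v) :
    ∃ (h : SL(n, F)) (c : Fin k → F), (∀ i, c i ≠ 0) ∧ ∀ i, (h : Matrix (Fin n) (Fin n) F) *ᵥ u i = c i • v i := by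
  classical
  have cu := card_index hu
  have cv := card_index hv
  haveI := finite_index hu
  haveI := finite_index hv
  haveI : Fintype (Module.Basis.sumExtendIndex hu) := Fintype.ofFinite _
  haveI : Fintype (Module.Basis.sumExtendIndex hv) := Fintype.ofFinite _
  let e : Module.Basis.sumExtendIndex hu ≃ Module.Basis.sumExtendIndex hv :=
    Fintype.equivOfCardEq (by rw [← Nat.card_eq_fintype_card, ← Nat.card_eq_fintype_card]; omega)
  let bv := (Module.Basis.sumExtend hv).reindex (Equiv.sumCongr (Equiv.refl _) e).symm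
  obtain ⟨h, t, ht, hh⟩ := core (Module.Basis.sumExtend hu) bv (Sum.inl ⟨0, hk0⟩)
  refine ⟨h, fun i => if (Sum.inl i : Fin k ⊕ Module.Basis.sumExtendIndex hu) = Sum.inl ⟨0, hk0⟩ then t else 1, ?_, fun i => ?_⟩
  · intro i
    dsimp only
    split_ifs
    · exact ht
    · exact one_ne_zero
  · have := hh (Sum.inl i)
    rw [sumExtend_inl] at this
    rw [this]
    congr 1
    simp [bv, sumExtend_inl hv]

/-- Subspaces can be moved into each other. -/
lemma subspace_align {E₁ E₂ : Submodule F (Fin n → F)} (hle : Module.finrank F E₁ ≤ Module.finrank F E₂)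
    (hlt : Module.finrank F E₁ < n) :
    ∃ h : SL(n, F), ∀ y ∈ E₁, (h : Matrix (Fin n) (Fin n) F) *ᵥ y ∈ E₂ := by
  classical
  set k := Module.finrank F E₁ with hk
  let b₁ := Module.finBasis F E₁
  let b₂ := Module.finBasis F E₂
  let u : Fin k → (Fin n → F) := fun i => (b₁ i : Fin n → F)
  let v : Fin k → (Fin n → F) := fun i => (b₂ (Fin.castLE hle i) : Fin n → F)
  have hu : LinearIndependent F u := b₁.linearIndependent.map' E₁.subtype (Submodule.ker_subtype E₁)
  have hv : LinearIndependent F v := by
    have := (b₂.linearIndependent.map' E₂.subtype (Submodule.ker_subtype E₂))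
    exact this.comp _ (Fin.castLE_injective hle)
  obtain ⟨h, hh⟩ := ext_lt hlt hu hv
  refine ⟨h, fun y hy => ?_⟩
  have hy' : (⟨y, hy⟩ : E₁) ∈ Submodule.span F (Set.range b₁) := by
    rw [b₁.span_eq]
    trivial
  have key : ∀ z : E₁, (h : Matrix (Fin n) (Fin n) F) *ᵥ (z : Fin n → F) ∈ E₂ := by
    intro z
    rw [← b₁.sum_repr z]
    push_cast
    rw [Matrix.mulVec_sum]
    refine Submodule.sum_mem _ fun i _ => ?_
    rw [Matrix.mulVec_smul]
    refine Submodule.smul_mem _ _ ?_
    have := hh i
    simp only [u, v] at this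
    rw [this]
    exact (b₂ _).2
  exact key ⟨y, hy⟩

end Ext

section Loc

variable {V : Type*} [AddCommGroup V] [Module F V] [FiniteDimensional F V]

/-- Local scalars modulo a subspace of codimension at least two are global. -/
lemma loc_scalar (f : V →ₗ[F] V) (U : Submodule F V) (hU : Module.finrank F U + 2 ≤ Module.finrank F V)
    (h : ∀ x, x ∉ U → ∃ ν : F, f x - ν • x ∈ U) : ∃ ν : F, ∀ x, f x - ν • x ∈ U := by
  have hne : U ≠ ⊤ := by
    rintro rfl
    rw [finrank_top] at hU
    omega
  obtain ⟨x₀, hx₀⟩ : ∃ x, x ∉ U := by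
    by_contra hcon
    push Not at hcon
    exact hne ((Submodule.eq_top_iff').mpr hcon)
  obtain ⟨ν₀, hν₀⟩ := h x₀ hx₀
  set W := U ⊔ Submodule.span F {x₀} with hW
  have hWr : Module.finrank F W < Module.finrank F V := by
    have h1 := Submodule.finrank_add_le_finrank_add_finrank U (Submodule.span F {x₀})
    have h2 := finrank_span_singleton (K := F) (v := x₀) (by
      rintro rfl
      exact hx₀ U.zero_mem)
    rw [← hW] at h1
    omega
  have hWne : W ≠ ⊤ := by
    rintro h
    rw [h, finrank_top] at hWr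
    omega
  have hmem : ∀ a : F, a • x₀ ∈ W := fun a =>
    Submodule.mem_sup_right (Submodule.smul_mem _ _ (Submodule.mem_span_singleton_self x₀))
  have hUW : ∀ u ∈ U, u ∈ W := fun u hu => Submodule.mem_sup_left hu
  have key1 : ∀ x, x ∉ W → f x - ν₀ • x ∈ U := by
    intro x hx
    have hxU : x ∉ U := fun h => hx (hUW x h)
    obtain ⟨ν, hν⟩ := h x hxU
    have hxx : x + x₀ ∉ U := by
      intro h'
      apply hx
      have : x = (x + x₀) - x₀ := by abel
      rw [this]
      refine W.sub_mem (hUW _ h') ?_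
      have := hmem 1
      rwa [one_smul] at this
    obtain ⟨ν', hν'⟩ := h (x + x₀) hxx
    have h1 : (ν' - ν) • x + (ν' - ν₀) • x₀ ∈ U := by
      have := U.sub_mem (U.add_mem hν hν₀) hν'
      convert this using 1
      rw [map_add, smul_add, sub_smul, sub_smul]
      abel
    have hν1 : ν' = ν := by
      by_contra hne'
      apply hx
      have hd : ν' - ν ≠ 0 := sub_ne_zero.mpr hne'
      have : x = (ν' - ν)⁻¹ • ((ν' - ν) • x + (ν' - ν₀) • x₀) - ((ν' - ν)⁻¹ * (ν' - ν₀)) • x₀ := by
        rw [smul_add, smul_smul, smul_smul, inv_mul_cancel₀ hd, one_smul]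
        abel
      rw [this]
      exact W.sub_mem (hUW _ (U.smul_mem _ h1)) (hmem _)
    have hν2 : ν' = ν₀ := by
      rw [hν1, sub_self, zero_smul, zero_add] at h1
      by_contra hne'
      have hd : ν - ν₀ ≠ 0 := by
        intro h0
        apply hne'
        rw [hν1]
        exact sub_eq_zero.mp h0
      apply hx₀
      have := U.smul_mem (ν - ν₀)⁻¹ h1
      rwa [smul_smul, inv_mul_cancel₀ hd, one_smul] at this
    rw [← hν2, hν1]
    exact hν
  obtain ⟨x₁, hx₁⟩ : ∃ x, x ∉ W := by
    by_contra hcon
    push Not at hcon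
    exact hWne ((Submodule.eq_top_iff').mpr hcon)
  refine ⟨ν₀, fun x => ?_⟩
  by_cases hx : x ∈ W
  · have h1 : x + x₁ ∉ W := by
      intro h'
      apply hx₁
      have : x₁ = (x + x₁) - x := by abel
      rw [this]
      exact W.sub_mem h' hx
    have h2 := key1 _ h1
    have h3 := key1 _ hx₁
    have := U.sub_mem h2 h3
    convert this using 1
    rw [map_add, smul_add]
    abel
  · exact key1 x hx

/-- Non-scalar operators move a vector out of its line. -/
lemma exists_not_eig (f : V →ₗ[F] V) (hV : 2 ≤ Module.finrank F V) (hf : ∀ c : F, f ≠ c • LinearMap.id) :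
    ∃ x, ∀ c : F, f x ≠ c • x := by
  by_contra hcon
  push Not at hcon
  obtain ⟨ν, hν⟩ := loc_scalar f ⊥ (by simpa using hV) (fun x _ => by
    obtain ⟨c, hc⟩ := hcon x
    exact ⟨c, by rw [hc, sub_self]; exact Submodule.zero_mem _⟩)
  apply hf ν
  ext1 x
  have := hν x
  simp only [Submodule.mem_bot, sub_eq_zero] at this
  simpa using this

/-- If the image of `f - ν` lies in a small subspace, its kernel is large. -/
lemma ker_large (f : V →ₗ[F] V) (U : Submodule F V) (ν : F) (h : ∀ x, f x - ν • x ∈ U) :
    Module.finrank F V ≤ Module.finrank F U + Module.finrank F (LinearMap.ker (f - ν • LinearMap.id)) := by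
  have h1 := LinearMap.finrank_range_add_finrank_ker (f - ν • LinearMap.id)
  have h2 : LinearMap.range (f - ν • LinearMap.id) ≤ U := by
    rintro _ ⟨x, rfl⟩
    simpa using h x
  have h3 := Submodule.finrank_mono h2
  omega

/-- Two independent vectors in a subspace of dimension at least two. -/
lemma exists_two_indep (E : Submodule F V) (hE : 2 ≤ Module.finrank F E) (a : V) :
    ∃ y ∈ E, ∀ c : F, y ≠ c • a := by
  by_contra hcon
  push Not at hcon
  have h1 : E ≤ Submodule.span F {a} := by
    intro y hy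
    obtain ⟨c, hc⟩ := hcon y hy
    rw [hc]
    exact Submodule.smul_mem _ _ (Submodule.mem_span_singleton_self a)
  have h2 := Submodule.finrank_mono h1
  have h3 : Module.finrank F (Submodule.span F {a}) ≤ 1 := by
    by_cases ha : a = 0
    · rw [Submodule.span_singleton_eq_bot.mpr ha, finrank_bot]
      omega
    · rw [finrank_span_singleton ha]
  omega

end Loc

end Cfsg.Agent.Lib.KS2.ClassProd
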