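import Mathlib
import Cfsg.Agent.Lib.KS2.ClassProd2

/-!
Special vectors for non-scalar operators.
-/

set_option autoImplicit false
set_option linter.unusedSectionVars false
set_option linter.unusedVariables false

namespace Cfsg.Agent.Lib.KS2.ClassProd

universe u

variable {F : Type u} [Field F] {V : Type*} [AddCommGroup V] [Module F V]

lemma li2_iff {a b : V} : LinearIndependent F ![a, b] ↔ ∀ s t : F, s • a + t • b = 0 → s = 0 ∧ t = 0 :=
  LinearIndependent.pair_iff

lemma li3_iff {a b c : V} :
    LinearIndependent F ![a, b, c] ↔ ∀ s t r : F, s • a + t • b + r • c = 0 → s = 0 ∧ t = 0 ∧ r = 0 := by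
  rw [Fintype.linearIndependent_iff]
  constructor
  · intro h s t r hs
    have := h ![s, t, r] (by simpa [Fin.sum_univ_three] using hs)
    exact ⟨this 0, this 1, this 2⟩
  · intro h g hg i
    have := h (g 0) (g 1) (g 2) (by simpa [Fin.sum_univ_three] using hg)
    fin_cases i
    · exact this.1
    · exact this.2.1
    · exact this.2.2

lemma li4_iff {a b c d : V} :
    LinearIndependent F ![a, b, c, d] ↔ ∀ s t r w : F, s • a + t • b + r • c + w • d = 0 → s = 0 ∧ t = 0 ∧ r = 0 ∧ w = 0 := by
  rw [Fintype.linearIndependent_iff]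
  constructor
  · intro h s t r w hs
    have := h ![s, t, r, w] (by simpa [Fin.sum_univ_four] using hs)
    exact ⟨this 0, this 1, this 2, this 3⟩
  · intro h g hg i
    have := h (g 0) (g 1) (g 2) (g 3) (by simpa [Fin.sum_univ_four] using hg)
    fin_cases i
    · exact this.1
    · exact this.2.1
    · exact this.2.2.1
    · exact this.2.2.2

/-- Completing an independent pair. -/
lemma li3_of {a b c : V} (hab : LinearIndependent F ![a, b]) (h : ∀ s t : F, c ≠ s • a + t • b) :
    LinearIndependent F ![a, b, c] := by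
  rw [li3_iff]
  intro s t r hs
  have hr : r = 0 := by
    by_contra hr
    apply h (-(r⁻¹ * s)) (-(r⁻¹ * t))
    have h1 : r • c = -(s • a) + -(t • b) := by
      rw [← neg_add]
      exact eq_neg_of_add_eq_zero_right hs
    have h2 : c = r⁻¹ • (r • c) := by rw [smul_smul, inv_mul_cancel₀ hr, one_smul]
    rw [h2, h1, smul_add, smul_neg, smul_neg, smul_smul, smul_smul, neg_smul, neg_smul]
  subst hr
  rw [zero_smul, add_zero] at hs
  obtain ⟨h1, h2⟩ := li2_iff.mp hab s t hs
  exact ⟨h1, h2, rfl⟩

/-- A vector outside the line of another one. -/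
lemma li2_of {a b : V} (ha : a ≠ 0) (h : ∀ c : F, b ≠ c • a) : LinearIndependent F ![a, b] := by
  rw [li2_iff]
  intro s t hst
  have ht : t = 0 := by
    by_contra ht
    apply h (-(t⁻¹ * s))
    have h1 : t • b = -(s • a) := eq_neg_of_add_eq_zero_right hst
    have h2 : b = t⁻¹ • (t • b) := by rw [smul_smul, inv_mul_cancel₀ ht, one_smul]
    rw [h2, h1, smul_neg, smul_smul, neg_smul]
  subst ht
  rw [zero_smul, add_zero] at hst
  exact ⟨(smul_eq_zero.mp hst).resolve_right ha, rfl⟩

variable [FiniteDimensional F V]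

/-- `f` is not locally scalar. -/
def NS (f : V →ₗ[F] V) : Prop := ∃ x, ∀ c : F, f x ≠ c • x

lemma NS.ne_zero {f : V →ₗ[F] V} {x : V} (h : ∀ c : F, f x ≠ c • x) : x ≠ 0 := by
  rintro rfl
  exact h 0 (by simp)

lemma NS.exists_ne {f : V →ₗ[F] V} (h : NS f) (ν : F) : ∃ v, f v - ν • v ≠ 0 := by
  obtain ⟨x, hx⟩ := h
  exact ⟨x, sub_ne_zero.mpr (hx ν)⟩

/-- Eigenvector plus a vector moving out of the plane. -/
theorem exists_fixed_arc (f : V →ₗ[F] V) (hn : 3 ≤ Module.finrank F V) (hf : NS f) {y₀ : V} (hy₀ : y₀ ≠ 0) {l₀ : F}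
    (hl₀ : f y₀ = l₀ • y₀) :
    ∃ y z, y ≠ 0 ∧ (∃ l : F, f y = l • y) ∧ LinearIndependent F ![y, z, f z] := by
  by_cases h : ∃ z, LinearIndependent F ![y₀, z, f z]
  · obtain ⟨z, hz⟩ := h
    exact ⟨y₀, z, hy₀, ⟨l₀, hl₀⟩, hz⟩
  push Not at h
  set U := Submodule.span F {y₀} with hU
  have hUr : Module.finrank F U = 1 := finrank_span_singleton hy₀
  obtain ⟨ν, hν⟩ := loc_scalar f U (by omega) (fun x hx => by
    have hli : LinearIndependent F ![y₀, x] := li2_of hy₀ (fun c hc => hx (by
      rw [hc]
      exact Submodule.smul_mem _ _ (Submodule.mem_span_singleton_self _)))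
    by_contra hcon
    push Not at hcon
    apply h x
    apply li3_of hli
    intro s t hst
    apply hcon t
    rw [hst, add_sub_cancel_right]
    exact Submodule.smul_mem _ _ (Submodule.mem_span_singleton_self _))
  have hK := ker_large f U ν hν
  set K := LinearMap.ker (f - ν • LinearMap.id) with hKdef
  have hKm : ∀ x, x ∈ K ↔ f x = ν • x := by
    intro x
    simp [hKdef, sub_eq_zero]
  have hU' : ∀ x, ∃ c : F, f x - ν • x = c • y₀ := by
    intro x
    obtain ⟨c, hc⟩ := Submodule.mem_span_singleton.mp (hν x)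
    exact ⟨c, hc.symm⟩
  by_cases hl : l₀ = ν
  · subst hl
    obtain ⟨y, hyK, hy⟩ := exists_two_indep K (by omega) y₀
    obtain ⟨v, hv⟩ := hf.exists_ne l₀
    obtain ⟨κ, hκ⟩ := hU' v
    have hκ0 : κ ≠ 0 := by
      rintro rfl
      rw [zero_smul] at hκ
      exact hv hκ
    have hyy : LinearIndependent F ![y₀, y] := li2_of hy₀ hy
    refine ⟨y, v, ?_, ⟨l₀, (hKm y).mp hyK⟩, ?_⟩
    · rintro rfl
      exact hy 0 (by simp)
    · rw [li3_iff]
      intro a b c habc
      have hfv : f v = l₀ • v + κ • y₀ := by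
        rw [← hκ]
        abel
      have E1 : a • y + (b + c * l₀) • v + (c * κ) • y₀ = 0 := by
        rw [← habc, hfv]
        (module)
      have E2 : ((b + c * l₀) * κ) • y₀ = 0 := by
        have h2 := congrArg (fun w => f w - l₀ • w) E1
        simp only [map_add, map_smul, map_zero, smul_zero, sub_zero] at h2
        rw [(hKm y).mp hyK, hl₀, hfv] at h2
        linear_combination (norm := module) h2
      have h3 : b + c * l₀ = 0 := by
        have := (smul_eq_zero.mp E2).resolve_right hy₀
        exact (mul_eq_zero.mp this).resolve_right hκ0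
      rw [h3, zero_smul, add_zero, add_comm] at E1
      obtain ⟨h4, h5⟩ := li2_iff.mp hyy _ _ E1
      have hc : c = 0 := (mul_eq_zero.mp h4).resolve_right hκ0
      refine ⟨h5, ?_, hc⟩
      rw [hc] at h3
      simpa using h3
  · obtain ⟨y, hyK, hy⟩ := exists_two_indep K (by omega) (0 : V)
    have hy0 : y ≠ 0 := fun e => hy 0 (by simp [e])
    obtain ⟨y', hy'K, hy'⟩ := exists_two_indep K (by omega) y
    have hfy := (hKm y).mp hyK
    have hfy' := (hKm y').mp hy'K
    have hyy : LinearIndependent F ![y, y'] := li2_of hy0 hy'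
    have hfz : f (y₀ + y') = l₀ • y₀ + ν • y' := by
      rw [map_add, hl₀, hfy']
    refine ⟨y, y₀ + y', hy0, ⟨ν, hfy⟩, ?_⟩
    rw [li3_iff, hfz]
    intro a b c habc
    have E1 : a • y + (b + c * ν) • y' + (b + c * l₀) • y₀ = 0 := by
      rw [← habc]
      (module)
    have hd : l₀ - ν ≠ 0 := sub_ne_zero.mpr hl
    have E2 : ((b + c * l₀) * (l₀ - ν)) • y₀ = 0 := by
      have h2 := congrArg (fun w => f w - ν • w) E1
      simp only [map_add, map_smul, map_zero, smul_zero, sub_zero] at h2
      rw [hfy, hfy', hl₀] at h2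
      linear_combination (norm := module) h2
    have h3 : b + c * l₀ = 0 := by
      have := (smul_eq_zero.mp E2).resolve_right hy₀
      exact (mul_eq_zero.mp this).resolve_right hd
    rw [h3, zero_smul, add_zero] at E1
    obtain ⟨h4, h5⟩ := li2_iff.mp hyy _ _ E1
    have hc : c = 0 := by
      have : c * (l₀ - ν) = 0 := by linear_combination h3 - h5
      exact (mul_eq_zero.mp this).resolve_right hd
    refine ⟨h4, ?_, hc⟩
    rw [hc] at h3
    simpa using h3

/-- Two independent arcs when all eigenspaces are small. -/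
theorem exists_pair (f : V →ₗ[F] V) (hn : 4 ≤ Module.finrank F V) (hf : NS f)
    (hK : ∀ ν : F, Module.finrank F (LinearMap.ker (f - ν • LinearMap.id)) ≤ 1) :
    ∃ w₁ w₂, LinearIndependent F ![w₁, w₂, f w₁, f w₂] := by
  obtain ⟨x₁, hx₁⟩ := hf
  have h0 : x₁ ≠ 0 := NS.ne_zero hx₁
  have hli : LinearIndependent F ![x₁, f x₁] := li2_of h0 hx₁
  by_contra hcon
  push Not at hcon
  set U := Submodule.span F (Set.range ![x₁, f x₁]) with hU
  have hUr : Module.finrank F U = 2 := by
    have := finrank_span_eq_card hli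
    simpa using this
  have hmem : ∀ s t : F, s • x₁ + t • f x₁ ∈ U := by
    intro s t
    apply U.add_mem
    · exact U.smul_mem _ (Submodule.subset_span ⟨0, rfl⟩)
    · exact U.smul_mem _ (Submodule.subset_span ⟨1, rfl⟩)
  have hmem' : ∀ w ∈ U, ∃ s t : F, w = s • x₁ + t • f x₁ := by
    intro w hw
    have hsp : U = Submodule.span F {x₁, f x₁} := by
      rw [hU]
      congr 1
      ext a
      simp [eq_comm, or_comm]
    rw [hsp, Submodule.mem_span_pair] at hw
    obtain ⟨s, t, h⟩ := hw
    exact ⟨s, t, h.symm⟩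
  obtain ⟨ν, hν⟩ := loc_scalar f U (by omega) (fun x hx => by
    by_contra hc
    push Not at hc
    apply hcon x₁ x
    rw [li4_iff]
    intro s t r w hs
    have hw : w = 0 := by
      by_contra hw
      apply hc (-(w⁻¹ * t))
      have h1 : w • f x = -(s • x₁ + t • x + r • f x₁) := eq_neg_of_add_eq_zero_right hs
      have h2 : f x = w⁻¹ • (w • f x) := by rw [smul_smul, inv_mul_cancel₀ hw, one_smul]
      have h3 : f x - (-(w⁻¹ * t)) • x = (-(w⁻¹ * s)) • x₁ + (-(w⁻¹ * r)) • f x₁ := by
        rw [h2, h1]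
        (module)
      rw [h3]
      exact hmem _ _
    subst hw
    rw [zero_smul, add_zero] at hs
    have ht : t = 0 := by
      by_contra ht
      apply hx
      have h1 : t • x = -(s • x₁ + r • f x₁) := by
        have : s • x₁ + r • f x₁ + t • x = 0 := by
          rw [← hs]
          abel
        exact eq_neg_of_add_eq_zero_right this
      have h2 : x = t⁻¹ • (t • x) := by rw [smul_smul, inv_mul_cancel₀ ht, one_smul]
      rw [h2, h1]
      exact U.smul_mem _ (U.neg_mem (hmem _ _))
    subst ht
    rw [zero_smul, add_zero] at hs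
    obtain ⟨h1, h2⟩ := li2_iff.mp hli _ _ hs
    exact ⟨h1, rfl, h2, rfl⟩)
  have h1 := ker_large f U ν hν
  have h2 := hK ν
  omega

/-- A cyclic vector in dimension three, without eigenvectors. -/
theorem path_no_eig (f : V →ₗ[F] V) (hn : Module.finrank F V = 3) (hf : ∀ x, x ≠ 0 → ∀ c : F, f x ≠ c • x) {x : V} (hx : x ≠ 0) :
    LinearIndependent F ![x, f x, f (f x)] := by
  have hli : LinearIndependent F ![x, f x] := li2_of hx (hf x hx)
  apply li3_of hli
  intro α β hαβ
  set P := Submodule.span F (Set.range ![x, f x]) with hP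
  have hPr : Module.finrank F P = 2 := by
    have := finrank_span_eq_card hli
    simpa using this
  have h1 : x ∈ P := Submodule.subset_span ⟨0, rfl⟩
  have h2 : f x ∈ P := Submodule.subset_span ⟨1, rfl⟩
  have hinv : ∀ p ∈ P, f p ∈ P := by
    intro p hp
    have hsp : P = Submodule.span F {x, f x} := by
      rw [hP]
      congr 1
      ext a
      simp [eq_comm, or_comm]
    rw [hsp, Submodule.mem_span_pair] at hp
    obtain ⟨s, t, rfl⟩ := hp
    rw [map_add, map_smul, map_smul, hαβ]
    apply P.add_mem (P.smul_mem _ h2)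
    exact P.smul_mem _ (P.add_mem (P.smul_mem _ h1) (P.smul_mem _ h2))
  have hne : P ≠ ⊤ := by
    intro h
    rw [h, finrank_top] at hPr
    omega
  obtain ⟨z, hz⟩ : ∃ z, z ∉ P := by
    by_contra hcon
    push Not at hcon
    exact hne ((Submodule.eq_top_iff').mpr hcon)
  have htop : P ⊔ Submodule.span F {z} = ⊤ := by
    apply Submodule.eq_top_of_finrank_eq
    have hlt : P < P ⊔ Submodule.span F {z} := by
      refine lt_of_le_of_ne le_sup_left ?_
      intro h
      apply hz
      rw [h]
      exact Submodule.mem_sup_right (Submodule.mem_span_singleton_self z)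
    have h3 := Submodule.finrank_lt_finrank_of_lt hlt
    have h4 := Submodule.finrank_le (P ⊔ Submodule.span F {z})
    omega
  have hdec : ∀ v, ∃ p ∈ P, ∃ a : F, v = p + a • z := by
    intro v
    have : v ∈ P ⊔ Submodule.span F {z} := by
      rw [htop]
      trivial
    obtain ⟨p, hp, w, hw, rfl⟩ := Submodule.mem_sup.mp this
    obtain ⟨a, rfl⟩ := Submodule.mem_span_singleton.mp hw
    exact ⟨p, hp, a, rfl⟩
  obtain ⟨p', hp', ν, hfz⟩ := hdec (f z)
  -- the operator `f - ν` maps into `P`
  have hT : ∀ v, (f - ν • LinearMap.id : V →ₗ[F] V) v ∈ P := by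
    intro v
    obtain ⟨p, hp, a, rfl⟩ := hdec v
    have e : (f - ν • LinearMap.id : V →ₗ[F] V) (p + a • z) = f p - ν • p + a • p' := by
      simp only [LinearMap.sub_apply, LinearMap.smul_apply, LinearMap.id_apply, map_add, map_smul, hfz]
      (module)
    rw [e]
    exact P.add_mem (P.sub_mem (hinv p hp) (P.smul_mem _ hp)) (P.smul_mem _ hp')
  have hnotsurj : ¬ Function.Surjective (f - ν • LinearMap.id : V →ₗ[F] V) := by
    intro hs
    apply hz
    obtain ⟨v, rfl⟩ := hs z
    exact hT v
  have hnotinj : ¬ Function.Injective (f - ν • LinearMap.id : V →ₗ[F] V) := by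
    intro hi
    exact hnotsurj (LinearMap.injective_iff_surjective.mp hi)
  rw [← LinearMap.ker_eq_bot, Submodule.eq_bot_iff] at hnotinj
  push Not at hnotinj
  obtain ⟨y, hy, hy0⟩ := hnotinj
  apply hf y hy0 ν
  have : (f - ν • LinearMap.id : V →ₗ[F] V) y = 0 := hy
  simpa [sub_eq_zero] using this

/-- A cyclic vector in dimension three, for a unique eigenline. -/
theorem path_uniq_eig (f : V →ₗ[F] V) (hn : Module.finrank F V = 3) {y : V} (hy : y ≠ 0) {μ : F} (hμ : f y = μ • y)
    (huniq : ∀ x, x ≠ 0 → ∀ c : F, f x = c • x → ∃ d : F, x = d • y) :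
    ∃ w, LinearIndependent F ![w, f w, f (f w)] := by
  have hz : ∃ z, LinearIndependent F ![y, z, f z] := by
    by_contra h
    push Not at h
    set U := Submodule.span F {y} with hU
    have hUr : Module.finrank F U = 1 := finrank_span_singleton hy
    obtain ⟨ν, hν⟩ := loc_scalar f U (by omega) (fun x hx => by
      have hli : LinearIndependent F ![y, x] := li2_of hy (fun c hc => hx (by
        rw [hc]
        exact Submodule.smul_mem _ _ (Submodule.mem_span_singleton_self _)))
      by_contra hcon
      push Not at hcon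
      apply h x
      apply li3_of hli
      intro s t hst
      apply hcon t
      rw [hst, add_sub_cancel_right]
      exact Submodule.smul_mem _ _ (Submodule.mem_span_singleton_self _))
    have hK := ker_large f U ν hν
    obtain ⟨k, hkK, hk⟩ := exists_two_indep (LinearMap.ker (f - ν • LinearMap.id)) (by omega) y
    have hk0 : k ≠ 0 := fun e => hk 0 (by simp [e])
    have hfk : f k = ν • k := by
      have : (f - ν • LinearMap.id : V →ₗ[F] V) k = 0 := hkK
      simpa [sub_eq_zero] using this
    obtain ⟨d, hd⟩ := huniq k hk0 ν hfk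
    exact hk d hd
  obtain ⟨z, hz⟩ := hz
  by_cases hc : LinearIndependent F ![z, f z, f (f z)]
  · exact ⟨z, hc⟩
  have hzz : LinearIndependent F ![z, f z] := by
    rw [li2_iff]
    intro s t hst
    have := li3_iff.mp hz 0 s t (by rw [zero_smul, zero_add]; exact hst)
    exact ⟨this.2.1, this.2.2⟩
  have hex : ∃ t s : F, f (f z) = t • z + s • f z := by
    by_contra hcon
    push Not at hcon
    exact hc (li3_of hzz hcon)
  obtain ⟨t, s, hts⟩ := hex
  refine ⟨y + z, ?_⟩
  have e1 : f (y + z) = μ • y + f z := by rw [map_add, hμ]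
  have e2 : f (f (y + z)) = (μ * μ) • y + t • z + s • f z := by
    rw [e1, map_add, map_smul, hμ, hts, smul_smul, add_assoc]
  rw [e2, e1, li3_iff]
  intro a b c habc
  have E : (a + b * μ + c * (μ * μ)) • y + (a + c * t) • z + (b + c * s) • f z = 0 := by
    rw [← habc]
    (module)
  obtain ⟨h1, h2, h3⟩ := li3_iff.mp hz _ _ _ E
  have hc0 : c = 0 := by
    by_contra hc0
    have h4 : μ * μ - s * μ - t = 0 := by
      have : c * (μ * μ - s * μ - t) = 0 := by
        linear_combination h1 - h2 - μ * h3
      exact (mul_eq_zero.mp this).resolve_left hc0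
    -- an eigenvector in the plane
    set e := f z - (s - μ) • z with he
    have he0 : e ≠ 0 := by
      intro h0
      have := li2_iff.mp hzz (-(s - μ)) 1 (by
        rw [neg_smul, one_smul, add_comm, ← sub_eq_add_neg]
        exact h0)
      exact one_ne_zero this.2
    have hfe : f e = μ • e := by
      have : f e = f (f z) - (s - μ) • f z := by
        rw [he, map_sub, map_smul]
      rw [this, hts, he]
      have h5 : t = μ * μ - s * μ := by linear_combination -h4
      rw [h5]
      (module)
    obtain ⟨d, hd⟩ := huniq e he0 μ hfe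
    have h6 : (-d) • y + (-(s - μ)) • z + (1 : F) • f z = 0 := by
      have : e = f z - (s - μ) • z := he
      rw [hd] at this
      rw [neg_smul, neg_smul, one_smul, this]
      abel
    have := li3_iff.mp hz _ _ _ h6
    exact one_ne_zero this.2.2
  subst hc0
  simp only [zero_mul, add_zero] at h1 h2 h3
  refine ⟨h2, h3, rfl⟩

end Cfsg.Agent.Lib.KS2.ClassProd
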