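import Mathlib
import Cfsg.Agent.Lib.KS2.ClassProd3

/-!
Counting eigenvectors of elements of `SL_n(F)`, alignment of conjugates.
-/

set_option autoImplicit false
set_option linter.unusedSectionVars false
set_option linter.unusedVariables false

namespace Cfsg.Agent.Lib.KS2.ClassProd

open Matrix Cfsg.Agent.Lib.KS2.PermSL
open scoped MatrixGroups

universe u

variable {F : Type u} [Field F] [Fintype F] [DecidableEq F] {n : ℕ}

open Classical in
/-- Vectors in a subspace. -/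
lemma card_sub (E : Submodule F (Fin n → F)) :
    (∑ x : Xv F n, if x.1 ∈ E then 1 else 0) + 1 = Fintype.card F ^ Module.finrank F E := by
  have h1 : Fintype.card E = Fintype.card F ^ Module.finrank F E := by
    exact Module.card_eq_pow_finrank (K := F) (V := E)
  rw [← h1]
  have h2 : (∑ x : Xv F n, if x.1 ∈ E then 1 else 0) = ((Finset.univ : Finset E).erase 0).card := by
    rw [← Finset.card_filter]
    refine Finset.card_bij (fun x hx => ⟨x.1, (Finset.mem_filter.mp hx).2⟩) ?_ ?_ ?_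
    · intro x hx
      simp only [Finset.mem_erase, Finset.mem_univ, and_true]
      intro h
      exact x.2 (congrArg Subtype.val h)
    · intro x _ y _ h
      exact Subtype.ext (Subtype.mk.inj h)
    · intro y hy
      simp only [Finset.mem_erase, Finset.mem_univ, and_true] at hy
      refine ⟨⟨y.1, fun h => hy (Subtype.ext h)⟩, ?_, rfl⟩
      simp only [Finset.mem_filter, Finset.mem_univ, true_and]
      exact y.2
  rw [h2, Finset.card_erase_of_mem (Finset.mem_univ _), Finset.card_univ]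
  have : 0 < Fintype.card E := Fintype.card_pos
  omega

lemma card_Xv : Fintype.card (Xv F n) + 1 = Fintype.card F ^ n := by
  classical
  have := card_sub (F := F) (n := n) ⊤
  simp only [Submodule.mem_top, if_true, finrank_top, Module.finrank_fin_fun] at this
  rw [← this]
  simp

lemma card_units' : Fintype.card Fˣ + 1 = Fintype.card F := by
  rw [Fintype.card_units]
  have : 1 < Fintype.card F := Fintype.one_lt_card
  omega

open Classical in
lemma count_one (P : Xv F n → Prop) (x₁ : Xv F n) (h₁ : ∀ x, Dep x₁ x → P x) :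
    Fintype.card Fˣ ≤ ∑ x : Xv F n, if P x then 1 else 0 := by
  rw [← sum_dep x₁]
  refine Finset.sum_le_sum fun x _ => ?_
  by_cases h : Dep x₁ x
  · simp [h, h₁ x h]
  · simp [h]

open Classical in
lemma count_two (P : Xv F n → Prop) (x₁ x₂ : Xv F n) (h₁ : ∀ x, Dep x₁ x → P x) (h₂ : ∀ x, Dep x₂ x → P x) (hne : ¬ Dep x₁ x₂) :
    2 * Fintype.card Fˣ ≤ ∑ x : Xv F n, if P x then 1 else 0 := by
  have e : 2 * Fintype.card Fˣ = (∑ x : Xv F n, if Dep x₁ x then 1 else 0) + ∑ x : Xv F n, if Dep x₂ x then 1 else 0 := by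
    rw [sum_dep, sum_dep]
    ring
  rw [e, ← Finset.sum_add_distrib]
  refine Finset.sum_le_sum fun x _ => ?_
  by_cases h : Dep x₁ x
  · have h3 : ¬ Dep x₂ x := fun h4 => hne (dep_trans h (dep_symm h4))
    simp [h, h3, h₁ x h]
  · by_cases h4 : Dep x₂ x
    · simp [h, h4, h₂ x h4]
    · simp [h, h4]

/-- Number of vectors whose line is invariant under `g`. -/
noncomputable def fx (g : SL(n, F)) : ℕ := fixC (fun x : Xv F n => g • x)

/-- The linear map of a group element. -/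
noncomputable abbrev lin (g : SL(n, F)) : (Fin n → F) →ₗ[F] (Fin n → F) := Matrix.mulVecLin (g : Matrix (Fin n) (Fin n) F)

lemma lin_apply (g : SL(n, F)) (x : Xv F n) : lin g x.1 = (g • x).1 := rfl

lemma dep_act_iff (g : SL(n, F)) (x : Xv F n) : Dep x (g • x) ↔ ∃ c : F, lin g x.1 = c • x.1 := dep_iff

/-- The eigenspace. -/
noncomputable def eigS (g : SL(n, F)) (l : F) : Submodule F (Fin n → F) := LinearMap.ker (lin g - l • LinearMap.id)

lemma mem_eigS (g : SL(n, F)) (l : F) (x : Fin n → F) : x ∈ eigS g l ↔ lin g x = l • x := by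
  simp [eigS, sub_eq_zero]

lemma exists_max_eig (g : SL(n, F)) : ∃ l : F, ∀ m : F, Module.finrank F (eigS g m) ≤ Module.finrank F (eigS g l) := by
  exact Finite.exists_max (fun l : F => Module.finrank F (eigS g l))

open Classical in
/-- Upper bound in terms of the largest eigenspace. -/
lemma fx_le (g : SL(n, F)) (l : F) (hl : ∀ m : F, Module.finrank F (eigS g m) ≤ Module.finrank F (eigS g l)) :
    fx g + Fintype.card Fˣ ≤ Fintype.card Fˣ * Fintype.card F ^ Module.finrank F (eigS g l) := by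
  have h1 : fx g ≤ ∑ c : Fˣ, ∑ x : Xv F n, if x.1 ∈ eigS g (c : F) then 1 else 0 := by
    rw [Finset.sum_comm]
    unfold fx fixC
    refine Finset.sum_le_sum fun x _ => ?_
    by_cases h : Dep x (g • x)
    · rw [if_pos h]
      obtain ⟨c, hc⟩ := dep_iff'.mp h
      refine le_trans ?_ (Finset.single_le_sum (f := fun c : Fˣ => if x.1 ∈ eigS g (c : F) then 1 else 0) (fun _ _ => Nat.zero_le _) (Finset.mem_univ c))
      rw [if_pos]
      rw [mem_eigS]
      exact hc
    · rw [if_neg h]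
      exact Nat.zero_le _
  have h2 : ∀ c : Fˣ, (∑ x : Xv F n, if x.1 ∈ eigS g (c : F) then 1 else 0) + 1 ≤ Fintype.card F ^ Module.finrank F (eigS g l) := by
    intro c
    rw [card_sub]
    exact Nat.pow_le_pow_right Fintype.card_pos (hl _)
  have h3 : (∑ c : Fˣ, ((∑ x : Xv F n, if x.1 ∈ eigS g (c : F) then 1 else 0) + 1)) ≤ ∑ c : Fˣ, Fintype.card F ^ Module.finrank F (eigS g l) :=
    Finset.sum_le_sum fun c _ => h2 c
  rw [Finset.sum_add_distrib] at h3
  simp only [Finset.sum_const, Finset.card_univ, smul_eq_mul, mul_one] at h3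
  omega

/-- If `E` is a hyperplane of eigenvectors, outside `E` there is at most one line of eigenvectors. -/
lemma eig_outside (g : SL(n, F)) {l : F} (hE : Module.finrank F (eigS g l) + 1 = n) {z x : Xv F n}
    (hz : Dep z (g • z)) (hzE : z.1 ∉ eigS g l) (hx : Dep x (g • x)) (hxE : x.1 ∉ eigS g l) : Dep z x := by
  classical
  set E := eigS g l with hEdef
  obtain ⟨l₁, hl₁⟩ := (dep_act_iff g z).mp hz
  obtain ⟨l₂, hl₂⟩ := (dep_act_iff g x).mp hx
  have htop : E ⊔ Submodule.span F {z.1} = ⊤ := by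
    apply Submodule.eq_top_of_finrank_eq
    have hlt : E < E ⊔ Submodule.span F {z.1} := by
      refine lt_of_le_of_ne le_sup_left ?_
      intro h
      apply hzE
      rw [h]
      exact Submodule.mem_sup_right (Submodule.mem_span_singleton_self z.1)
    have h3 := Submodule.finrank_lt_finrank_of_lt hlt
    have h4 := Submodule.finrank_le (E ⊔ Submodule.span F {z.1})
    rw [Module.finrank_fin_fun] at h4 ⊢
    omega
  have hm : x.1 ∈ E ⊔ Submodule.span F {z.1} := by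
    rw [htop]
    trivial
  obtain ⟨u, hu, w, hw, hsum⟩ := Submodule.mem_sup.mp hm
  obtain ⟨α, rfl⟩ := Submodule.mem_span_singleton.mp hw
  have hfu : lin g u = l • u := (mem_eigS g l u).mp hu
  have e1 : lin g x.1 = l • u + (α * l₁) • z.1 := by
    rw [← hsum, map_add, map_smul, hfu, hl₁, smul_smul]
  have e2 : (l - l₂) • u + (α * (l₁ - l₂)) • z.1 = 0 := by
    have : l • u + (α * l₁) • z.1 = l₂ • (u + α • z.1) := by
      rw [← e1, hsum]
      exact hl₂
    linear_combination (norm := module) this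
  have hα : α ≠ 0 := by
    rintro rfl
    apply hxE
    rw [← hsum, zero_smul, add_zero]
    exact hu
  have hl₁₂ : l₁ = l₂ := by
    by_contra hne
    apply hzE
    have hd : α * (l₁ - l₂) ≠ 0 := mul_ne_zero hα (sub_ne_zero.mpr hne)
    have : z.1 = (-( (α * (l₁ - l₂))⁻¹ * (l - l₂))) • u := by
      have h1 : (α * (l₁ - l₂)) • z.1 = -((l - l₂) • u) := eq_neg_of_add_eq_zero_right e2
      have h2 : z.1 = (α * (l₁ - l₂))⁻¹ • ((α * (l₁ - l₂)) • z.1) := by
        rw [smul_smul, inv_mul_cancel₀ hd, one_smul]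
      rw [h2, h1, smul_neg, smul_smul, neg_smul]
    rw [this]
    exact E.smul_mem _ hu
  have hl₂l : l - l₂ ≠ 0 := by
    intro h0
    apply hxE
    rw [mem_eigS]
    rw [hl₂, sub_eq_zero.mp h0]
  have hu0 : u = 0 := by
    rw [hl₁₂, sub_self, mul_zero, zero_smul, add_zero] at e2
    exact (smul_eq_zero.mp e2).resolve_left hl₂l
  refine dep_iff.mpr ⟨α, ?_⟩
  rw [← hsum, hu0, zero_add]

open Classical in
/-- Bound for the number of eigenvectors of a non-scalar element. -/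
lemma fx_le_hyper (hn : 2 ≤ n) (g : SL(n, F)) (hg : ∃ x : Xv F n, ¬ Dep x (g • x)) :
    fx g + 1 ≤ Fintype.card F ^ (n - 1) + Fintype.card Fˣ := by
  obtain ⟨l, hl⟩ := exists_max_eig g
  have hq : 1 ≤ Fintype.card Fˣ := Fintype.card_pos
  have hq' := card_units' (F := F)
  have hle : Module.finrank F (eigS g l) + 1 ≤ n := by
    by_contra hcon
    have h1 : Module.finrank F (eigS g l) = n := by
      have := Submodule.finrank_le (eigS g l)
      rw [Module.finrank_fin_fun] at this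
      omega
    have h2 : eigS g l = ⊤ := by
      apply Submodule.eq_top_of_finrank_eq
      rw [h1, Module.finrank_fin_fun]
    obtain ⟨x, hx⟩ := hg
    apply hx
    rw [dep_act_iff]
    refine ⟨l, ?_⟩
    rw [← mem_eigS, h2]
    trivial
  by_cases hE : Module.finrank F (eigS g l) + 1 = n
  · -- hyperplane case
    have h1 := card_sub (eigS g l)
    rw [show Module.finrank F (eigS g l) = n - 1 by omega] at h1
    by_cases hz : ∃ z : Xv F n, Dep z (g • z) ∧ z.1 ∉ eigS g l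
    · obtain ⟨z, hz1, hz2⟩ := hz
      have h2 : fx g ≤ (∑ x : Xv F n, if x.1 ∈ eigS g l then 1 else 0) + ∑ x : Xv F n, if Dep z x then 1 else 0 := by
        rw [← Finset.sum_add_distrib]
        unfold fx fixC
        refine Finset.sum_le_sum fun x _ => ?_
        by_cases hx : Dep x (g • x)
        · rw [if_pos hx]
          by_cases hxE : x.1 ∈ eigS g l
          · rw [if_pos hxE]
            omega
          · rw [if_pos (eig_outside g hE hz1 hz2 hx hxE)]
            omega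
        · rw [if_neg hx]
          omega
      rw [sum_dep] at h2
      omega
    · push Not at hz
      have h2 : fx g ≤ (∑ x : Xv F n, if x.1 ∈ eigS g l then 1 else 0) := by
        unfold fx fixC
        refine Finset.sum_le_sum fun x _ => ?_
        by_cases hx : Dep x (g • x)
        · rw [if_pos hx, if_pos (hz x hx)]
        · rw [if_neg hx]
          omega
      omega
  · have h1 := fx_le g l hl
    have h2 : Module.finrank F (eigS g l) + 2 ≤ n := by omega
    have h3 : Fintype.card F ^ Module.finrank F (eigS g l) ≤ Fintype.card F ^ (n - 2) := Nat.pow_le_pow_right (by omega) (by omega)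
    have h4 : Fintype.card F ^ (n - 1) = Fintype.card F * Fintype.card F ^ (n - 2) := by
      rw [← pow_succ']
      congr 1
      omega
    rw [h4]
    have h5 : Fintype.card Fˣ * Fintype.card F ^ Module.finrank F (eigS g l) ≤ Fintype.card Fˣ * Fintype.card F ^ (n - 2) := Nat.mul_le_mul_left _ h3
    have h6 : Fintype.card F * Fintype.card F ^ (n - 2) = Fintype.card Fˣ * Fintype.card F ^ (n - 2) + Fintype.card F ^ (n - 2) := by
      calc Fintype.card F * Fintype.card F ^ (n - 2) = (Fintype.card Fˣ + 1) * Fintype.card F ^ (n - 2) := by rw [hq']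
        _ = _ := by ring
    have h7 : 1 ≤ Fintype.card F ^ (n - 2) := Nat.one_le_pow _ _ (by omega)
    omega

/-! ### Agreement -/

/-- The agreement predicate. -/
def Ag (σ ρ h : SL(n, F)) (x : Xv F n) : Prop := Dep (h • ρ • h⁻¹ • x) (σ • x)

open Classical in
lemma cnt_eq_Ag (σ ρ h : SL(n, F)) :
    cnt (fun x : Xv F n => σ • x) (fun x => h • (fun y : Xv F n => ρ • y) (h⁻¹ • x)) = ∑ x : Xv F n, if Ag σ ρ h x then 1 else 0 := rfl

lemma Ag_closed {σ ρ h : SL(n, F)} {x₁ x : Xv F n} (h₁ : Ag σ ρ h x₁) (hd : Dep x₁ x) : Ag σ ρ h x := by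
  have a1 : Dep (h⁻¹ • x₁) (h⁻¹ • x) := (dep_smul _).mpr hd
  have a2 : Dep (ρ • h⁻¹ • x₁) (ρ • h⁻¹ • x) := (dep_smul _).mpr a1
  have a3 : Dep (h • ρ • h⁻¹ • x₁) (h • ρ • h⁻¹ • x) := (dep_smul _).mpr a2
  have a4 : Dep (σ • x₁) (σ • x) := (dep_smul _).mpr hd
  exact dep_trans (dep_symm a3) (dep_trans h₁ a4)

/-- The alignment criterion. -/
lemma Ag_of {σ ρ h : SL(n, F)} {u v : Xv F n} (h1 : Dep (h • u) v) (h2 : Dep (h • ρ • u) (σ • v)) : Ag σ ρ h v := by
  have a1 : Dep (h • u) (h • h⁻¹ • v) := by rwa [smul_inv_smul]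
  have a2 : Dep u (h⁻¹ • v) := (dep_smul _).mp a1
  have a3 : Dep (ρ • u) (ρ • h⁻¹ • v) := (dep_smul _).mpr a2
  have a4 : Dep (h • ρ • u) (h • ρ • h⁻¹ • v) := (dep_smul _).mpr a3
  exact dep_trans (dep_symm a4) h2

lemma dep_of_eq {x y : Xv F n} {c : F} (h : y.1 = c • x.1) : Dep x y := dep_iff.mpr ⟨c, h⟩

lemma smul_coe' (g : SL(n, F)) (x : Xv F n) : (g • x).1 = lin g x.1 := rfl

/-- A nonzero vector from an independent family. -/
lemma xv_of {k : ℕ} {u : Fin k → (Fin n → F)} (hu : LinearIndependent F u) (i : Fin k) : u i ≠ 0 := hu.ne_zero i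

open Classical in
/-- First alignment: a point of agreement. -/
lemma align_one (hn : 3 ≤ n) {σ ρ : SL(n, F)} (hσ : ∃ x : Xv F n, ¬ Dep x (σ • x)) (hρ : ∃ x : Xv F n, ¬ Dep x (ρ • x)) :
    ∃ h : SL(n, F), Fintype.card Fˣ ≤ ∑ x : Xv F n, if Ag σ ρ h x then 1 else 0 := by
  obtain ⟨x, hx⟩ := hσ
  obtain ⟨w, hw⟩ := hρ
  have hx' : LinearIndependent F ![x.1, (σ • x).1] := lin_indep_of_ind x.2 (not_not.mp hx)
  have hw' : LinearIndependent F ![w.1, (ρ • w).1] := lin_indep_of_ind w.2 (not_not.mp hw)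
  obtain ⟨h, hh⟩ := ext_lt (by omega) hw' hx'
  refine ⟨h, count_one _ x (fun y hy => Ag_closed (Ag_of (u := w) ?_ ?_) hy)⟩
  · exact dep_of_eq (c := 1) (by
      rw [one_smul]
      exact (hh 0).symm)
  · exact dep_of_eq (c := 1) (by
      rw [one_smul]
      exact (hh 1).symm)

open Classical in
/-- Two agreement points from a fixed point and an arc. -/
lemma align_fixed_arc (hn : 3 ≤ n) {σ ρ : SL(n, F)} (hσ : ∃ x : Xv F n, ¬ Dep x (σ • x)) (hρ : ∃ x : Xv F n, ¬ Dep x (ρ • x))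
    (hσe : ∃ x : Xv F n, Dep x (σ • x)) (hρe : ∃ x : Xv F n, Dep x (ρ • x)) :
    ∃ h : SL(n, F), 2 * Fintype.card Fˣ ≤ ∑ x : Xv F n, if Ag σ ρ h x then 1 else 0 := by
  have hr : 3 ≤ Module.finrank F (Fin n → F) := by rwa [Module.finrank_fin_fun]
  have hNS : ∀ g : SL(n, F), (∃ x : Xv F n, ¬ Dep x (g • x)) → NS (lin g) := by
    rintro g ⟨x, hx⟩
    refine ⟨x.1, fun c hc => hx ?_⟩
    exact (dep_act_iff g x).mpr ⟨c, hc⟩
  obtain ⟨x₀, hx₀⟩ := hσe
  obtain ⟨c₁, hc₁⟩ := (dep_act_iff σ x₀).mp hx₀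
  obtain ⟨y₀, hy₀⟩ := hρe
  obtain ⟨c₂, hc₂⟩ := (dep_act_iff ρ y₀).mp hy₀
  obtain ⟨x, t, hx0, ⟨lx, hlx⟩, hlit⟩ := exists_fixed_arc (lin σ) hr (hNS σ hσ) x₀.2 hc₁
  obtain ⟨y, z, hy0, ⟨ly, hly⟩, hliz⟩ := exists_fixed_arc (lin ρ) hr (hNS ρ hρ) y₀.2 hc₂
  obtain ⟨h, c, hc, hh⟩ := ext_le (by norm_num) hliz hlit
  let X : Xv F n := ⟨x, hx0⟩
  let Y : Xv F n := ⟨y, hy0⟩
  have ht0 : t ≠ 0 := by
    have := xv_of hlit 1
    simpa using this
  have hz0 : z ≠ 0 := by
    have := xv_of hliz 1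
    simpa using this
  let T : Xv F n := ⟨t, ht0⟩
  let Z : Xv F n := ⟨z, hz0⟩
  have hX : Dep X (σ • X) := (dep_act_iff σ X).mpr ⟨lx, hlx⟩
  have hY : Dep Y (ρ • Y) := (dep_act_iff ρ Y).mpr ⟨ly, hly⟩
  have e0 : Dep (h • Y) X := by
    refine dep_symm (dep_of_eq (c := c 0) ?_)
    exact hh 0
  have e1 : Dep (h • Z) T := by
    refine dep_symm (dep_of_eq (c := c 1) ?_)
    exact hh 1
  have e2 : Dep (h • ρ • Z) (σ • T) := by
    refine dep_symm (dep_of_eq (c := c 2) ?_)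
    exact hh 2
  have a1 : Ag σ ρ h X := by
    apply Ag_of (u := Y) e0
    have : Dep (h • Y) (h • ρ • Y) := (dep_smul _).mpr hY
    exact dep_trans (dep_symm this) (dep_trans e0 hX)
  have a2 : Ag σ ρ h T := Ag_of (u := Z) e1 e2
  refine ⟨h, count_two _ X T (fun _ hy => Ag_closed a1 hy) (fun _ hy => Ag_closed a2 hy) ?_⟩
  intro hd
  obtain ⟨d, hd⟩ := dep_iff.mp hd
  have h3 := li3_iff.mp hlit (-d) 1 0 (by
    show (-d) • x + (1 : F) • t + (0 : F) • (lin σ t) = 0
    have : t = d • x := hd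
    rw [this]
    simp)
  exact one_ne_zero h3.2.1

open Classical in
/-- Two agreement points from arcs, in dimension at least four. -/
lemma align_pair (hn : 4 ≤ n) {σ ρ : SL(n, F)} (hσ : ∃ x : Xv F n, ¬ Dep x (σ • x)) (hρ : ∃ x : Xv F n, ¬ Dep x (ρ • x))
    (hσK : ∀ ν : F, Module.finrank F (LinearMap.ker (lin σ - ν • LinearMap.id)) ≤ 1)
    (hρK : ∀ ν : F, Module.finrank F (LinearMap.ker (lin ρ - ν • LinearMap.id)) ≤ 1) :
    ∃ h : SL(n, F), 2 * Fintype.card Fˣ ≤ ∑ x : Xv F n, if Ag σ ρ h x then 1 else 0 := by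
  have hr : 4 ≤ Module.finrank F (Fin n → F) := by rwa [Module.finrank_fin_fun]
  have hNS : ∀ g : SL(n, F), (∃ x : Xv F n, ¬ Dep x (g • x)) → NS (lin g) := by
    rintro g ⟨x, hx⟩
    refine ⟨x.1, fun c hc => hx ?_⟩
    exact (dep_act_iff g x).mpr ⟨c, hc⟩
  obtain ⟨z₁, z₂, hz⟩ := exists_pair (lin σ) hr (hNS σ hσ) hσK
  obtain ⟨w₁, w₂, hw⟩ := exists_pair (lin ρ) hr (hNS ρ hρ) hρK
  obtain ⟨h, c, hc, hh⟩ := ext_le (by norm_num) hw hz
  have n1 : z₁ ≠ 0 := by simpa using xv_of hz 0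
  have n2 : z₂ ≠ 0 := by simpa using xv_of hz 1
  have m1 : w₁ ≠ 0 := by simpa using xv_of hw 0
  have m2 : w₂ ≠ 0 := by simpa using xv_of hw 1
  let Z₁ : Xv F n := ⟨z₁, n1⟩
  let Z₂ : Xv F n := ⟨z₂, n2⟩
  let W₁ : Xv F n := ⟨w₁, m1⟩
  let W₂ : Xv F n := ⟨w₂, m2⟩
  have a1 : Ag σ ρ h Z₁ := Ag_of (u := W₁) (dep_symm (dep_of_eq (c := c 0) (hh 0))) (dep_symm (dep_of_eq (c := c 2) (hh 2)))
  have a2 : Ag σ ρ h Z₂ := Ag_of (u := W₂) (dep_symm (dep_of_eq (c := c 1) (hh 1))) (dep_symm (dep_of_eq (c := c 3) (hh 3)))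
  refine ⟨h, count_two _ Z₁ Z₂ (fun _ hy => Ag_closed a1 hy) (fun _ hy => Ag_closed a2 hy) ?_⟩
  intro hd
  obtain ⟨d, hd⟩ := dep_iff.mp hd
  have h3 := li4_iff.mp hz (-d) 1 0 0 (by
    have : z₂ = d • z₁ := hd
    rw [this]
    simp)
  exact one_ne_zero h3.2.1

open Classical in
/-- Two agreement points from paths. -/
lemma align_path {σ ρ : SL(n, F)} {x w : Fin n → F} (hx : LinearIndependent F ![x, lin σ x, lin σ (lin σ x)])
    (hw : LinearIndependent F ![w, lin ρ w, lin ρ (lin ρ w)]) :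
    ∃ h : SL(n, F), 2 * Fintype.card Fˣ ≤ ∑ x : Xv F n, if Ag σ ρ h x then 1 else 0 := by
  obtain ⟨h, c, hc, hh⟩ := ext_le (by norm_num) hw hx
  have n1 : x ≠ 0 := by simpa using xv_of hx 0
  have n2 : lin σ x ≠ 0 := by simpa using xv_of hx 1
  have m1 : w ≠ 0 := by simpa using xv_of hw 0
  have m2 : lin ρ w ≠ 0 := by simpa using xv_of hw 1
  let X₁ : Xv F n := ⟨x, n1⟩
  let X₂ : Xv F n := ⟨lin σ x, n2⟩
  let W₁ : Xv F n := ⟨w, m1⟩
  let W₂ : Xv F n := ⟨lin ρ w, m2⟩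
  have a1 : Ag σ ρ h X₁ := Ag_of (u := W₁) (dep_symm (dep_of_eq (c := c 0) (hh 0))) (dep_symm (dep_of_eq (c := c 1) (hh 1)))
  have a2 : Ag σ ρ h X₂ := Ag_of (u := W₂) (dep_symm (dep_of_eq (c := c 1) (hh 1))) (dep_symm (dep_of_eq (c := c 2) (hh 2)))
  refine ⟨h, count_two _ X₁ X₂ (fun _ hy => Ag_closed a1 hy) (fun _ hy => Ag_closed a2 hy) ?_⟩
  intro hd
  obtain ⟨d, hd⟩ := dep_iff.mp hd
  have h3 := li3_iff.mp hx (-d) 1 0 (by
    have : lin σ x = d • x := hd
    rw [this]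
    simp)
  exact one_ne_zero h3.2.1

open Classical in
/-- Two agreement points from fixed points. -/
lemma align_two_eig (hn : 3 ≤ n) {σ ρ : SL(n, F)} {x₁ x₂ y₁ y₂ : Xv F n} (hx₁ : Dep x₁ (σ • x₁)) (hx₂ : Dep x₂ (σ • x₂)) (hx : ¬ Dep x₁ x₂)
    (hy₁ : Dep y₁ (ρ • y₁)) (hy₂ : Dep y₂ (ρ • y₂)) (hy : ¬ Dep y₁ y₂) :
    ∃ h : SL(n, F), 2 * Fintype.card Fˣ ≤ ∑ x : Xv F n, if Ag σ ρ h x then 1 else 0 := by
  have hx' : LinearIndependent F ![x₁.1, x₂.1] := lin_indep_of_ind x₁.2 (not_not.mp hx)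
  have hy' : LinearIndependent F ![y₁.1, y₂.1] := lin_indep_of_ind y₁.2 (not_not.mp hy)
  obtain ⟨h, hh⟩ := ext_lt (by omega) hy' hx'
  have e1 : Dep (h • y₁) x₁ := dep_of_eq (c := 1) (by
    rw [one_smul]
    exact (hh 0).symm)
  have e2 : Dep (h • y₂) x₂ := dep_of_eq (c := 1) (by
    rw [one_smul]
    exact (hh 1).symm)
  have a1 : Ag σ ρ h x₁ := by
    apply Ag_of (u := y₁) e1
    have : Dep (h • y₁) (h • ρ • y₁) := (dep_smul _).mpr hy₁
    exact dep_trans (dep_symm this) (dep_trans e1 hx₁)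
  have a2 : Ag σ ρ h x₂ := by
    apply Ag_of (u := y₂) e2
    have : Dep (h • y₂) (h • ρ • y₂) := (dep_smul _).mpr hy₂
    exact dep_trans (dep_symm this) (dep_trans e2 hx₂)
  exact ⟨h, count_two _ x₁ x₂ (fun _ hy => Ag_closed a1 hy) (fun _ hy => Ag_closed a2 hy) hx⟩

open Classical in
/-- Aligning eigenspaces. -/
lemma align_sub {σ ρ : SL(n, F)} {l μ : F}
    (hle : Module.finrank F (eigS ρ μ) ≤ Module.finrank F (eigS σ l)) (hlt : Module.finrank F (eigS ρ μ) < n) :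
    ∃ h : SL(n, F), Fintype.card F ^ Module.finrank F (eigS ρ μ) ≤ (∑ x : Xv F n, if Ag σ ρ h x then 1 else 0) + 1 := by
  obtain ⟨h, hh⟩ := subspace_align hle hlt
  refine ⟨h, ?_⟩
  rw [← card_sub (eigS ρ μ)]
  apply Nat.add_le_add_right
  have e : (∑ x : Xv F n, if Ag σ ρ h x then 1 else 0) = ∑ y : Xv F n, if Ag σ ρ h (h • y) then 1 else 0 :=
    (Equiv.sum_comp (MulAction.toPerm h) (fun x => if Ag σ ρ h x then 1 else 0)).symm
  rw [e]
  refine Finset.sum_le_sum fun y _ => ?_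
  by_cases hy : y.1 ∈ eigS ρ μ
  · rw [if_pos hy, if_pos]
    apply Ag_of (u := y) (dep_refl _)
    have h1 : (h • y).1 ∈ eigS σ l := hh y.1 hy
    have h2 : lin σ (h • y).1 = l • (h • y).1 := (mem_eigS σ l _).mp h1
    have h3 : lin ρ y.1 = μ • y.1 := (mem_eigS ρ μ _).mp hy
    have h4 : Dep (h • y) (σ • h • y) := (dep_act_iff σ _).mpr ⟨l, h2⟩
    have h5 : Dep y (ρ • y) := (dep_act_iff ρ _).mpr ⟨μ, h3⟩
    have h6 : Dep (h • y) (h • ρ • y) := (dep_smul _).mpr h5
    exact dep_trans (dep_symm h6) h4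
  · rw [if_neg hy]
    exact Nat.zero_le _

end Cfsg.Agent.Lib.KS2.ClassProd
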