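import Mathlib
import Cfsg.Agent.Lib.KS2.ClassProd4

/-!
Products of two conjugacy classes in `PSL_d(F)`, `d ≥ 3`, are never a single class.
-/

set_option autoImplicit false
set_option linter.unusedSectionVars false
set_option linter.unusedVariables false

namespace Cfsg.Agent.Lib.KS2.ClassProd

open Matrix Cfsg.Agent.Lib.KS2.PermSL
open scoped MatrixGroups

universe u

variable {F : Type u} [Field F] [Fintype F] [DecidableEq F] {n : ℕ}

open Classical in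
lemma swap_cnt (σ ρ h : SL(n, F)) :
    (∑ x : Xv F n, if Ag ρ σ h x then 1 else 0) = ∑ x : Xv F n, if Ag σ ρ h⁻¹ x then 1 else 0 := by
  refine (Equiv.sum_comp (MulAction.toPerm h) _).symm.trans ?_
  refine Finset.sum_congr rfl fun y _ => ?_
  have : Ag ρ σ h (h • y) ↔ Ag σ ρ h⁻¹ y := by
    unfold Ag
    rw [inv_smul_smul, inv_inv]
    constructor
    · intro h1
      have h2 : Dep (h⁻¹ • h • σ • y) (h⁻¹ • ρ • h • y) := (dep_smul _).mpr h1
      rw [inv_smul_smul] at h2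
      exact dep_symm h2
    · intro h1
      have h2 : Dep (h • h⁻¹ • ρ • h • y) (h • σ • y) := (dep_smul _).mpr h1
      rw [smul_inv_smul] at h2
      exact dep_symm h2
  simp only [MulAction.toPerm_apply, this]

open Classical in
lemma tri (g : SL(n, F)) :
    ((∀ x : Xv F n, ¬ Dep x (g • x)) ∧ fx g = 0) ∨
    ((∃ y : Xv F n, Dep y (g • y) ∧ ∀ x, Dep x (g • x) → Dep y x) ∧ fx g = Fintype.card Fˣ) ∨
    ((∃ x y : Xv F n, Dep x (g • x) ∧ Dep y (g • y) ∧ ¬ Dep x y) ∧ 2 * Fintype.card Fˣ ≤ fx g) := by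
  have hclosed : ∀ y x : Xv F n, Dep y (g • y) → Dep y x → Dep x (g • x) := by
    intro y x h1 h2
    have h3 : Dep (g • y) (g • x) := (dep_smul _).mpr h2
    exact dep_trans (dep_symm h2) (dep_trans h1 h3)
  by_cases h0 : ∀ x : Xv F n, ¬ Dep x (g • x)
  · left
    refine ⟨h0, ?_⟩
    unfold fx fixC
    exact Finset.sum_eq_zero fun x _ => if_neg (h0 x)
  push Not at h0
  obtain ⟨y, hy⟩ := h0
  by_cases h1 : ∀ x, Dep x (g • x) → Dep y x
  · right; left
    refine ⟨⟨y, hy, h1⟩, ?_⟩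
    rw [← sum_dep y]
    unfold fx fixC
    refine Finset.sum_congr rfl fun x _ => ?_
    by_cases hx : Dep y x
    · rw [if_pos hx, if_pos (hclosed y x hy hx)]
    · rw [if_neg hx, if_neg (fun h => hx (h1 x h))]
  · right; right
    push Not at h1
    obtain ⟨x, hx, hxy⟩ := h1
    refine ⟨⟨y, x, hy, hx, hxy⟩, ?_⟩
    exact count_two _ y x (fun z hz => hclosed y z hy hz) (fun z hz => hclosed x z hx hz) hxy

lemma eig_ne_top {g : SL(n, F)} (hg : ∃ x : Xv F n, ¬ Dep x (g • x)) (l : F) : Module.finrank F (eigS g l) < n := by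
  by_contra hcon
  have h1 : Module.finrank F (eigS g l) = n := by
    have := Submodule.finrank_le (eigS g l)
    rw [Module.finrank_fin_fun] at this
    omega
  have h2 : eigS g l = ⊤ := by
    apply Submodule.eq_top_of_finrank_eq
    rw [h1, Module.finrank_fin_fun]
  obtain ⟨x, hx⟩ := hg
  apply hx
  rw [dep_act_iff]
  refine ⟨l, ?_⟩
  rw [← mem_eigS, h2]
  trivial

/-- Case of no eigenvector against a unique eigenline. -/
lemma case_zero_one (hn : 3 ≤ n) {σ ρ : SL(n, F)} (hσ0 : ∀ x : Xv F n, ¬ Dep x (σ • x))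
    (hρ : ∃ x : Xv F n, ¬ Dep x (ρ • x)) {y : Xv F n} (hy : Dep y (ρ • y)) (hyu : ∀ x, Dep x (ρ • x) → Dep y x) :
    open Classical in ∃ h : SL(n, F), 2 * Fintype.card Fˣ ≤ ∑ x : Xv F n, if Ag σ ρ h x then 1 else 0 := by
  classical
  have hσe : ∀ x : Fin n → F, x ≠ 0 → ∀ c : F, lin σ x ≠ c • x := by
    intro x hx c hc
    exact hσ0 ⟨x, hx⟩ ((dep_act_iff σ _).mpr ⟨c, hc⟩)
  obtain ⟨μ, hμ⟩ := (dep_act_iff ρ y).mp hy
  have hρe : ∀ x : Fin n → F, x ≠ 0 → ∀ c : F, lin ρ x = c • x → ∃ d : F, x = d • y.1 := by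
    intro x hx c hc
    exact dep_iff.mp (hyu ⟨x, hx⟩ ((dep_act_iff ρ _).mpr ⟨c, hc⟩))
  rcases Nat.lt_or_ge n 4 with h4 | h4
  · have hn3 : n = 3 := by omega
    subst hn3
    have hr : Module.finrank F (Fin 3 → F) = 3 := by simp
    obtain ⟨w, hw⟩ := path_uniq_eig (lin ρ) hr y.2 hμ hρe
    have e1 : (1 : Fin 3) ≠ 0 := by decide
    have hx0 : (Pi.single 0 1 : Fin 3 → F) ≠ 0 := by
      intro h
      have := congrFun h 0
      simp at this
    exact align_path (path_no_eig (lin σ) hr hσe hx0) hw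
  · refine align_pair h4 ?_ hρ ?_ ?_
    · obtain ⟨i⟩ : Nonempty (Fin n) := ⟨⟨0, by omega⟩⟩
      have hx0 : (Pi.single i 1 : Fin n → F) ≠ 0 := by
        intro h
        have := congrFun h i
        simp at this
      exact ⟨⟨_, hx0⟩, hσ0 _⟩
    · intro ν
      have : LinearMap.ker (lin σ - ν • LinearMap.id) = ⊥ := by
        rw [Submodule.eq_bot_iff]
        intro x hx
        by_contra h0
        apply hσe x h0 ν
        have h1 : (lin σ - ν • LinearMap.id : (Fin n → F) →ₗ[F] (Fin n → F)) x = 0 := hx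
        simpa [sub_eq_zero] using h1
      rw [this, finrank_bot]
      omega
    · intro ν
      have hle : LinearMap.ker (lin ρ - ν • LinearMap.id) ≤ Submodule.span F {y.1} := by
        intro x hx
        by_cases h0 : x = 0
        · rw [h0]
          exact Submodule.zero_mem _
        have h1 : (lin ρ - ν • LinearMap.id : (Fin n → F) →ₗ[F] (Fin n → F)) x = 0 := hx
        have h2 : lin ρ x = ν • x := by simpa [sub_eq_zero] using h1
        obtain ⟨d, hd⟩ := hρe x h0 ν h2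
        rw [hd]
        exact Submodule.smul_mem _ _ (Submodule.mem_span_singleton_self _)
      have h3 := Submodule.finrank_mono hle
      rw [finrank_span_singleton y.2] at h3
      exact h3

lemma arith_final (Q X A B c R : ℤ) (hQ : 0 < Q) (hX : 0 < X) (hI : (c - Q) * ((Q + 1) * X) = (A - Q) * (B - Q))
    (hA : A - Q ≤ X) (hB : 0 ≤ B - Q) (hBR : B ≤ Q * R) (hc : R ≤ c) (hc2 : 2 * Q ≤ c) (hR : R = Q ∨ Q * (Q + 2) ≤ R) : False := by
  have h1 : (A - Q) * (B - Q) ≤ X * (B - Q) := mul_le_mul_of_nonneg_right hA hB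
  have h2 : (c - Q) * (Q + 1) ≤ B - Q := by
    have h3 : X * ((c - Q) * (Q + 1)) ≤ X * (B - Q) := by
      calc X * ((c - Q) * (Q + 1)) = (c - Q) * ((Q + 1) * X) := by ring
        _ = (A - Q) * (B - Q) := hI
        _ ≤ _ := h1
    exact le_of_mul_le_mul_left h3 hX
  rcases hR with rfl | hR
  · have h3 : (R) * (R + 1) ≤ (c - R) * (R + 1) := by
      apply mul_le_mul_of_nonneg_right <;> linarith
    nlinarith
  · have h3 : (R - Q) * (Q + 1) ≤ (c - Q) * (Q + 1) := by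
      apply mul_le_mul_of_nonneg_right <;> linarith
    nlinarith

/-- The numerical facts. -/
lemma Tq_facts (hn : 3 ≤ n) :
    ∃ X : ℤ, 0 < X ∧ (X = (Fintype.card F : ℤ) ^ (n - 1) - 1) ∧
      ((Fintype.card (Xv F n) : ℤ) - Fintype.card Fˣ = ((Fintype.card Fˣ : ℤ) + 1) * X) ∧
      (Fintype.card Fˣ : ℤ) ^ 2 < (Fintype.card (Xv F n) : ℤ) - Fintype.card Fˣ := by
  have h1 := card_Xv (F := F) (n := n)
  have h2 := card_units' (F := F)
  have h1' : (Fintype.card (Xv F n) : ℤ) + 1 = (Fintype.card F : ℤ) ^ n := by exact_mod_cast h1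
  have h2' : (Fintype.card Fˣ : ℤ) + 1 = Fintype.card F := by exact_mod_cast h2
  have hQ : (0 : ℤ) < Fintype.card Fˣ := by exact_mod_cast (Fintype.card_pos : 0 < Fintype.card Fˣ)
  set Q : ℤ := (Fintype.card Fˣ : ℤ) with hQdef
  set q : ℤ := (Fintype.card F : ℤ) with hqdef
  have hq2 : 2 ≤ q := by omega
  obtain ⟨k, rfl⟩ : ∃ k, n = k + 3 := ⟨n - 3, by omega⟩
  have hp : q ^ (k + 3 - 1) = q ^ k * (q * q) := by
    have : k + 3 - 1 = k + 2 := by omega
    rw [this]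
    ring
  have hk1 : 1 ≤ q ^ k := one_le_pow₀ (by omega)
  have hX : 0 < q ^ (k + 3 - 1) - 1 := by
    rw [hp]
    nlinarith
  refine ⟨q ^ (k + 3 - 1) - 1, hX, rfl, ?_, ?_⟩
  · have e : q ^ (k + 3) = q * q ^ (k + 3 - 1) := by
      have : k + 3 = (k + 3 - 1) + 1 := by omega
      conv_lhs => rw [this, pow_succ']
    have e2 : (Fintype.card (Xv F (k + 3)) : ℤ) = q ^ (k + 3) - 1 := by linarith
    rw [e2, e, ← h2']
    ring
  · have e : q ^ (k + 3) = q * q ^ (k + 3 - 1) := by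
      have : k + 3 = (k + 3 - 1) + 1 := by omega
      conv_lhs => rw [this, pow_succ']
    have e2 : (Fintype.card (Xv F (k + 3)) : ℤ) = q ^ (k + 3) - 1 := by linarith
    rw [e2, e, hp]
    have h3 : q * (q * q) ≤ q * (q ^ k * (q * q)) := by
      apply mul_le_mul_of_nonneg_left _ (by omega)
      nlinarith [mul_pos (show (0 : ℤ) < q by omega) (show (0 : ℤ) < q by omega)]
    have hqQ : q = Q + 1 := by omega
    rw [hqQ] at h3 ⊢
    nlinarith

open Classical in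
/-- The case of at least two eigenlines each. -/
lemma case_two_two (hn : 3 ≤ n) {σ ρ : SL(n, F)} (hσ : ∃ x : Xv F n, ¬ Dep x (σ • x)) (hρ : ∃ x : Xv F n, ¬ Dep x (ρ • x)) (c : ℕ)
    (hc : ∀ h : SL(n, F), (∑ x : Xv F n, if Ag σ ρ h x then 1 else 0) = c)
    (hI : ((c : ℤ) - Fintype.card Fˣ) * ((Fintype.card (Xv F n) : ℤ) - Fintype.card Fˣ) =
      ((fx σ : ℤ) - Fintype.card Fˣ) * ((fx ρ : ℤ) - Fintype.card Fˣ))
    {x₁ x₂ y₁ y₂ : Xv F n} (hx₁ : Dep x₁ (σ • x₁)) (hx₂ : Dep x₂ (σ • x₂)) (hx : ¬ Dep x₁ x₂)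
    (hy₁ : Dep y₁ (ρ • y₁)) (hy₂ : Dep y₂ (ρ • y₂)) (hy : ¬ Dep y₁ y₂) (hB : 2 * Fintype.card Fˣ ≤ fx ρ)
    {l μ : F} (hμ : ∀ m : F, Module.finrank F (eigS ρ m) ≤ Module.finrank F (eigS ρ μ))
    (hle : Module.finrank F (eigS ρ μ) ≤ Module.finrank F (eigS σ l)) : False := by
  obtain ⟨X, hX, hXd, hT, -⟩ := Tq_facts (F := F) hn
  obtain ⟨h₁, h1⟩ := align_sub hle (eig_ne_top hρ μ)
  obtain ⟨h₂, h2⟩ := align_two_eig hn hx₁ hx₂ hx hy₁ hy₂ hy
  rw [hc] at h1 h2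
  have h3 := fx_le ρ μ hμ
  have h4 := fx_le_hyper (by omega) σ hσ
  have hq2 := card_units' (F := F)
  have hQ : (0 : ℤ) < Fintype.card Fˣ := by exact_mod_cast (Fintype.card_pos : 0 < Fintype.card Fˣ)
  have hq2' : (Fintype.card Fˣ : ℤ) + 1 = Fintype.card F := by exact_mod_cast hq2
  -- the dimension is at least one
  obtain ⟨e₁, he₁⟩ := (dep_act_iff ρ y₁).mp hy₁
  have hf1 : 1 ≤ Module.finrank F (eigS ρ μ) := by
    refine le_trans ?_ (hμ e₁)
    have : y₁.1 ∈ eigS ρ e₁ := (mem_eigS _ _ _).mpr he₁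
    have hne : eigS ρ e₁ ≠ ⊥ := by
      intro h0
      rw [h0] at this
      exact y₁.2 ((Submodule.mem_bot F).mp this)
    exact Nat.one_le_iff_ne_zero.mpr (fun h => hne (Submodule.finrank_eq_zero.mp h))
  set f := Module.finrank F (eigS ρ μ) with hf
  have h1' : (Fintype.card F : ℤ) ^ f ≤ (c : ℤ) + 1 := by exact_mod_cast h1
  have h2' : 2 * (Fintype.card Fˣ : ℤ) ≤ (c : ℤ) := by exact_mod_cast h2
  have h3' : (fx ρ : ℤ) + (Fintype.card Fˣ : ℤ) ≤ (Fintype.card Fˣ : ℤ) * (Fintype.card F : ℤ) ^ f := by exact_mod_cast h3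
  have h4' : (fx σ : ℤ) + 1 ≤ (Fintype.card F : ℤ) ^ (n - 1) + (Fintype.card Fˣ : ℤ) := by exact_mod_cast h4
  have hB' : 2 * (Fintype.card Fˣ : ℤ) ≤ (fx ρ : ℤ) := by exact_mod_cast hB
  set Q : ℤ := (Fintype.card Fˣ : ℤ) with hQdef
  set q : ℤ := (Fintype.card F : ℤ) with hqdef
  rw [hT] at hI
  apply arith_final Q X (fx σ) (fx ρ) c (q ^ f - 1) hQ hX hI (by linarith) (by linarith) (by linarith) (by linarith) h2'
  -- `R`
  rcases Nat.lt_or_ge f 2 with h | h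
  · left
    have : f = 1 := by omega
    rw [this, pow_one]
    linarith
  · right
    have hp : q ^ 2 ≤ q ^ f := pow_le_pow_right₀ (by linarith) h
    have hqQ : q = Q + 1 := by linarith
    rw [hqQ] at hp ⊢
    nlinarith

open Classical in
/-- No element of the form "all products have the same number of fixed lines". -/
theorem no_const (hn : 3 ≤ n) {σ ρ : SL(n, F)} (hσ : ∃ x : Xv F n, ¬ Dep x (σ • x)) (hρ : ∃ x : Xv F n, ¬ Dep x (ρ • x)) (c : ℕ)
    (hc : ∀ h : SL(n, F), (∑ x : Xv F n, if Ag σ ρ h x then 1 else 0) = c) : False := by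
  have hI := avg_identity hn (fun x : Xv F n => σ • x) (fun x : Xv F n => ρ • x) c hc
  have hI' : ((c : ℤ) - Fintype.card Fˣ) * ((Fintype.card (Xv F n) : ℤ) - Fintype.card Fˣ) =
      ((fx σ : ℤ) - Fintype.card Fˣ) * ((fx ρ : ℤ) - Fintype.card Fˣ) := hI
  have hcs : ∀ h : SL(n, F), (∑ x : Xv F n, if Ag ρ σ h x then 1 else 0) = c := by
    intro h
    rw [swap_cnt]
    exact hc _
  obtain ⟨X, hX, hXd, hT, hTQ⟩ := Tq_facts (F := F) hn
  have hQ : (0 : ℤ) < Fintype.card Fˣ := by exact_mod_cast (Fintype.card_pos : 0 < Fintype.card Fˣ)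
  obtain ⟨h₀, h0⟩ := align_one hn hσ hρ
  rw [hc] at h0
  have h0' : (Fintype.card Fˣ : ℤ) ≤ c := by exact_mod_cast h0
  have hcast : ∀ {m : ℕ}, 2 * Fintype.card Fˣ ≤ m → 2 * (Fintype.card Fˣ : ℤ) ≤ (m : ℤ) := by
    intro m hm
    exact_mod_cast hm
  set Q : ℤ := (Fintype.card Fˣ : ℤ) with hQdef
  set D : ℤ := (Fintype.card (Xv F n) : ℤ) - Q with hD
  have hDpos : 0 < D := by nlinarith
  -- the case where the right side vanishes
  have hzero : (2 * Q ≤ (c : ℤ)) → ((fx σ : ℤ) - Q) * ((fx ρ : ℤ) - Q) = 0 → False := by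
    intro h1 h2
    rw [h2] at hI'
    rcases mul_eq_zero.mp hI' with h3 | h3
    · linarith
    · linarith
  rcases tri σ with ⟨hs0, hs1⟩ | ⟨⟨ys, hys, hysu⟩, hs1⟩ | ⟨⟨xs₁, xs₂, hxs₁, hxs₂, hxs⟩, hs1⟩ <;>
  rcases tri ρ with ⟨hr0, hr1⟩ | ⟨⟨yr, hyr, hyru⟩, hr1⟩ | ⟨⟨xr₁, xr₂, hxr₁, hxr₂, hxr⟩, hr1⟩
  · -- no eigenvectors at all
    rw [hs1, hr1] at hI'
    simp only [Nat.cast_zero, zero_sub, neg_mul_neg] at hI'
    have h1 : 0 ≤ (c : ℤ) - Q := by linarith
    rcases h1.eq_or_lt with h2 | h2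
    · rw [← h2, zero_mul] at hI'
      nlinarith
    · nlinarith
  · obtain ⟨h, hh⟩ := case_zero_one hn hs0 hρ hyr hyru
    rw [hc] at hh
    apply hzero (hcast hh)
    rw [hr1, hQdef, sub_self, mul_zero]
  · have h1 : 2 * Q ≤ (fx ρ : ℤ) := hcast hr1
    rw [hs1] at hI'
    simp only [Nat.cast_zero, zero_sub] at hI'
    have h2 : 0 ≤ ((c : ℤ) - Q) * D := mul_nonneg (by linarith) hDpos.le
    nlinarith
  · obtain ⟨h, hh⟩ := case_zero_one hn hr0 hσ hys hysu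
    rw [hcs] at hh
    apply hzero (hcast hh)
    rw [hs1, hQdef, sub_self, zero_mul]
  · obtain ⟨h, hh⟩ := align_fixed_arc hn hσ hρ ⟨ys, hys⟩ ⟨yr, hyr⟩
    rw [hc] at hh
    apply hzero (hcast hh)
    rw [hs1, hQdef, sub_self, zero_mul]
  · obtain ⟨h, hh⟩ := align_fixed_arc hn hσ hρ ⟨ys, hys⟩ ⟨xr₁, hxr₁⟩
    rw [hc] at hh
    apply hzero (hcast hh)
    rw [hs1, hQdef, sub_self, zero_mul]
  · have h1 : 2 * Q ≤ (fx σ : ℤ) := hcast hs1
    rw [hr1] at hI'
    simp only [Nat.cast_zero, zero_sub] at hI'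
    have h2 : 0 ≤ ((c : ℤ) - Q) * D := mul_nonneg (by linarith) hDpos.le
    nlinarith
  · obtain ⟨h, hh⟩ := align_fixed_arc hn hσ hρ ⟨xs₁, hxs₁⟩ ⟨yr, hyr⟩
    rw [hc] at hh
    apply hzero (hcast hh)
    rw [hr1, hQdef, sub_self, mul_zero]
  · obtain ⟨l, hl⟩ := exists_max_eig σ
    obtain ⟨μ, hμ⟩ := exists_max_eig ρ
    rcases le_total (Module.finrank F (eigS ρ μ)) (Module.finrank F (eigS σ l)) with hle | hle
    · exact case_two_two hn hσ hρ c hc hI' hxs₁ hxs₂ hxs hxr₁ hxr₂ hxr hr1 hμ hle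
    · refine case_two_two hn hρ hσ c hcs ?_ hxr₁ hxr₂ hxr hxs₁ hxs₂ hxs hs1 hl hle
      rw [hI', mul_comm]

end Cfsg.Agent.Lib.KS2.ClassProd
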