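import Mathlib
import Cfsg.Agent.Lib.KS2.ClassProd5

/-!
Reduction of the class product statement for `PSL_d(F)` to `SL_d(F)`.
-/

set_option autoImplicit false
set_option linter.unusedSectionVars false
set_option linter.unusedVariables false

namespace Cfsg.Agent.Lib.KS2.ClassProd

open Matrix Cfsg.Agent.Lib.KS2.PermSL
open scoped MatrixGroups

universe u

variable {F : Type u} [Field F] [Fintype F] [DecidableEq F] {n : ℕ}

lemma exists_not_dep (hn : 2 ≤ n) (g : SL(n, F)) (hg : g ∉ Subgroup.center (SL(n, F))) :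
    ∃ x : Xv F n, ¬ Dep x (g • x) := by
  by_contra hcon
  push Not at hcon
  have h1 : ∃ c : F, lin g = c • LinearMap.id := by
    by_contra hne
    push Not at hne
    obtain ⟨x, hx⟩ := exists_not_eig (lin g) (by simpa using hn) hne
    have hx0 : x ≠ 0 := by
      rintro rfl
      exact hx 0 (by simp)
    obtain ⟨c, hc⟩ := (dep_act_iff g ⟨x, hx0⟩).mp (hcon ⟨x, hx0⟩)
    exact hx c hc
  obtain ⟨c, hc⟩ := h1
  apply hg
  rw [Matrix.SpecialLinearGroup.mem_center_iff]
  have h2 : (g : Matrix (Fin n) (Fin n) F) = Matrix.scalar (Fin n) c := by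
    ext i j
    have h3 := congrArg (fun f => f (Pi.single j 1) i) hc
    simp only [lin, Matrix.mulVecLin_apply, Matrix.mulVec_single_one, LinearMap.smul_apply, LinearMap.id_apply, Pi.smul_apply] at h3
    simp only [Matrix.col_apply] at h3
    rw [h3]
    by_cases hij : i = j
    · subst hij
      simp
    · simp [hij, Pi.single_apply]
  refine ⟨c, ?_, h2.symm⟩
  have h3 := g.2
  rw [h2, Matrix.scalar_apply, Matrix.det_diagonal, Finset.prod_const, Finset.card_univ] at h3
  exact h3

lemma dep_central {z : SL(n, F)} (hz : z ∈ Subgroup.center (SL(n, F))) (y : Xv F n) : Dep (z • y) y := by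
  rw [Matrix.SpecialLinearGroup.mem_center_iff] at hz
  obtain ⟨r, hr, hz⟩ := hz
  apply dep_symm
  rw [dep_iff]
  refine ⟨r, ?_⟩
  rw [smul_coe, ← hz]
  ext i
  simp [Matrix.scalar_apply, Matrix.mulVec, dotProduct, Matrix.diagonal_apply, Finset.sum_ite_eq]

open Classical in
lemma fx_conj_central (g U z : SL(n, F)) (hz : z ∈ Subgroup.center (SL(n, F))) : fx (U * g * U⁻¹ * z) = fx g := by
  unfold fx fixC
  refine (Equiv.sum_comp (MulAction.toPerm U) _).symm.trans ?_
  refine Finset.sum_congr rfl fun y _ => ?_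
  have hc : z * U = U * z := ((Subgroup.mem_center_iff.mp hz) U).symm
  have h1 : (U * g * U⁻¹ * z) • (MulAction.toPerm U y) = U • g • z • y := by
    simp only [MulAction.toPerm_apply, smul_smul]
    congr 1
    rw [mul_assoc _ z U, hc]
    group
  simp only [h1]
  have h2 : Dep (MulAction.toPerm U y) (U • g • z • y) ↔ Dep y (g • y) := by
    rw [MulAction.toPerm_apply, dep_smul]
    have h3 : Dep (g • z • y) (g • y) := (dep_smul _).mpr (dep_central hz y)
    exact ⟨fun h => dep_trans h h3, fun h => dep_trans h (dep_symm h3)⟩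
  simp only [h2]

open Classical in
lemma sum_Ag (A B H : SL(n, F)) :
    (∑ x : Xv F n, if Ag A⁻¹ B H x then 1 else 0) = fx (A * (H * B * H⁻¹)) := by
  unfold fx fixC
  refine Finset.sum_congr rfl fun x _ => ?_
  have h : Ag A⁻¹ B H x ↔ Dep x ((A * (H * B * H⁻¹)) • x) := by
    unfold Ag
    have h1 : (A * (H * B * H⁻¹)) • x = A • H • B • H⁻¹ • x := by
      simp only [smul_smul, mul_assoc]
    rw [h1]
    constructor
    · intro h2
      have h3 := (dep_smul A).mpr h2
      rw [smul_inv_smul] at h3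
      exact dep_symm h3
    · intro h2
      have h3 := (dep_smul A⁻¹).mpr h2
      rw [inv_smul_smul] at h3
      exact dep_symm h3
  simp only [h]

/-- The class product statement. -/
theorem psl_product (hn : 3 ≤ n) (a b : Matrix.ProjectiveSpecialLinearGroup (Fin n) F) (ha : a ≠ 1) (hb : b ≠ 1) :
    ∃ g h : Matrix.ProjectiveSpecialLinearGroup (Fin n) F, ¬ IsConj (a * b) (g * a * g⁻¹ * (h * b * h⁻¹)) := by
  classical
  obtain ⟨A, rfl⟩ := QuotientGroup.mk_surjective a
  obtain ⟨B, rfl⟩ := QuotientGroup.mk_surjective b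
  have hcen : ∀ X : SL(n, F), ((X : SL(n, F)) : Matrix.ProjectiveSpecialLinearGroup (Fin n) F) = 1 ↔ X ∈ Subgroup.center (SL(n, F)) :=
    fun X => QuotientGroup.eq_one_iff X
  have hA : ∃ x : Xv F n, ¬ Dep x (A⁻¹ • x) := by
    apply exists_not_dep (by omega)
    intro h
    exact ha ((hcen A).mpr (by simpa using (Subgroup.inv_mem _ h)))
  have hB : ∃ x : Xv F n, ¬ Dep x (B • x) := by
    apply exists_not_dep (by omega)
    intro h
    exact hb ((hcen B).mpr h)
  by_contra hcon
  push Not at hcon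
  apply no_const hn hA hB (fx (A * B))
  intro H
  rw [sum_Ag]
  have h1 := hcon 1 ((H : SL(n, F)) : Matrix.ProjectiveSpecialLinearGroup (Fin n) F)
  rw [isConj_iff] at h1
  obtain ⟨u, hu⟩ := h1
  obtain ⟨U, rfl⟩ := QuotientGroup.mk_surjective u
  have h2 : (((U * (A * B) * U⁻¹)⁻¹ * (A * (H * B * H⁻¹)) : SL(n, F)) : Matrix.ProjectiveSpecialLinearGroup (Fin n) F) = 1 := by
    simp only [QuotientGroup.mk_mul, QuotientGroup.mk_inv] at hu ⊢
    rw [inv_mul_eq_one, hu]
    simp
  have hz := (hcen _).mp h2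
  set z := (U * (A * B) * U⁻¹)⁻¹ * (A * (H * B * H⁻¹)) with hzdef
  have h3 : A * (H * B * H⁻¹) = U * (A * B) * U⁻¹ * z := by
    rw [hzdef]
    group
  rw [h3]
  exact fx_conj_central _ _ _ hz

end Cfsg.Agent.Lib.KS2.ClassProd
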