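import Mathlib

/-!
Fixed points of products of conjugates in symmetric groups: a four term identity.
-/

set_option autoImplicit false
set_option linter.unusedSectionVars false
set_option linter.unusedVariables false

namespace Cfsg.Agent.Lib.KS2.FixProd

open Equiv Equiv.Perm

variable {α : Type*} [Fintype α] [DecidableEq α]

/-- The number of points where two permutations agree. -/
def ag (σ π : Perm α) : ℤ := ∑ x, if π x = σ x then 1 else 0

lemma exists_not_mem (s : Finset α) (h : s.card < Fintype.card α) : ∃ x, x ∉ s := by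
  by_contra hcon
  push Not at hcon
  have : s = Finset.univ := Finset.eq_univ_of_forall hcon
  rw [this, Finset.card_univ] at h
  exact lt_irrefl _ h

lemma exists_perm_ext {k : ℕ} (e f : Fin k → α) (he : Function.Injective e) (hf : Function.Injective f) :
    ∃ h : Perm α, ∀ i, h (e i) = f i := by
  haveI := Equiv.Perm.isMultiplyPretransitive α k
  obtain ⟨g, hg⟩ := MulAction.exists_smul_eq (Perm α) (⟨e, he⟩ : Fin k ↪ α) (⟨f, hf⟩ : Fin k ↪ α)
  refine ⟨g, fun i => ?_⟩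
  have := congrArg (fun φ : Fin k ↪ α => φ i) hg
  simpa using this

/-- Agreement and simultaneous conjugation. -/
lemma ag_conj (g σ π : Perm α) : ag (g * σ * g⁻¹) (g * π * g⁻¹) = ag σ π := by
  unfold ag
  refine (Equiv.sum_comp g _).symm.trans ?_
  refine Finset.sum_congr rfl fun x _ => ?_
  simp

lemma ag_eq_double (σ π : Perm α) :
    ag σ π = ∑ a, ∑ b, (if σ a = b then (1 : ℤ) else 0) * (if π a = b then 1 else 0) := by
  unfold ag
  refine Finset.sum_congr rfl fun a _ => ?_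
  rw [Finset.sum_eq_single (σ a)]
  · simp
  · intro b _ hb
    simp [Ne.symm hb]
  · simp

/-- The purely algebraic four term identity. -/
lemma four_term (S E : α → α → ℤ) {i j k l : α} (hij : i ≠ j) (hik : i ≠ k) (hil : i ≠ l) (hjk : j ≠ k) (hjl : j ≠ l)
    (hkl : k ≠ l) :
    ∑ a, ∑ b, S a b * (E a b - E (swap i k a) (swap i k b) - E (swap j l a) (swap j l b)
        + E (swap i k (swap j l a)) (swap i k (swap j l b))) =
      (S i j + S k l - S i l - S k j) * (E i j + E k l - E i l - E k j)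
        + (S j i + S l k - S j k - S l i) * (E j i + E l k - E j k - E l i) := by
  classical
  rw [← Finset.sum_product' (f := fun a b => S a b * (E a b - E (swap i k a) (swap i k b) - E (swap j l a) (swap j l b)
        + E (swap i k (swap j l a)) (swap i k (swap j l b))))]
  set s : Finset (α × α) := {(i, j), (i, l), (k, j), (k, l), (j, i), (j, k), (l, i), (l, k)} with hs
  rw [Finset.univ_product_univ, ← Finset.sum_subset (Finset.subset_univ s)]
  · rw [hs]
    rw [Finset.sum_insert (by simp [hij, hil, hik, hkl, hjl, hjk, hij.symm, hil.symm, hik.symm, hjl.symm, hjk.symm, hkl.symm]),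
      Finset.sum_insert (by simp [hij, hil, hik, hkl, hjl, hjk, hij.symm, hil.symm, hik.symm, hjl.symm, hjk.symm, hkl.symm]),
      Finset.sum_insert (by simp [hij, hil, hik, hkl, hjl, hjk, hij.symm, hil.symm, hik.symm, hjl.symm, hjk.symm, hkl.symm]),
      Finset.sum_insert (by simp [hij, hil, hik, hkl, hjl, hjk, hij.symm, hil.symm, hik.symm, hjl.symm, hjk.symm, hkl.symm]),
      Finset.sum_insert (by simp [hij, hil, hik, hkl, hjl, hjk, hij.symm, hil.symm, hik.symm, hjl.symm, hjk.symm, hkl.symm]),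
      Finset.sum_insert (by simp [hij, hil, hik, hkl, hjl, hjk, hij.symm, hil.symm, hik.symm, hjl.symm, hjk.symm, hkl.symm]),
      Finset.sum_insert (by simp [hij, hil, hik, hkl, hjl, hjk, hij.symm, hil.symm, hik.symm, hjl.symm, hjk.symm, hkl.symm]),
      Finset.sum_singleton]
    have si : swap i k i = k := swap_apply_left _ _
    have sk : swap i k k = i := swap_apply_right _ _
    have sj' : swap i k j = j := swap_apply_of_ne_of_ne hij.symm hjk
    have sl' : swap i k l = l := swap_apply_of_ne_of_ne hil.symm hkl.symm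
    have tj : swap j l j = l := swap_apply_left _ _
    have tl : swap j l l = j := swap_apply_right _ _
    have ti : swap j l i = i := swap_apply_of_ne_of_ne hij hil
    have tk : swap j l k = k := swap_apply_of_ne_of_ne hjk.symm hkl
    simp only [si, sk, sj', sl', tj, tl, ti, tk]
    ring
  · rintro ⟨a, b⟩ _ hp
    simp only [hs, Finset.mem_insert, Finset.mem_singleton, Prod.mk.injEq, not_or, not_and] at hp
    dsimp only
    have key : E a b - E (swap i k a) (swap i k b) - E (swap j l a) (swap j l b)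
        + E (swap i k (swap j l a)) (swap i k (swap j l b)) = 0 := by
      by_cases h1 : (a = i ∨ a = k) ∨ (b = i ∨ b = k)
      · by_cases h2 : (a = j ∨ a = l) ∨ (b = j ∨ b = l)
        · exfalso
          rcases h1 with (rfl | rfl) | (rfl | rfl) <;> rcases h2 with (rfl | rfl) | (rfl | rfl) <;>
            simp_all
        · push Not at h2
          have ea : swap j l a = a := swap_apply_of_ne_of_ne h2.1.1 h2.1.2
          have eb : swap j l b = b := swap_apply_of_ne_of_ne h2.2.1 h2.2.2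
          rw [ea, eb]
          ring
      · push Not at h1
        have ea : swap i k a = a := swap_apply_of_ne_of_ne h1.1.1 h1.1.2
        have eb : swap i k b = b := swap_apply_of_ne_of_ne h1.2.1 h1.2.2
        have ti : swap j l i = i := swap_apply_of_ne_of_ne hij hil
        have tk : swap j l k = k := swap_apply_of_ne_of_ne hjk.symm hkl
        have hne : ∀ x, x ≠ i → x ≠ k → swap i k (swap j l x) = swap j l x := by
          intro x hx hx'
          apply swap_apply_of_ne_of_ne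
          · intro h
            apply hx
            rw [← swap_apply_self j l x, h, ti]
          · intro h
            apply hx'
            rw [← swap_apply_self j l x, h, tk]
        rw [ea, eb, hne a h1.1.1 h1.1.2, hne b h1.2.1 h1.2.2]
        ring
    rw [key, mul_zero]

/-- The configuration used. -/
structure Config (π : Perm α) (i j k l : α) : Prop where
  hij : i ≠ j
  hik : i ≠ k
  hil : i ≠ l
  hjk : j ≠ k
  hjl : j ≠ l
  hkl : k ≠ l
  h1 : π i = j
  h2 : π j ≠ k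
  h3 : π l ≠ i

lemma exists_config (π : Perm α) (hπ : π ≠ 1) (hc : 5 ≤ Fintype.card α) : ∃ i j k l, Config π i j k l := by
  obtain ⟨i, hi⟩ : ∃ i, π i ≠ i := by
    by_contra hcon
    push Not at hcon
    exact hπ (Equiv.ext hcon)
  obtain ⟨k, hk⟩ := exists_not_mem ({i, π i, π (π i)} : Finset α) (by
    refine lt_of_le_of_lt (Finset.card_le_three) (by omega))
  obtain ⟨l, hl⟩ := exists_not_mem ({i, π i, π⁻¹ i, k} : Finset α) (by
    refine lt_of_le_of_lt (Finset.card_le_four) (by omega))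
  simp only [Finset.mem_insert, Finset.mem_singleton, not_or] at hk hl
  refine ⟨i, π i, k, l, ⟨hi.symm, Ne.symm hk.1, Ne.symm hl.1, Ne.symm hk.2.1, Ne.symm hl.2.1, Ne.symm hl.2.2.2, rfl, Ne.symm hk.2.2, ?_⟩⟩
  intro h
  apply hl.2.2.1
  rw [← h]
  simp

lemma config_conj {π : Perm α} {u v x y : α} (hc : Config π u v x y) {i j k l : α} (h : Perm α)
    (hu : h u = i) (hv : h v = j) (hx : h x = k) (hy : h y = l) : Config (h * π * h⁻¹) i j k l := by
  subst hu hv hx hy
  refine ⟨?_, ?_, ?_, ?_, ?_, ?_, ?_, ?_, ?_⟩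
  · simpa using hc.hij
  · simpa using hc.hik
  · simpa using hc.hil
  · simpa using hc.hjk
  · simpa using hc.hjl
  · simpa using hc.hkl
  · simp [hc.h1]
  · simpa using hc.h2
  · simpa using hc.h3

/-- The matrix entries of a permutation. -/
def ent (π : Perm α) (a b : α) : ℤ := if π a = b then 1 else 0

lemma ent_nonneg (π : Perm α) (a b : α) : 0 ≤ ent π a b := by
  unfold ent
  split_ifs <;> norm_num

lemma T1_pos {π : Perm α} {i j k l : α} (hc : Config π i j k l) :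
    1 ≤ ent π i j + ent π k l - ent π i l - ent π k j := by
  have h1 : ent π i j = 1 := by simp [ent, hc.h1]
  have h2 : ent π i l = 0 := by
    simp only [ent, hc.h1]
    rw [if_neg hc.hjl]
  have h3 : ent π k j = 0 := by
    simp only [ent]
    rw [if_neg]
    intro h
    rw [← hc.h1] at h
    exact hc.hik (π.injective h).symm
  have := ent_nonneg π k l
  rw [h1, h2, h3]
  omega

lemma T2_nonneg {π : Perm α} {i j k l : α} (hc : Config π i j k l) :
    0 ≤ ent π j i + ent π l k - ent π j k - ent π l i := by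
  have h2 : ent π j k = 0 := by
    simp only [ent]
    rw [if_neg hc.h2]
  have h3 : ent π l i = 0 := by
    simp only [ent]
    rw [if_neg hc.h3]
  have := ent_nonneg π j i
  have := ent_nonneg π l k
  rw [h2, h3]
  omega

lemma ent_conj_swap (π : Perm α) (x y a b : α) : ent (swap x y * π * (swap x y)⁻¹) a b = ent π (swap x y a) (swap x y b) := by
  unfold ent
  simp only [Perm.mul_apply, swap_inv]
  have : swap x y (π (swap x y a)) = b ↔ π (swap x y a) = swap x y b := by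
    constructor
    · intro h
      rw [← h, swap_apply_self]
    · intro h
      rw [h, swap_apply_self]
  simp only [this]

/-- The four term sum is positive in the presence of the configuration. -/
lemma four_pos {σ π : Perm α} {i j k l : α} (hσ : Config σ i j k l) (hπ : Config π i j k l) :
    1 ≤ ag σ π - ag σ (swap i k * π * (swap i k)⁻¹) - ag σ (swap j l * π * (swap j l)⁻¹)
      + ag σ (swap i k * (swap j l * π * (swap j l)⁻¹) * (swap i k)⁻¹) := by
  have h := four_term (ent σ) (ent π) hσ.hij hσ.hik hσ.hil hσ.hjk hσ.hjl hσ.hkl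
  have e : ag σ π - ag σ (swap i k * π * (swap i k)⁻¹) - ag σ (swap j l * π * (swap j l)⁻¹)
      + ag σ (swap i k * (swap j l * π * (swap j l)⁻¹) * (swap i k)⁻¹) =
      ∑ a, ∑ b, ent σ a b * (ent π a b - ent π (swap i k a) (swap i k b) - ent π (swap j l a) (swap j l b)
        + ent π (swap i k (swap j l a)) (swap i k (swap j l b))) := by
    rw [ag_eq_double, ag_eq_double, ag_eq_double, ag_eq_double, ← Finset.sum_sub_distrib, ← Finset.sum_sub_distrib,
      ← Finset.sum_add_distrib]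
    refine Finset.sum_congr rfl fun a _ => ?_
    rw [← Finset.sum_sub_distrib, ← Finset.sum_sub_distrib, ← Finset.sum_add_distrib]
    refine Finset.sum_congr rfl fun b _ => ?_
    have h1 : (if (swap i k * π * (swap i k)⁻¹) a = b then (1 : ℤ) else 0) = ent π (swap i k a) (swap i k b) :=
      ent_conj_swap π i k a b
    have h2 : (if (swap j l * π * (swap j l)⁻¹) a = b then (1 : ℤ) else 0) = ent π (swap j l a) (swap j l b) :=
      ent_conj_swap π j l a b
    have h3 : (if (swap i k * (swap j l * π * (swap j l)⁻¹) * (swap i k)⁻¹) a = b then (1 : ℤ) else 0)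
        = ent π (swap j l (swap i k a)) (swap j l (swap i k b)) := by
      exact (ent_conj_swap (swap j l * π * (swap j l)⁻¹) i k a b).trans (ent_conj_swap π j l _ _)
    have hc : ∀ x, swap j l (swap i k x) = swap i k (swap j l x) := by
      intro x
      have : Commute (swap j l) (swap i k) :=
        (disjoint_swap_swap (by simp [hσ.hij.symm, hσ.hik, hσ.hil, hσ.hjk, hσ.hjl, hσ.hkl, hσ.hij, hσ.hjk.symm, hσ.hjl.symm, hσ.hil.symm, hσ.hik.symm, hσ.hkl.symm])).commute
      exact congrArg (fun f : Perm α => f x) this.eq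
    rw [h1, h2, h3, hc, hc]
    unfold ent
    ring
  rw [e, h]
  have a1 := T1_pos hσ
  have a2 := T1_pos hπ
  have b1 := T2_nonneg hσ
  have b2 := T2_nonneg hπ
  nlinarith [mul_nonneg b1 b2, mul_le_mul a1 a2 (by norm_num) (by linarith)]

lemma not_const_all {σ ρ : Perm α} (hσ : σ ≠ 1) (hρ : ρ ≠ 1) (hc : 5 ≤ Fintype.card α) :
    ∃ h₁ h₂ : Perm α, ag σ (h₁ * ρ * h₁⁻¹) ≠ ag σ (h₂ * ρ * h₂⁻¹) := by
  by_contra hcon
  push Not at hcon
  obtain ⟨i, j, k, l, c1⟩ := exists_config σ hσ hc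
  obtain ⟨u, v, x, y, c2⟩ := exists_config ρ hρ hc
  obtain ⟨h, hh⟩ := exists_perm_ext ![u, v, x, y] ![i, j, k, l]
    (by
      intro a b hab
      fin_cases a <;> fin_cases b <;> simp_all [c2.hij, c2.hik, c2.hil, c2.hjk, c2.hjl, c2.hkl, c2.hij.symm, c2.hik.symm, c2.hil.symm, c2.hjk.symm, c2.hjl.symm, c2.hkl.symm])
    (by
      intro a b hab
      fin_cases a <;> fin_cases b <;> simp_all [c1.hij, c1.hik, c1.hil, c1.hjk, c1.hjl, c1.hkl, c1.hij.symm, c1.hik.symm, c1.hil.symm, c1.hjk.symm, c1.hjl.symm, c1.hkl.symm])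
  have c3 := config_conj c2 h (hh 0) (hh 1) (hh 2) (hh 3)
  have h4 := four_pos c1 c3
  have e1 : swap i k * (h * ρ * h⁻¹) * (swap i k)⁻¹ = (swap i k * h) * ρ * (swap i k * h)⁻¹ := by group
  have e2 : swap j l * (h * ρ * h⁻¹) * (swap j l)⁻¹ = (swap j l * h) * ρ * (swap j l * h)⁻¹ := by group
  have e3 : swap i k * (swap j l * (h * ρ * h⁻¹) * (swap j l)⁻¹) * (swap i k)⁻¹ =
      (swap i k * (swap j l * h)) * ρ * (swap i k * (swap j l * h))⁻¹ := by group
  rw [e3, e1, e2, hcon (swap i k * h) h, hcon (swap j l * h) h, hcon (swap i k * (swap j l * h)) h] at h4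
  omega

/-- Parity correction. -/
lemma even_to_all {σ ρ : Perm α} (z : Perm α) (hz : sign z = -1) (hcomm : z * ρ = ρ * z ∨ z * σ = σ * z)
    (hE : ∀ h₁ h₂ : Perm α, sign h₁ = 1 → sign h₂ = 1 → ag σ (h₁ * ρ * h₁⁻¹) = ag σ (h₂ * ρ * h₂⁻¹)) :
    ∀ h₁ h₂ : Perm α, ag σ (h₁ * ρ * h₁⁻¹) = ag σ (h₂ * ρ * h₂⁻¹) := by
  have key : ∀ h : Perm α, ∃ h' : Perm α, sign h' = 1 ∧ ag σ (h * ρ * h⁻¹) = ag σ (h' * ρ * h'⁻¹) := by
    intro h
    rcases Int.units_eq_one_or (sign h) with hs | hs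
    · exact ⟨h, hs, rfl⟩
    · rcases hcomm with hc | hc
      · refine ⟨h * z, by rw [map_mul, hs, hz]; rfl, ?_⟩
        congr 1
        have : h * z * ρ * (h * z)⁻¹ = h * (z * ρ) * z⁻¹ * h⁻¹ := by group
        rw [this, hc]
        group
      · refine ⟨z⁻¹ * h, by rw [map_mul, map_inv, hs, hz]; rfl, ?_⟩
        have h1 := ag_conj z σ ((z⁻¹ * h) * ρ * (z⁻¹ * h)⁻¹)
        have e1 : z * σ * z⁻¹ = σ := by rw [hc]; group
        have e2 : z * ((z⁻¹ * h) * ρ * (z⁻¹ * h)⁻¹) * z⁻¹ = h * ρ * h⁻¹ := by group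
        rw [e1, e2] at h1
        exact h1
  intro h₁ h₂
  obtain ⟨a, ha, ea⟩ := key h₁
  obtain ⟨b, hb, eb⟩ := key h₂
  rw [ea, eb]
  exact hE a b ha hb

/-- A moved point whose orbit has at least five points. -/
def HasPath (π : Perm α) : Prop := ∃ x, Function.Injective (fun i : Fin 5 => (π ^ (i : ℕ)) x)

lemma orbit_small {π : Perm α} (h : ¬ HasPath π) (x : α) :
    π x = x ∨ π (π x) = x ∨ π (π (π x)) = x ∨ π (π (π (π x))) = x := by
  have h1 : ¬ Function.Injective (fun i : Fin 5 => (π ^ (i : ℕ)) x) := fun hi => h ⟨x, hi⟩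
  have key : ∀ i j : ℕ, i < j → j < 5 → (π ^ i) x = (π ^ j) x → ∃ m : ℕ, 0 < m ∧ m < 5 ∧ (π ^ m) x = x := by
    intro i j hij hj he
    refine ⟨j - i, by omega, by omega, ?_⟩
    have e : j = i + (j - i) := by omega
    rw [e, pow_add, Perm.mul_apply] at he
    exact (π ^ i).injective he.symm
  have : ∃ m : ℕ, 0 < m ∧ m < 5 ∧ (π ^ m) x = x := by
    simp only [Function.Injective] at h1
    push Not at h1
    obtain ⟨a, b, hab, hne⟩ := h1
    have hne' : (a : ℕ) ≠ b := fun h => hne (Fin.ext h)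
    rcases lt_or_gt_of_ne hne' with hlt | hlt
    · exact key a b hlt b.2 hab
    · exact key b a hlt a.2 hab.symm
  obtain ⟨m, h0, h5, hm⟩ := this
  interval_cases m
  · left
    simpa using hm
  · right; left
    simpa [pow_succ] using hm
  · right; right; left
    simpa [pow_succ] using hm
  · right; right; right
    simpa [pow_succ] using hm

/-- Permutations without long orbits have an odd element in their centraliser. -/
lemma exists_odd_comm {π : Perm α} (h : ¬ HasPath π) (hc : 5 ≤ Fintype.card α) : ∃ z : Perm α, sign z = -1 ∧ z * π = π * z := by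
  by_cases h2 : ∃ u, π (π u) = u ∧ π u ≠ u
  · obtain ⟨u, hu, hu1⟩ := h2
    refine ⟨swap u (π u), sign_swap (Ne.symm hu1), ?_⟩
    have := swap_apply_apply π u (π u)
    rw [hu, swap_comm] at this
    have h3 : π * swap u (π u) = swap u (π u) * π := by
      conv_rhs => rw [this]
      group
    exact h3.symm
  push Not at h2
  by_cases h4 : ∃ u, π (π (π (π u))) = u ∧ π (π u) ≠ u
  · obtain ⟨u, hu, hu2⟩ := h4
    have h01 : u ≠ π u := by
      intro h
      apply hu2
      rw [← h, ← h]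
    have h02 : u ≠ π (π u) := Ne.symm hu2
    have h03 : u ≠ π (π (π u)) := by
      intro h
      rw [← h] at hu
      exact h01 hu.symm
    have h12 : π u ≠ π (π u) := fun h => h01 (π.injective h)
    have h13 : π u ≠ π (π (π u)) := fun h => h02 (π.injective h)
    have h23 : π (π u) ≠ π (π (π u)) := fun h => h12 (π.injective h)
    refine ⟨swap u (π u) * swap (π u) (π (π u)) * swap (π (π u)) (π (π (π u))), ?_, ?_⟩
    · rw [map_mul, map_mul, sign_swap h01, sign_swap h12, sign_swap h23]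
      rfl
    · set z := swap u (π u) * swap (π u) (π (π u)) * swap (π (π u)) (π (π (π u))) with hz
      have z0 : z u = π u := by
        simp [hz, swap_apply_of_ne_of_ne h02 h03, swap_apply_of_ne_of_ne h01 h02]
      have z1 : z (π u) = π (π u) := by
        simp [hz, swap_apply_of_ne_of_ne h12 h13, swap_apply_of_ne_of_ne h02.symm h12.symm]
      have z2 : z (π (π u)) = π (π (π u)) := by
        simp [hz, swap_apply_of_ne_of_ne h13.symm h23.symm, swap_apply_of_ne_of_ne h03.symm h13.symm]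
      have z3 : z (π (π (π u))) = u := by
        simp [hz]
      have z4 : ∀ x, x ≠ u → x ≠ π u → x ≠ π (π u) → x ≠ π (π (π u)) → z x = x := by
        intro x a0 a1 a2 a3
        simp [hz, swap_apply_of_ne_of_ne a2 a3, swap_apply_of_ne_of_ne a1 a2, swap_apply_of_ne_of_ne a0 a1]
      refine Equiv.ext fun x => ?_
      simp only [Perm.mul_apply]
      by_cases a0 : x = u
      · subst a0
        rw [z0, z1]
      by_cases a1 : x = π u
      · subst a1
        rw [z1, z2]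
      by_cases a2 : x = π (π u)
      · subst a2
        rw [z2, z3, hu]
      by_cases a3 : x = π (π (π u))
      · subst a3
        rw [hu, z3, z0]
      · rw [z4 x a0 a1 a2 a3, z4 (π x)]
        · intro e
          rw [← hu] at e
          exact a3 (π.injective e)
        · exact fun e => a0 (π.injective e)
        · exact fun e => a1 (π.injective e)
        · exact fun e => a2 (π.injective e)
  push Not at h4
  have h3 : ∀ x, π (π (π x)) = x := by
    intro x
    have h5 : ∀ y, π (π y) = y → π y = y := by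
      intro y hy
      by_contra hne
      exact hne (h2 y hy)
    rcases orbit_small h x with a | a | a | a
    · rw [a, a, a]
    · rw [h5 x a, h5 x a, h5 x a]
    · exact a
    · have a2 := h5 x (h4 x a)
      rw [a2, a2, a2]
  by_cases h1 : ∃ x y, x ≠ y ∧ π x = x ∧ π y = y
  · obtain ⟨x, y, hxy, hx, hy⟩ := h1
    refine ⟨swap x y, sign_swap hxy, ?_⟩
    have := swap_apply_apply π x y
    rw [hx, hy] at this
    have h3 : π * swap x y = swap x y * π := by
      conv_rhs => rw [this]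
      group
    exact h3.symm
  push Not at h1
  obtain ⟨u, hu⟩ : ∃ u, π u ≠ u := by
    obtain ⟨a, -⟩ := exists_not_mem (∅ : Finset α) (by simp; omega)
    obtain ⟨b, hb⟩ := exists_not_mem ({a} : Finset α) (by simp; omega)
    simp only [Finset.mem_singleton] at hb
    by_cases e : π a = a
    · exact ⟨b, fun e2 => h1 a b (Ne.symm hb) e e2⟩
    · exact ⟨a, e⟩
  have u2 : π (π u) ≠ u := fun e => hu (h2 u e)
  obtain ⟨w₁, hw₁⟩ := exists_not_mem ({u, π u, π (π u)} : Finset α) (lt_of_le_of_lt Finset.card_le_three (by omega))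
  obtain ⟨w₂, hw₂⟩ := exists_not_mem ({u, π u, π (π u), w₁} : Finset α) (lt_of_le_of_lt Finset.card_le_four (by omega))
  simp only [Finset.mem_insert, Finset.mem_singleton, not_or] at hw₁ hw₂
  obtain ⟨v, hv0, hv1, hv2, hv⟩ : ∃ v, v ≠ u ∧ v ≠ π u ∧ v ≠ π (π u) ∧ π v ≠ v := by
    by_cases e : π w₁ = w₁
    · refine ⟨w₂, hw₂.1, hw₂.2.1, hw₂.2.2.1, fun e2 => h1 w₁ w₂ (Ne.symm hw₂.2.2.2) e e2⟩
    · exact ⟨w₁, hw₁.1, hw₁.2.1, hw₁.2.2, e⟩
  have v2 : π (π v) ≠ v := fun e => hv (h2 v e)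
  have a1 : π v ≠ u := by
    intro e
    apply hv2
    rw [← e, h3]
  have a2 : π v ≠ π u := fun e => hv0 (π.injective e)
  have a3 : π v ≠ π (π u) := fun e => hv1 (π.injective e)
  have b1 : π (π v) ≠ u := by
    intro e
    apply hv1
    rw [← e, h3]
  have b2 : π (π v) ≠ π u := fun e => a1 (π.injective e)
  have b3 : π (π v) ≠ π (π u) := fun e => a2 (π.injective e)
  have u01 : u ≠ π u := Ne.symm hu
  have u02 : u ≠ π (π u) := Ne.symm u2
  have u12 : π u ≠ π (π u) := fun e => u01 (π.injective e)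
  have v01 : v ≠ π v := Ne.symm hv
  have v02 : v ≠ π (π v) := Ne.symm v2
  have v12 : π v ≠ π (π v) := fun e => v01 (π.injective e)
  set s₁ := swap u v with hs₁
  set s₂ := swap (π u) (π v) with hs₂
  set s₃ := swap (π (π u)) (π (π v)) with hs₃
  have nd : ∀ {a b c d : α}, a ≠ b → a ≠ c → a ≠ d → b ≠ c → b ≠ d → c ≠ d → [a, b, c, d].Nodup := by
    intro a b c d h1 h2 h3 h4 h5 h6
    simp [h1, h2, h3, h4, h5, h6]
  have c12 : Commute s₁ s₂ := (disjoint_swap_swap (nd hv0.symm u01 a1.symm hv1 v01 a2.symm)).commute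
  have c13 : Commute s₁ s₃ := (disjoint_swap_swap (nd hv0.symm u02 b1.symm hv2 v02 b3.symm)).commute
  have c23 : Commute s₂ s₃ := (disjoint_swap_swap (nd a2.symm u12 b2.symm a3 v12 b3.symm)).commute
  refine ⟨s₁ * s₂ * s₃, ?_, ?_⟩
  · rw [map_mul, map_mul, hs₁, hs₂, hs₃, sign_swap (Ne.symm hv0), sign_swap (Ne.symm a2), sign_swap (Ne.symm b3)]
    rfl
  · have e1 : π * s₁ * π⁻¹ = s₂ := (swap_apply_apply π u v).symm
    have e2 : π * s₂ * π⁻¹ = s₃ := (swap_apply_apply π (π u) (π v)).symm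
    have e3 : π * s₃ * π⁻¹ = s₁ := by
      have := swap_apply_apply π (π (π u)) (π (π v))
      rw [h3, h3] at this
      exact this.symm
    have e4 : π * (s₁ * s₂ * s₃) * π⁻¹ = s₁ * s₂ * s₃ := by
      calc π * (s₁ * s₂ * s₃) * π⁻¹ = (π * s₁ * π⁻¹) * (π * s₂ * π⁻¹) * (π * s₃ * π⁻¹) := by group
        _ = s₂ * s₃ * s₁ := by rw [e1, e2, e3]
        _ = s₁ * s₂ * s₃ := by
          rw [← (c12.mul_right c13).eq, mul_assoc]
    have e5 : π * (s₁ * s₂ * s₃) = (s₁ * s₂ * s₃) * π := by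
      conv_rhs => rw [← e4]
      group
    exact e5.symm

/-- Decreasing the agreement by conjugating with a three-cycle on a path. -/
lemma drop_ag (σ π : Perm α) {d₀ d₁ d₂ d₃ d₄ : α} (h01 : d₀ ≠ d₁) (h02 : d₀ ≠ d₂) (h03 : d₀ ≠ d₃) (h04 : d₀ ≠ d₄)
    (h12 : d₁ ≠ d₂) (h13 : d₁ ≠ d₃) (h14 : d₁ ≠ d₄) (h23 : d₂ ≠ d₃) (h24 : d₂ ≠ d₄) (h34 : d₃ ≠ d₄)
    (p0 : π d₀ = d₁) (p1 : π d₁ = d₂) (p2 : π d₂ = d₃) (p3 : π d₃ = d₄)
    (s0 : σ d₀ = d₁) (s1 : σ d₁ ≠ d₄) (s3 : σ d₃ ≠ d₁) :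
    ag σ ((swap d₁ d₂ * swap d₂ d₃) * π * (swap d₁ d₂ * swap d₂ d₃)⁻¹) < ag σ π := by
  set t := swap d₁ d₂ * swap d₂ d₃ with ht
  have t1 : t d₁ = d₂ := by
    simp [ht, swap_apply_of_ne_of_ne h12 h13]
  have t2 : t d₂ = d₃ := by
    simp [ht, swap_apply_of_ne_of_ne h13.symm h23.symm]
  have t3 : t d₃ = d₁ := by
    simp [ht]
  have t4 : ∀ x, x ≠ d₁ → x ≠ d₂ → x ≠ d₃ → t x = x := by
    intro x a1 a2 a3
    simp [ht, swap_apply_of_ne_of_ne a2 a3, swap_apply_of_ne_of_ne a1 a2]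
  have ti1 : t⁻¹ d₁ = d₃ := by rw [Perm.inv_eq_iff_eq, t3]
  have ti2 : t⁻¹ d₂ = d₁ := by rw [Perm.inv_eq_iff_eq, t1]
  have ti3 : t⁻¹ d₃ = d₂ := by rw [Perm.inv_eq_iff_eq, t2]
  have ti4 : ∀ x, x ≠ d₁ → x ≠ d₂ → x ≠ d₃ → t⁻¹ x = x := by
    intro x a1 a2 a3
    rw [Perm.inv_eq_iff_eq, t4 x a1 a2 a3]
  set π' := t * π * t⁻¹ with hπ'
  have q0 : π' d₀ = d₂ := by
    show t (π (t⁻¹ d₀)) = d₂
    rw [ti4 d₀ h01 h02 h03, p0, t1]
  have q1 : π' d₁ = d₄ := by
    show t (π (t⁻¹ d₁)) = d₄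
    rw [ti1, p3, t4 d₄ h14.symm h24.symm h34.symm]
  have q2 : π' d₂ = d₃ := by
    show t (π (t⁻¹ d₂)) = d₃
    rw [ti2, p1, t2]
  have q3 : π' d₃ = d₁ := by
    show t (π (t⁻¹ d₃)) = d₁
    rw [ti3, p2, t3]
  have q4 : ∀ x, x ≠ d₀ → x ≠ d₁ → x ≠ d₂ → x ≠ d₃ → π' x = π x := by
    intro x a0 a1 a2 a3
    show t (π (t⁻¹ x)) = π x
    rw [ti4 x a1 a2 a3, t4 (π x)]
    · intro e
      rw [← p0] at e
      exact a0 (π.injective e)
    · intro e
      rw [← p1] at e
      exact a1 (π.injective e)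
    · intro e
      rw [← p2] at e
      exact a2 (π.injective e)
  unfold ag
  apply Finset.sum_lt_sum
  · intro x _
    by_cases a0 : x = d₀
    · subst a0
      rw [q0, if_neg, s0, if_pos p0]
      · norm_num
      · rw [s0]
        exact h12.symm
    by_cases a1 : x = d₁
    · subst a1
      rw [q1, if_neg (Ne.symm s1)]
      split_ifs <;> norm_num
    by_cases a2 : x = d₂
    · subst a2
      rw [q2, p2]
    by_cases a3 : x = d₃
    · subst a3
      rw [q3, if_neg (Ne.symm s3)]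
      split_ifs <;> norm_num
    · rw [q4 x a0 a1 a2 a3]
  · refine ⟨d₀, Finset.mem_univ _, ?_⟩
    rw [q0, if_neg, if_pos]
    · norm_num
    · rw [s0, p0]
    · rw [s0]
      exact h12.symm

lemma both_path_step {σ ρ : Perm α} (h : Perm α) (hs : sign h = 1) {b₀ b₁ b₂ b₃ b₄ d₀ d₁ d₂ d₃ d₄ : α}
    (hb0 : ρ b₀ = b₁) (hb1 : ρ b₁ = b₂) (hb2 : ρ b₂ = b₃) (hb3 : ρ b₃ = b₄)
    (e0 : h b₀ = d₀) (e1 : h b₁ = d₁) (e2 : h b₂ = d₂) (e3 : h b₃ = d₃) (e4 : h b₄ = d₄)
    (h01 : d₀ ≠ d₁) (h02 : d₀ ≠ d₂) (h03 : d₀ ≠ d₃) (h04 : d₀ ≠ d₄)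
    (h12 : d₁ ≠ d₂) (h13 : d₁ ≠ d₃) (h14 : d₁ ≠ d₄) (h23 : d₂ ≠ d₃) (h24 : d₂ ≠ d₄) (h34 : d₃ ≠ d₄)
    (s0 : σ d₀ = d₁) (s1 : σ d₁ ≠ d₄) (s3 : σ d₃ ≠ d₁) :
    ∃ h₁ h₂ : Perm α, sign h₁ = 1 ∧ sign h₂ = 1 ∧ ag σ (h₁ * ρ * h₁⁻¹) ≠ ag σ (h₂ * ρ * h₂⁻¹) := by
  have key : ∀ x y, h x = y → (h * ρ * h⁻¹) y = h (ρ x) := by
    intro x y hxy
    simp [← hxy]
  have hd := drop_ag σ (h * ρ * h⁻¹) h01 h02 h03 h04 h12 h13 h14 h23 h24 h34
    (by rw [key _ _ e0, hb0, e1]) (by rw [key _ _ e1, hb1, e2]) (by rw [key _ _ e2, hb2, e3]) (by rw [key _ _ e3, hb3, e4])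
    s0 s1 s3
  refine ⟨h, (swap d₁ d₂ * swap d₂ d₃) * h, hs, ?_, ?_⟩
  · rw [map_mul, map_mul, hs, sign_swap h12, sign_swap h23]
    rfl
  · have e : (swap d₁ d₂ * swap d₂ d₃) * h * ρ * ((swap d₁ d₂ * swap d₂ d₃) * h)⁻¹ =
        (swap d₁ d₂ * swap d₂ d₃) * (h * ρ * h⁻¹) * (swap d₁ d₂ * swap d₂ d₃)⁻¹ := by group
    rw [e]
    exact ne_of_gt hd

lemma both_path {σ ρ : Perm α} (hσ : HasPath σ) (hρ : HasPath ρ) :
    ∃ h₁ h₂ : Perm α, sign h₁ = 1 ∧ sign h₂ = 1 ∧ ag σ (h₁ * ρ * h₁⁻¹) ≠ ag σ (h₂ * ρ * h₂⁻¹) := by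
  obtain ⟨c, hc⟩ := hσ
  obtain ⟨b, hb⟩ := hρ
  obtain ⟨h, hh⟩ := exists_perm_ext _ _ hb hc
  have hne : ∀ i j : Fin 5, i ≠ j → (σ ^ (i : ℕ)) c ≠ (σ ^ (j : ℕ)) c := fun i j hij e => hij (hc e)
  have hstepσ : ∀ i : ℕ, σ ((σ ^ i) c) = (σ ^ (i + 1)) c := by
    intro i
    rw [pow_succ', Perm.mul_apply]
  have hstepρ : ∀ i : ℕ, ρ ((ρ ^ i) b) = (ρ ^ (i + 1)) b := by
    intro i
    rw [pow_succ', Perm.mul_apply]
  have h0 := hh 0
  have h1 := hh 1
  have h2 := hh 2
  have h3 := hh 3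
  have h4 := hh 4
  simp only [Fin.val_zero, Fin.val_one, Fin.val_two] at h0 h1 h2
  have h3' : h ((ρ ^ 3) b) = (σ ^ 3) c := h3
  have h4' : h ((ρ ^ 4) b) = (σ ^ 4) c := h4
  have n01 := hne 0 1 (by decide)
  have n02 := hne 0 2 (by decide)
  have n03 := hne 0 3 (by decide)
  have n04 := hne 0 4 (by decide)
  have n12 := hne 1 2 (by decide)
  have n13 := hne 1 3 (by decide)
  have n14 := hne 1 4 (by decide)
  have n23 := hne 2 3 (by decide)
  have n24 := hne 2 4 (by decide)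
  have n34 := hne 3 4 (by decide)
  change (σ ^ 0) c ≠ (σ ^ 1) c at n01
  change (σ ^ 0) c ≠ (σ ^ 2) c at n02
  change (σ ^ 0) c ≠ (σ ^ 3) c at n03
  change (σ ^ 0) c ≠ (σ ^ 4) c at n04
  change (σ ^ 1) c ≠ (σ ^ 2) c at n12
  change (σ ^ 1) c ≠ (σ ^ 3) c at n13
  change (σ ^ 1) c ≠ (σ ^ 4) c at n14
  change (σ ^ 2) c ≠ (σ ^ 3) c at n23
  change (σ ^ 2) c ≠ (σ ^ 4) c at n24
  change (σ ^ 3) c ≠ (σ ^ 4) c at n34
  rcases Int.units_eq_one_or (sign h) with hs | hs
  · refine both_path_step h hs (hstepρ 0) (hstepρ 1) (hstepρ 2) (hstepρ 3) h0 h1 h2 h3' h4' n01 n02 n03 n04 n12 n13 n14 n23 n24 n34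
      (hstepσ 0) ?_ ?_
    · rw [hstepσ 1]
      exact n24
    · rw [hstepσ 3]
      exact n14.symm
  · refine both_path_step (swap ((σ ^ 2) c) ((σ ^ 3) c) * h) (by rw [map_mul, hs, sign_swap n23]; rfl)
      (hstepρ 0) (hstepρ 1) (hstepρ 2) (hstepρ 3)
      (d₀ := (σ ^ 0) c) (d₁ := (σ ^ 1) c) (d₂ := (σ ^ 3) c) (d₃ := (σ ^ 2) c) (d₄ := (σ ^ 4) c) ?_ ?_ ?_ ?_ ?_
      n01 n03 n02 n04 n13 n12 n14 n23.symm n34 n24 (hstepσ 0) ?_ ?_
    · rw [Perm.mul_apply, h0, swap_apply_of_ne_of_ne n02 n03]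
    · rw [Perm.mul_apply, h1, swap_apply_of_ne_of_ne n12 n13]
    · rw [Perm.mul_apply, h2, swap_apply_left]
    · rw [Perm.mul_apply, h3', swap_apply_right]
    · rw [Perm.mul_apply, h4', swap_apply_of_ne_of_ne n24.symm n34.symm]
    · rw [hstepσ 1]
      exact n24
    · rw [hstepσ 2]
      exact n13.symm

/-- Main theorem. -/
theorem exists_even_ne {σ ρ : Perm α} (hσ : σ ≠ 1) (hρ : ρ ≠ 1) (hc : 5 ≤ Fintype.card α) :
    ∃ h₁ h₂ : Perm α, sign h₁ = 1 ∧ sign h₂ = 1 ∧ ag σ (h₁ * ρ * h₁⁻¹) ≠ ag σ (h₂ * ρ * h₂⁻¹) := by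
  by_cases h : HasPath σ ∧ HasPath ρ
  · exact both_path h.1 h.2
  · by_contra hcon
    push Not at hcon
    have hE : ∀ h₁ h₂ : Perm α, sign h₁ = 1 → sign h₂ = 1 → ag σ (h₁ * ρ * h₁⁻¹) = ag σ (h₂ * ρ * h₂⁻¹) := hcon
    have hz : ∃ z : Perm α, sign z = -1 ∧ (z * ρ = ρ * z ∨ z * σ = σ * z) := by
      by_cases h1 : HasPath σ
      · have h2 : ¬ HasPath ρ := fun h2 => h ⟨h1, h2⟩
        obtain ⟨z, hz, hc'⟩ := exists_odd_comm h2 hc
        exact ⟨z, hz, Or.inl hc'⟩
      · obtain ⟨z, hz, hc'⟩ := exists_odd_comm h1 hc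
        exact ⟨z, hz, Or.inr hc'⟩
    obtain ⟨z, hz, hcomm⟩ := hz
    obtain ⟨h₁, h₂, hne⟩ := not_const_all hσ hρ hc
    exact hne (even_to_all z hz hcomm hE h₁ h₂)

/-- Fixed points and agreements. -/
lemma card_fixedPoints_eq (a π : Perm α) : ((Nat.card (Function.fixedPoints ⇑(a * π)) : ℕ) : ℤ) = ag a⁻¹ π := by
  have e : Function.fixedPoints ⇑(a * π) = ↑(Finset.univ.filter (fun x => π x = a⁻¹ x)) := by
    ext x
    simp only [Function.mem_fixedPoints, Function.IsFixedPt, Perm.coe_mul, Function.comp_apply, Finset.coe_filter, Finset.mem_univ, true_and, Set.mem_setOf_eq]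
    rw [Perm.eq_inv_iff_eq]
  rw [e, Nat.card_coe_set_eq, Set.ncard_coe_finset, Finset.card_filter]
  unfold ag
  push_cast
  rfl

end Cfsg.Agent.Lib.KS2.FixProd
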