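import Mathlib
import Cfsg.Prelude.Def_Sz
import Cfsg.Agent.Lib.KS2.LawSL2

/-!
Suzuki groups satisfy no fixed law: a degree argument on a word in explicit elements
`X_i = u_i · (w u_i⁻¹ w)`, with `u_i` in the lower unitriangular subgroup with parameter `t^(i+1)`.
-/

set_option autoImplicit false
set_option linter.unusedSimpArgs false
set_option linter.unusedVariables false

namespace Cfsg.Agent.Lib.KS2.LawSz

open Polynomial Matrix
open scoped MatrixGroups

/-- Vectors of length four. -/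
@[ext] structure V4 (R : Type*) where
  a : R
  b : R
  c : R
  d : R

/-- Reversal of coordinates. -/
def rev {R : Type*} (v : V4 R) : V4 R := ⟨v.d, v.c, v.b, v.a⟩

/-- Parameters of a lower unitriangular matrix of the relevant shape. -/
structure LP (R : Type*) where
  A : R
  al : R
  C : R
  B : R
  D : R

/-- The action on vectors. -/
def LP.act {R : Type*} [CommRing R] (p : LP R) (v : V4 R) : V4 R :=
  ⟨v.a, p.A * v.a + v.b, p.C * v.a + p.al * v.b + v.c, p.D * v.a + p.B * v.b + p.A * v.c + v.d⟩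

/-- Composition. -/
def LP.comp {R : Type*} [CommRing R] (p₂ p₁ : LP R) : LP R :=
  ⟨p₂.A + p₁.A, p₂.al + p₁.al, p₂.C + p₂.al * p₁.A + p₁.C, p₂.B + p₂.A * p₁.al + p₁.B,
    p₂.D + p₂.B * p₁.A + p₂.A * p₁.C + p₁.D⟩

lemma act_comp {R : Type*} [CommRing R] (p₂ p₁ : LP R) (v : V4 R) :
    (p₂.comp p₁).act v = p₂.act (p₁.act v) := by
  ext <;> simp only [LP.act, LP.comp] <;> ring

variable {F : Type*} [Field F]

/-- Dominated by the first coordinate. -/
def Dom (v : V4 F[X]) : Prop :=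
  v.a ≠ 0 ∧ v.b.natDegree ≤ v.a.natDegree ∧ v.c.natDegree ≤ v.a.natDegree ∧ v.d.natDegree ≤ v.a.natDegree

/-- Dominated by `D`. -/
def Good (p : LP F[X]) : Prop :=
  p.D ≠ 0 ∧ p.A.natDegree < p.D.natDegree ∧ p.B.natDegree < p.D.natDegree ∧
    p.C.natDegree ≤ p.D.natDegree ∧ p.al.natDegree ≤ p.D.natDegree

lemma good_act {p : LP F[X]} {v : V4 F[X]} (hp : Good p) (hv : Dom v) :
    Dom (rev (p.act v)) ∧ (rev (p.act v)).a.natDegree = p.D.natDegree + v.a.natDegree := by
  obtain ⟨hD, h1, h2, h3, h4⟩ := hp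
  obtain ⟨ha, h5, h6, h7⟩ := hv
  have hm : (p.D * v.a).natDegree = p.D.natDegree + v.a.natDegree := natDegree_mul hD ha
  have hB : (p.B * v.b).natDegree < p.D.natDegree + v.a.natDegree :=
    lt_of_le_of_lt natDegree_mul_le (by omega)
  have hA : (p.A * v.c).natDegree < p.D.natDegree + v.a.natDegree :=
    lt_of_le_of_lt natDegree_mul_le (by omega)
  have hd : v.d.natDegree < p.D.natDegree + v.a.natDegree := by omega
  have hrest : (p.B * v.b + (p.A * v.c + v.d)).natDegree < p.D.natDegree + v.a.natDegree :=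
    lt_of_le_of_lt (natDegree_add_le _ _)
      (max_lt hB (lt_of_le_of_lt (natDegree_add_le _ _) (max_lt hA hd)))
  have e : p.D * v.a + p.B * v.b + p.A * v.c + v.d = p.D * v.a + (p.B * v.b + (p.A * v.c + v.d)) := by ring
  have hdeg : (p.D * v.a + p.B * v.b + p.A * v.c + v.d).natDegree = p.D.natDegree + v.a.natDegree := by
    rw [e, natDegree_add_eq_left_of_natDegree_lt (by rw [hm]; exact hrest), hm]
  have hne : p.D * v.a + p.B * v.b + p.A * v.c + v.d ≠ 0 := by
    intro h0
    rw [h0] at hdeg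
    simp at hdeg
    omega
  refine ⟨⟨hne, ?_, ?_, ?_⟩, hdeg⟩
  · show (p.C * v.a + p.al * v.b + v.c).natDegree ≤ _
    show _ ≤ (p.D * v.a + p.B * v.b + p.A * v.c + v.d).natDegree
    rw [hdeg]
    refine (natDegree_add_le _ _).trans (max_le ((natDegree_add_le _ _).trans (max_le ?_ ?_)) (by omega))
    · exact natDegree_mul_le.trans (by omega)
    · exact natDegree_mul_le.trans (by omega)
  · show (p.A * v.a + v.b).natDegree ≤ _
    show _ ≤ (p.D * v.a + p.B * v.b + p.A * v.c + v.d).natDegree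
    rw [hdeg]
    refine (natDegree_add_le _ _).trans (max_le ?_ (by omega))
    exact natDegree_mul_le.trans (by omega)
  · show v.a.natDegree ≤ _
    show _ ≤ (p.D * v.a + p.B * v.b + p.A * v.c + v.d).natDegree
    rw [hdeg]
    omega

/-- First block of the `i`-th generator. -/
noncomputable def Pt1 (F : Type*) [Field F] (e i : ℕ) : LP F[X] :=
  ⟨X ^ (i + 1), X ^ ((i + 1) * e), X ^ ((i + 1) + (i + 1) * e), 0, X ^ (2 * (i + 1) + (i + 1) * e)⟩

/-- Second block of the `i`-th generator. -/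
noncomputable def Pt2 (F : Type*) [Field F] (e i : ℕ) : LP F[X] :=
  ⟨X ^ (i + 1), X ^ ((i + 1) * e), 0, X ^ ((i + 1) + (i + 1) * e), X ^ (2 * (i + 1) + (i + 1) * e)⟩

lemma good_Pt1 (e i : ℕ) : Good (Pt1 F e i) := by
  refine ⟨pow_ne_zero _ X_ne_zero, ?_, ?_, ?_, ?_⟩ <;> simp only [Pt1, natDegree_X_pow, natDegree_zero]
  · nlinarith
  · nlinarith [Nat.zero_le ((i + 1) * e)]
  · omega
  · omega

lemma good_Pt2 (e i : ℕ) : Good (Pt2 F e i) := by
  refine ⟨pow_ne_zero _ X_ne_zero, ?_, ?_, ?_, ?_⟩ <;> simp only [Pt2, natDegree_X_pow, natDegree_zero]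
  · nlinarith
  · nlinarith [Nat.zero_le ((i + 1) * e)]
  · omega
  · omega

lemma natDegree_add_X_pow {T : ℕ} {r : F[X]} (hT : 0 < T) (h : r.natDegree < T) :
    (X ^ T + r).natDegree = T := by
  rw [natDegree_add_eq_left_of_natDegree_lt (by rw [natDegree_X_pow]; exact h), natDegree_X_pow]

/-- The merged block is good. -/
lemma good_comp (e : ℕ) {i k : ℕ} (hik : i ≠ k) : Good ((Pt2 F e i).comp (Pt1 F e k)) := by
  -- write `i' = i + 1`, `k' = k + 1`
  set i' := i + 1 with hi'
  set k' := k + 1 with hk'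
  have hi0 : 0 < i' := by omega
  have hk0 : 0 < k' := by omega
  have hik' : i' ≠ k' := by omega
  set M := max i' k' with hM
  have hiM : i' ≤ M := le_max_left _ _
  have hkM : k' ≤ M := le_max_right _ _
  have hM0 : 0 < M := by omega
  set T := 2 * M + M * e with hT
  have hT0 : 0 < T := by nlinarith
  have hie : i' * e ≤ M * e := Nat.mul_le_mul_right e hiM
  have hke : k' * e ≤ M * e := Nat.mul_le_mul_right e hkM
  -- the form of D
  have hDe : ((Pt2 F e i).comp (Pt1 F e k)).D =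
      X ^ (2 * i' + i' * e) + X ^ (i' + i' * e) * X ^ k' + X ^ i' * X ^ (k' + k' * e) + X ^ (2 * k' + k' * e) := by
    simp [LP.comp, Pt1, Pt2, hi', hk']
  have hDdeg : ((Pt2 F e i).comp (Pt1 F e k)).D.natDegree = T := by
    rw [hDe]
    rcases lt_or_gt_of_ne hik' with hlt | hlt
    · have hMe : M = k' := max_eq_right hlt.le
      have e1 : (X ^ (2 * i' + i' * e) + X ^ (i' + i' * e) * X ^ k' + X ^ i' * X ^ (k' + k' * e) + X ^ (2 * k' + k' * e) : F[X]) =
          X ^ T + (X ^ (2 * i' + i' * e) + X ^ (i' + i' * e + k') + X ^ (i' + (k' + k' * e))) := by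
        rw [hT, hMe, pow_add _ (i' + i' * e) k', pow_add _ i' (k' + k' * e)]
        ring
      rw [e1]
      apply natDegree_add_X_pow hT0
      have h1 : (2 * i' + i' * e) < T := by rw [hT, hMe]; rw [hMe] at hie; omega
      have h2 : (i' + i' * e + k') < T := by rw [hT, hMe]; rw [hMe] at hie; omega
      have h3 : (i' + (k' + k' * e)) < T := by rw [hT, hMe]; omega
      refine lt_of_le_of_lt (natDegree_add_le _ _) (max_lt (lt_of_le_of_lt (natDegree_add_le _ _) (max_lt ?_ ?_)) ?_)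
      all_goals rw [natDegree_X_pow]
      all_goals assumption
    · have hMe : M = i' := max_eq_left hlt.le
      have e1 : (X ^ (2 * i' + i' * e) + X ^ (i' + i' * e) * X ^ k' + X ^ i' * X ^ (k' + k' * e) + X ^ (2 * k' + k' * e) : F[X]) =
          X ^ T + (X ^ (2 * k' + k' * e) + X ^ (i' + i' * e + k') + X ^ (i' + (k' + k' * e))) := by
        rw [hT, hMe, pow_add _ (i' + i' * e) k', pow_add _ i' (k' + k' * e)]
        ring
      rw [e1]
      apply natDegree_add_X_pow hT0
      have h1 : (2 * k' + k' * e) < T := by rw [hT, hMe]; rw [hMe] at hke; omega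
      have h2 : (i' + i' * e + k') < T := by rw [hT, hMe]; omega
      have h3 : (i' + (k' + k' * e)) < T := by rw [hT, hMe]; rw [hMe] at hke; omega
      refine lt_of_le_of_lt (natDegree_add_le _ _) (max_lt (lt_of_le_of_lt (natDegree_add_le _ _) (max_lt ?_ ?_)) ?_)
      all_goals rw [natDegree_X_pow]
      all_goals assumption
  refine ⟨?_, ?_, ?_, ?_, ?_⟩
  · intro h0
    rw [h0] at hDdeg
    simp at hDdeg
    omega
  · rw [hDdeg]
    show (X ^ i' + X ^ k' : F[X]).natDegree < T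
    refine lt_of_le_of_lt (natDegree_add_le _ _) (max_lt ?_ ?_) <;> rw [natDegree_X_pow] <;> omega
  · rw [hDdeg]
    show (X ^ (i' + i' * e) + X ^ i' * X ^ (k' * e) + 0 : F[X]).natDegree < T
    rw [add_zero]
    refine lt_of_le_of_lt (natDegree_add_le _ _) (max_lt ?_ ?_)
    · rw [natDegree_X_pow]; omega
    · rw [← pow_add, natDegree_X_pow]; omega
  · rw [hDdeg]
    show (0 + X ^ (i' * e) * X ^ k' + X ^ (k' + k' * e) : F[X]).natDegree ≤ T
    rw [zero_add]
    refine (natDegree_add_le _ _).trans (max_le ?_ ?_)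
    · rw [← pow_add, natDegree_X_pow]; omega
    · rw [natDegree_X_pow]; omega
  · rw [hDdeg]
    show (X ^ (i' * e) + X ^ (k' * e) : F[X]).natDegree ≤ T
    refine (natDegree_add_le _ _).trans (max_le ?_ ?_) <;> rw [natDegree_X_pow] <;> omega

/-- The generic vector attached to a word. -/
noncomputable def vec (F : Type*) [Field F] (e : ℕ) : List (ℕ × Bool) → V4 F[X]
  | [] => ⟨1, 0, 0, 1⟩
  | (i, true) :: L => (Pt1 F e i).act (rev ((Pt2 F e i).act (rev (vec F e L))))
  | (i, false) :: L => rev ((Pt1 F e i).act (rev ((Pt2 F e i).act (vec F e L))))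

/-- Shape of the vector according to the head letter. -/
def Inv (e : ℕ) : List (ℕ × Bool) → V4 F[X] → Prop
  | [], _ => True
  | (k, true) :: _, v => ∃ y, Dom y ∧ v = (Pt1 F e k).act y
  | (k, false) :: _, v => ∃ y, Dom y ∧ v = rev ((Pt1 F e k).act y)

lemma rev_rev {R : Type*} (v : V4 R) : rev (rev v) = v := rfl

lemma dom_start : Dom (⟨1, 0, 0, 1⟩ : V4 F[X]) := by
  refine ⟨one_ne_zero, ?_, ?_, ?_⟩ <;> simp

lemma vec_inv (e : ℕ) (L : List (ℕ × Bool)) (hL : FreeGroup.IsReduced L) : Inv (F := F) e L (vec F e L) := by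
  induction L with
  | nil => trivial
  | cons a L ih =>
    have hL' : FreeGroup.IsReduced L := hL.infix ⟨[a], [], by simp⟩
    have ih' := ih hL'
    rcases a with ⟨i, s⟩
    cases s with
    | true =>
      refine ⟨rev ((Pt2 F e i).act (rev (vec F e L))), ?_, rfl⟩
      cases L with
      | nil => exact (good_act (good_Pt2 e i) dom_start).1
      | cons b L' =>
        rcases b with ⟨k, t⟩
        have hred := (FreeGroup.isReduced_cons_cons.mp hL).1
        simp only at hred
        cases t with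
        | true =>
          obtain ⟨y, hy, hv⟩ := ih'
          rw [hv]
          exact (good_act (good_Pt2 e i) (good_act (good_Pt1 e k) hy).1).1
        | false =>
          obtain ⟨y, hy, hv⟩ := ih'
          have hik : i ≠ k := by
            intro h
            have := hred h
            simp at this
          rw [hv, rev_rev, ← act_comp]
          exact (good_act (good_comp e hik) hy).1
    | false =>
      refine ⟨rev ((Pt2 F e i).act (vec F e L)), ?_, rfl⟩
      cases L with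
      | nil => exact (good_act (good_Pt2 e i) dom_start).1
      | cons b L' =>
        rcases b with ⟨k, t⟩
        have hred := (FreeGroup.isReduced_cons_cons.mp hL).1
        simp only at hred
        cases t with
        | false =>
          obtain ⟨y, hy, hv⟩ := ih'
          rw [hv]
          exact (good_act (good_Pt2 e i) (good_act (good_Pt1 e k) hy).1).1
        | true =>
          obtain ⟨y, hy, hv⟩ := ih'
          have hik : i ≠ k := by
            intro h
            have := hred h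
            simp at this
          rw [hv, ← act_comp]
          exact (good_act (good_comp e hik) hy).1

/-- The vector moves. -/
lemma vec_ne (e : ℕ) (L : List (ℕ × Bool)) (hL : FreeGroup.IsReduced L) (hne : L ≠ []) :
    (vec F e L).a ≠ 1 ∨ (vec F e L).d ≠ 1 := by
  have h := vec_inv (F := F) e L hL
  cases L with
  | nil => exact absurd rfl hne
  | cons a L' =>
    rcases a with ⟨i, s⟩
    cases s with
    | true =>
      obtain ⟨y, hy, hv⟩ := h
      right
      rw [hv]
      intro h0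
      have h1 := (good_act (good_Pt1 (F := F) e i) hy).2
      have h2 : ((Pt1 F e i).act y).d = 1 := h0
      have h3 : (rev ((Pt1 F e i).act y)).a = ((Pt1 F e i).act y).d := rfl
      rw [h3, h2, natDegree_one] at h1
      simp only [Pt1, natDegree_X_pow] at h1
      omega
    | false =>
      obtain ⟨y, hy, hv⟩ := h
      left
      rw [hv]
      intro h0
      have h1 := (good_act (good_Pt1 (F := F) e i) hy).2
      rw [h0, natDegree_one] at h1
      simp only [Pt1, natDegree_X_pow] at h1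
      omega

/-- All coordinates have bounded degree. -/
def Bd (v : V4 F[X]) (D : ℕ) : Prop :=
  v.a.natDegree ≤ D ∧ v.b.natDegree ≤ D ∧ v.c.natDegree ≤ D ∧ v.d.natDegree ≤ D

lemma bd_rev {v : V4 F[X]} {D : ℕ} (h : Bd v D) : Bd (rev v) D := by
  obtain ⟨h1, h2, h3, h4⟩ := h
  exact ⟨h4, h3, h2, h1⟩

lemma bd_act {p : LP F[X]} {v : V4 F[X]} {D P : ℕ} (h : Bd v D)
    (hA : p.A.natDegree ≤ P) (hal : p.al.natDegree ≤ P) (hC : p.C.natDegree ≤ P) (hB : p.B.natDegree ≤ P)
    (hD : p.D.natDegree ≤ P) : Bd (p.act v) (D + P) := by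
  obtain ⟨h1, h2, h3, h4⟩ := h
  have hm : ∀ {x y : F[X]} {m n : ℕ}, x.natDegree ≤ m → y.natDegree ≤ n → (x * y).natDegree ≤ m + n := by
    intro x y m n hx hy
    exact natDegree_mul_le.trans (by omega)
  refine ⟨by show v.a.natDegree ≤ _; omega, ?_, ?_, ?_⟩
  · show (p.A * v.a + v.b).natDegree ≤ _
    refine (natDegree_add_le _ _).trans (max_le ?_ (by omega))
    have := hm hA h1; omega
  · show (p.C * v.a + p.al * v.b + v.c).natDegree ≤ _
    refine (natDegree_add_le _ _).trans (max_le ((natDegree_add_le _ _).trans (max_le ?_ ?_)) (by omega))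
    · have := hm hC h1; omega
    · have := hm hal h2; omega
  · show (p.D * v.a + p.B * v.b + p.A * v.c + v.d).natDegree ≤ _
    refine (natDegree_add_le _ _).trans (max_le ((natDegree_add_le _ _).trans (max_le ((natDegree_add_le _ _).trans (max_le ?_ ?_)) ?_)) (by omega))
    · have := hm hD h1; omega
    · have := hm hB h2; omega
    · have := hm hA h3; omega

lemma bd_vec (e : ℕ) (L : List (ℕ × Bool)) : Bd (vec F e L) ((2 + e) * Law.Dw L) := by
  induction L with
  | nil =>
    refine ⟨?_, ?_, ?_, ?_⟩ <;> simp [vec]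
  | cons a L ih =>
    rcases a with ⟨i, s⟩
    have hP : ∀ n : ℕ, (n = i + 1 ∨ n = (i + 1) * e ∨ n = (i + 1) + (i + 1) * e ∨ n = 2 * (i + 1) + (i + 1) * e) →
        n ≤ (2 + e) * (i + 1) := by
      intro n hn
      have e1 : (2 + e) * (i + 1) = 2 * (i + 1) + (i + 1) * e := by ring
      rw [e1]
      rcases hn with h | h | h | h <;> omega
    have h1 : ∀ v : V4 F[X], ∀ D : ℕ, Bd v D → Bd ((Pt1 F e i).act v) (D + (2 + e) * (i + 1)) := by
      intro v D hv
      refine bd_act hv ?_ ?_ ?_ ?_ ?_ <;> simp only [Pt1, natDegree_X_pow, natDegree_zero] <;> first | exact Nat.zero_le _ | (apply hP; simp)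
    have h2 : ∀ v : V4 F[X], ∀ D : ℕ, Bd v D → Bd ((Pt2 F e i).act v) (D + (2 + e) * (i + 1)) := by
      intro v D hv
      refine bd_act hv ?_ ?_ ?_ ?_ ?_ <;> simp only [Pt2, natDegree_X_pow, natDegree_zero] <;> first | exact Nat.zero_le _ | (apply hP; simp)
    have e2 : (2 + e) * Law.Dw ((i, s) :: L) = (2 + e) * Law.Dw L + (2 + e) * (i + 1) + (2 + e) * (i + 1) := by
      simp only [Law.Dw]
      ring
    rw [e2]
    cases s with
    | true =>
      exact h1 _ _ (bd_rev (h2 _ _ (bd_rev ih)))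
    | false =>
      exact bd_rev (h1 _ _ (bd_rev (h2 _ _ ih)))

section Matrices

variable {F : Type*} [Field F]

/-- The matrix of a parameter tuple. -/
def LM (p : LP F) : Matrix (Fin 4) (Fin 4) F :=
  !![1, 0, 0, 0; p.A, 1, 0, 0; p.C, p.al, 1, 0; p.D, p.B, p.A, 1]

/-- Coordinates. -/
def toV (v : V4 F) : Fin 4 → F := ![v.a, v.b, v.c, v.d]

lemma toV_eta (u : Fin 4 → F) : u = toV ⟨u 0, u 1, u 2, u 3⟩ := by
  ext i; fin_cases i <;> simp [toV]

lemma LM_mulVec (p : LP F) (v : V4 F) : LM p *ᵥ toV v = toV (p.act v) := by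
  ext i
  fin_cases i <;> simp [LM, toV, LP.act, mulVec, dotProduct, Fin.sum_univ_four] <;> ring

/-- The antidiagonal matrix. -/
def WM : Matrix (Fin 4) (Fin 4) F := !![0, 0, 0, 1; 0, 0, 1, 0; 0, 1, 0, 0; 1, 0, 0, 0]

lemma WM_mulVec (v : V4 F) : WM *ᵥ toV v = toV (rev v) := by
  ext i
  fin_cases i <;> simp [WM, toV, rev, mulVec, dotProduct, Fin.sum_univ_four]

lemma WM_sq : (WM : Matrix (Fin 4) (Fin 4) F) * WM = 1 := by
  ext i j
  fin_cases i <;> fin_cases j <;> simp [WM, Matrix.mul_apply, Fin.sum_univ_four]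

lemma LM_comp (p₂ p₁ : LP F) : LM p₂ * LM p₁ = LM (p₂.comp p₁) := by
  ext i j
  fin_cases i <;> fin_cases j <;> simp [LM, LP.comp, Matrix.mul_apply, Fin.sum_univ_four] <;> ring

/-- The Suzuki root element. -/
def UL (a α : F) : LP F := ⟨a, α, a * α, 0, a ^ 2 * α⟩

/-- Its inverse. -/
def UR (a α : F) : LP F := ⟨a, α, 0, a * α, a ^ 2 * α⟩

lemma LM_one : LM (⟨0, 0, 0, 0, 0⟩ : LP F) = 1 := by
  ext i j
  fin_cases i <;> fin_cases j <;> simp [LM]

lemma UL_mul_UR (h2 : (2 : F) = 0) (a α : F) : LM (UL a α) * LM (UR a α) = 1 := by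
  rw [LM_comp, ← LM_one]
  congr 1
  simp only [LP.comp, UL, UR]
  congr 1
  · linear_combination a * h2
  · linear_combination α * h2
  · linear_combination (a * α) * h2
  · linear_combination (a * α) * h2
  · linear_combination (a ^ 2 * α) * h2

lemma UR_mul_UL (h2 : (2 : F) = 0) (a α : F) : LM (UR a α) * LM (UL a α) = 1 :=
  mul_eq_one_comm.mp (UL_mul_UR h2 a α)

/-- The root element in `GL₄`. -/
def UU (h2 : (2 : F) = 0) (a α : F) : GL (Fin 4) F := ⟨LM (UL a α), LM (UR a α), UL_mul_UR h2 a α, UR_mul_UL h2 a α⟩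

/-- The antidiagonal element of `GL₄`. -/
def WW : GL (Fin 4) F := ⟨WM, WM, WM_sq, WM_sq⟩

lemma WW_inv : (WW : GL (Fin 4) F)⁻¹ = WW := Units.ext rfl

/-- The generators. -/
def XX (h2 : (2 : F) = 0) (a α : F) : GL (Fin 4) F := UU h2 a α * (WW * (UU h2 a α)⁻¹ * WW)

lemma XX_act (h2 : (2 : F) = 0) (a α : F) (v : V4 F) :
    ((XX h2 a α : GL (Fin 4) F) : Matrix (Fin 4) (Fin 4) F) *ᵥ toV v =
      toV ((UL a α).act (rev ((UR a α).act (rev v)))) := by
  have e : ((XX h2 a α : GL (Fin 4) F) : Matrix (Fin 4) (Fin 4) F) = LM (UL a α) * (WM * LM (UR a α) * WM) := rfl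
  rw [e, ← mulVec_mulVec, ← mulVec_mulVec, ← mulVec_mulVec, WM_mulVec, LM_mulVec, WM_mulVec, LM_mulVec]

lemma XX_inv_act (h2 : (2 : F) = 0) (a α : F) (v : V4 F) :
    (((XX h2 a α)⁻¹ : GL (Fin 4) F) : Matrix (Fin 4) (Fin 4) F) *ᵥ toV v =
      toV (rev ((UL a α).act (rev ((UR a α).act v)))) := by
  have e0 : (XX h2 a α)⁻¹ = WW * UU h2 a α * WW * (UU h2 a α)⁻¹ := by
    unfold XX
    simp only [_root_.mul_inv_rev, inv_inv, WW_inv, mul_assoc]
  have e : (((XX h2 a α)⁻¹ : GL (Fin 4) F) : Matrix (Fin 4) (Fin 4) F) = WM * LM (UL a α) * WM * LM (UR a α) := by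
    rw [e0]; rfl
  rw [e, ← mulVec_mulVec, ← mulVec_mulVec, ← mulVec_mulVec, LM_mulVec, WM_mulVec, LM_mulVec, WM_mulVec]

end Matrices

section Sz

variable {F : Type*} [Field F]

lemma UU_sp (h2 : (2 : F) = 0) (a α : F) : UU h2 a α ∈ Cfsg.Lie.Sp4 F := by
  intro u v
  show Cfsg.Lie.altForm4 (LM (UL a α) *ᵥ u) (LM (UL a α) *ᵥ v) = Cfsg.Lie.altForm4 u v
  rw [toV_eta u, toV_eta v, LM_mulVec, LM_mulVec]
  simp only [Cfsg.Lie.altForm4, toV, LP.act, UL]
  simp
  linear_combination (2 * a ^ 2 * α * u 0 * v 0 + a * α * u 0 * v 1 + a * u 0 * v 2 + a * α * u 1 * v 0 + α * u 1 * v 1 + a * u 2 * v 0) * h2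

lemma WW_sp : (WW : GL (Fin 4) F) ∈ Cfsg.Lie.Sp4 F := by
  intro u v
  show Cfsg.Lie.altForm4 (WM *ᵥ u) (WM *ᵥ v) = Cfsg.Lie.altForm4 u v
  rw [toV_eta u, toV_eta v, WM_mulVec, WM_mulVec]
  simp only [Cfsg.Lie.altForm4, toV, rev]
  simp
  ring

lemma UU_star (h2 : (2 : F) = 0) (e : ℕ) (he : e ≠ 0) (a α : F) (h1 : a ^ e = α) (h3 : α ^ e = a ^ 2) :
    Cfsg.Lie.star4 (LM (UL a α)) = (LM (UL a α)).map (fun x => x ^ e) := by
  have hneg : ∀ x : F, -x = x := fun x => by
    linear_combination (-x) * h2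
  ext i j
  fin_cases i <;> fin_cases j <;>
    simp [Cfsg.Lie.star4, Cfsg.Lie.pairOf, LM, UL, he, mul_pow, h1, h3, hneg] <;> first | ring1 | (rw [← pow_mul, mul_comm 2 e, pow_mul, h1]; ring1)

lemma WW_star (h2 : (2 : F) = 0) (e : ℕ) (he : e ≠ 0) :
    Cfsg.Lie.star4 (WM : Matrix (Fin 4) (Fin 4) F) = (WM : Matrix (Fin 4) (Fin 4) F).map (fun x => x ^ e) := by
  have hneg : ∀ x : F, -x = x := fun x => by
    linear_combination (-x) * h2
  ext i j
  fin_cases i <;> fin_cases j <;>
    simp [Cfsg.Lie.star4, Cfsg.Lie.pairOf, WM, he, hneg]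

lemma XX_mem (h2 : (2 : F) = 0) (e : ℕ) (he : e ≠ 0) (a α : F) (h1 : a ^ e = α) (h3 : α ^ e = a ^ 2) :
    XX h2 a α ∈ Cfsg.Lie.Sz F e := by
  have hU : UU h2 a α ∈ Cfsg.Lie.Sz F e := Subgroup.subset_closure ⟨UU_sp h2 a α, UU_star h2 e he a α h1 h3⟩
  have hW : (WW : GL (Fin 4) F) ∈ Cfsg.Lie.Sz F e := Subgroup.subset_closure ⟨WW_sp, WW_star h2 e he⟩
  exact Subgroup.mul_mem _ hU (Subgroup.mul_mem _ (Subgroup.mul_mem _ hW (Subgroup.inv_mem _ hU)) hW)

end Sz

section Final

variable {F : Type*} [Field F]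

/-- Evaluation of a parameter tuple. -/
noncomputable def evalP (t : F) (p : LP F[X]) : LP F :=
  ⟨p.A.eval t, p.al.eval t, p.C.eval t, p.B.eval t, p.D.eval t⟩

/-- Evaluation of a vector. -/
noncomputable def evalV (t : F) (v : V4 F[X]) : V4 F := ⟨v.a.eval t, v.b.eval t, v.c.eval t, v.d.eval t⟩

lemma evalV_act (t : F) (p : LP F[X]) (v : V4 F[X]) : evalV t (p.act v) = (evalP t p).act (evalV t v) := by
  simp [evalV, evalP, LP.act]

lemma evalV_rev (t : F) (v : V4 F[X]) : evalV t (rev v) = rev (evalV t v) := rfl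

lemma evalP_Pt1 (t : F) (e i : ℕ) : evalP t (Pt1 F e i) = UL (t ^ (i + 1)) ((t ^ (i + 1)) ^ e) := by
  simp only [evalP, Pt1, UL, eval_pow, eval_X, eval_zero, ← pow_mul, ← pow_add]
  congr 2
  ring

lemma evalP_Pt2 (t : F) (e i : ℕ) : evalP t (Pt2 F e i) = UR (t ^ (i + 1)) ((t ^ (i + 1)) ^ e) := by
  simp only [evalP, Pt2, UR, eval_pow, eval_X, eval_zero, ← pow_mul, ← pow_add]
  congr 2
  ring

/-- The word acts on the start vector as computed. -/
lemma word_act (h2 : (2 : F) = 0) (t : F) (e : ℕ) (L : List (ℕ × Bool)) :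
    (((L.map (fun x => cond x.2 (XX h2 (t ^ (x.1 + 1)) ((t ^ (x.1 + 1)) ^ e))
        (XX h2 (t ^ (x.1 + 1)) ((t ^ (x.1 + 1)) ^ e))⁻¹)).prod : GL (Fin 4) F) : Matrix (Fin 4) (Fin 4) F) *ᵥ
      toV ⟨1, 0, 0, 1⟩ = toV (evalV t (vec F e L)) := by
  induction L with
  | nil =>
    simp [vec, evalV]
  | cons a L ih =>
    simp only [List.map_cons, List.prod_cons, Units.val_mul]
    rw [← mulVec_mulVec, ih]
    rcases a with ⟨i, s⟩
    cases s with
    | true =>
      simp only [cond_true]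
      rw [XX_act]
      simp only [vec, evalV_act, evalV_rev, evalP_Pt1, evalP_Pt2]
    | false =>
      simp only [cond_false]
      rw [XX_inv_act]
      simp only [vec, evalV_act, evalV_rev, evalP_Pt1, evalP_Pt2]

/-- The main statement. -/
theorem sz_not_law [Fintype F] (w : FreeGroup ℕ) (hw : w ≠ 1) (m : ℕ) (hcard : Fintype.card F = 2 ^ (2 * m + 1))
    (hm : 2 * Law.Dw w.toWord < 2 ^ m) :
    ∃ f : ℕ → ↥(Cfsg.Lie.Sz F (2 ^ (m + 1))), FreeGroup.lift f w ≠ 1 := by
  classical
  set e := 2 ^ (m + 1) with he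
  have he0 : e ≠ 0 := by positivity
  have h2 : (2 : F) = 0 := by
    have h0 := FiniteField.cast_card_eq_zero F
    rw [hcard] at h0
    push_cast at h0
    exact pow_eq_zero_iff (by omega) |>.mp h0
  have hθ : ∀ x : F, (x ^ e) ^ e = x ^ 2 := by
    intro x
    have h3 : e * e = Fintype.card F * 2 := by
      rw [hcard, he]; ring
    rw [← pow_mul, h3, pow_mul, FiniteField.pow_card]
  set L := w.toWord with hL
  have hred : FreeGroup.IsReduced L := FreeGroup.isReduced_toWord
  have hne : L ≠ [] := fun h => hw (FreeGroup.toWord_eq_nil_iff.mp h)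
  have hdeg := bd_vec (F := F) e L
  have hbound : (2 + e) * Law.Dw L < Fintype.card F := by
    have h4 : 2 ≤ e := by
      rw [he, pow_succ]
      have : 1 ≤ 2 ^ m := Nat.one_le_two_pow
      omega
    have h5 : Fintype.card F = e * 2 ^ m := by
      rw [hcard, he]; ring
    rw [h5]
    have h6 : (2 + e) * Law.Dw L ≤ e * (2 * Law.Dw L) := by
      have : 2 + e ≤ e * 2 := by omega
      calc (2 + e) * Law.Dw L ≤ (e * 2) * Law.Dw L := Nat.mul_le_mul_right _ this
        _ = e * (2 * Law.Dw L) := by ring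
    exact lt_of_le_of_lt h6 (Nat.mul_lt_mul_of_pos_left hm (by omega))
  -- there is a point at which the vector moves
  have hex : ∃ t : F, toV (evalV t (vec F e L)) ≠ toV ⟨1, 0, 0, 1⟩ := by
    rcases vec_ne (F := F) e L hred hne with h | h
    · have hP : (vec F e L).a - 1 ≠ 0 := sub_ne_zero.mpr h
      obtain ⟨t, ht⟩ := exists_eval_ne_zero_of_natDegree_lt_card _ hP (by
        rw [Cardinal.mk_fintype]
        have h7 : ((vec F e L).a - 1).natDegree ≤ (2 + e) * Law.Dw L := by
          refine (natDegree_sub_le _ _).trans (max_le hdeg.1 ?_)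
          simp
        exact_mod_cast lt_of_le_of_lt h7 hbound)
      refine ⟨t, fun h0 => ht ?_⟩
      have := congrFun h0 0
      simp only [toV, evalV] at this
      simp only [Matrix.cons_val_zero] at this
      rw [eval_sub, this]
      simp
    · have hP : (vec F e L).d - 1 ≠ 0 := sub_ne_zero.mpr h
      obtain ⟨t, ht⟩ := exists_eval_ne_zero_of_natDegree_lt_card _ hP (by
        rw [Cardinal.mk_fintype]
        have h7 : ((vec F e L).d - 1).natDegree ≤ (2 + e) * Law.Dw L := by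
          refine (natDegree_sub_le _ _).trans (max_le hdeg.2.2.2 ?_)
          simp
        exact_mod_cast lt_of_le_of_lt h7 hbound)
      refine ⟨t, fun h0 => ht ?_⟩
      have := congrFun h0 3
      simp only [toV, evalV] at this
      simp at this
      rw [eval_sub, this]
      simp
  obtain ⟨t, ht⟩ := hex
  have hmem : ∀ i : ℕ, XX h2 (t ^ (i + 1)) ((t ^ (i + 1)) ^ e) ∈ Cfsg.Lie.Sz F e := fun i =>
    XX_mem h2 e he0 _ _ rfl (hθ _)
  refine ⟨fun i => ⟨_, hmem i⟩, ?_⟩
  intro h1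
  have h3 := congrArg (Subgroup.subtype (Cfsg.Lie.Sz F e)) h1
  rw [Law.lift_map, map_one] at h3
  have h4 : w = FreeGroup.mk L := FreeGroup.mk_toWord.symm
  rw [h4, FreeGroup.lift_mk] at h3
  have h5 := word_act h2 t e L
  apply ht
  rw [← h5]
  have h6 : (L.map (fun x => cond x.2 (XX h2 (t ^ (x.1 + 1)) ((t ^ (x.1 + 1)) ^ e))
        (XX h2 (t ^ (x.1 + 1)) ((t ^ (x.1 + 1)) ^ e))⁻¹)).prod = 1 := h3
  rw [h6]
  simp

end Final

end Cfsg.Agent.Lib.KS2.LawSz
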