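import Mathlib
import Cfsg.Agent.Lib.Core.MinNormal
import Cfsg.Agent.Lib.PSolv.Glauberman

/-!
General lemmas towards groups of order 7920 with disconnected prime graph.
-/

set_option autoImplicit false
set_option linter.unusedSectionVars false
set_option linter.unusedVariables false

namespace Cfsg.Agent.Lib.KS2.O79

open Subgroup
open scoped commutatorElement

variable {G : Type*} [Group G] [Finite G]

/-- Adjacency in the prime graph. -/
def Adj (G : Type*) [Group G] (p q : ℕ) : Prop := ∃ g : G, orderOf g = p * q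

lemma adj_of_commute {x y : G} {p q : ℕ} (hp : p.Prime) (hq : q.Prime) (hpq : p ≠ q) (hc : Commute x y)
    (hx : p ∣ orderOf x) (hy : q ∣ orderOf y) : Adj G p q := by
  have e1 : orderOf (x ^ (orderOf x / p)) = p := orderOf_pow_orderOf_div (orderOf_pos x).ne' hx
  have e2 : orderOf (y ^ (orderOf y / q)) = q := orderOf_pow_orderOf_div (orderOf_pos y).ne' hy
  refine ⟨x ^ (orderOf x / p) * y ^ (orderOf y / q), ?_⟩
  have hc' : Commute (x ^ (orderOf x / p)) (y ^ (orderOf y / q)) := hc.pow_pow _ _
  rw [hc'.orderOf_mul_eq_mul_orderOf_of_coprime, e1, e2]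
  rw [e1, e2]
  exact (Nat.coprime_primes hp hq).mpr hpq

lemma prime_dvd_7920 {r : ℕ} (hr : r.Prime) (h : r ∣ 7920) : r = 2 ∨ r = 3 ∨ r = 5 ∨ r = 11 := by
  have e : (7920 : ℕ) = 2 ^ 4 * 3 ^ 2 * 5 * 11 := by norm_num
  rw [e] at h
  rcases hr.dvd_mul.mp h with h | h
  · rcases hr.dvd_mul.mp h with h | h
    · rcases hr.dvd_mul.mp h with h | h
      · exact Or.inl ((Nat.prime_dvd_prime_iff_eq hr Nat.prime_two).mp (hr.dvd_of_dvd_pow h))
      · exact Or.inr (Or.inl ((Nat.prime_dvd_prime_iff_eq hr Nat.prime_three).mp (hr.dvd_of_dvd_pow h)))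
    · exact Or.inr (Or.inr (Or.inl ((Nat.prime_dvd_prime_iff_eq hr Nat.prime_five).mp h)))
  · exact Or.inr (Or.inr (Or.inr ((Nat.prime_dvd_prime_iff_eq hr (by norm_num)).mp h)))

/-- Free actions of a subgroup on a normal subgroup. -/
lemma card_dvd_sub_one (S K : Subgroup G) [hK : K.Normal]
    (hno : ∀ g ∈ S, g ≠ 1 → ∀ y ∈ K, y ≠ 1 → ¬ Commute g y) : Nat.card S ∣ Nat.card K - 1 := by
  classical
  let X := {y : K // y ≠ 1}
  letI : MulAction S X :=
    { smul := fun g y => ⟨⟨(g : G) * y.1 * (g : G)⁻¹, hK.conj_mem _ y.1.2 _⟩, by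
        intro h
        have h1 := congrArg Subtype.val h
        simp only [coe_one] at h1
        apply y.2
        apply Subtype.ext
        simpa using h1⟩
      one_smul := by
        intro y
        apply Subtype.ext
        apply Subtype.ext
        change ((1 : S) : G) * y.1 * ((1 : S) : G)⁻¹ = y.1
        simp
      mul_smul := by
        intro a b y
        apply Subtype.ext
        apply Subtype.ext
        change ((a * b : S) : G) * y.1 * ((a * b : S) : G)⁻¹ = (a : G) * ((b : G) * y.1 * (b : G)⁻¹) * (a : G)⁻¹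
        simp only [coe_mul, mul_inv_rev]
        group }
  have hfree : ∀ b : X, MulAction.stabilizer S b = ⊥ := by
    intro b
    rw [eq_bot_iff]
    intro g hg
    rw [MulAction.mem_stabilizer_iff] at hg
    rw [mem_bot]
    by_contra hne
    have h1 : (g : G) ≠ 1 := fun h => hne (Subtype.ext h)
    have h2 : (b.1 : G) ≠ 1 := fun h => b.2 (Subtype.ext h)
    apply hno g g.2 h1 b.1 b.1.2 h2
    have h3 := congrArg (fun z : X => ((z.1 : K) : G)) hg
    have h4 : (g : G) * b.1 * (g : G)⁻¹ = b.1 := h3
    exact mul_inv_eq_iff_eq_mul.mp h4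
  have hcard : Nat.card X = Nat.card K - 1 := by
    haveI : Fintype K := Fintype.ofFinite K
    simp only [X, Nat.card_eq_fintype_card]
    rw [Fintype.card_subtype_compl]
    simp
  rw [← hcard, Nat.card_congr (MulAction.selfEquivOrbitsQuotientProd hfree), Nat.card_prod]
  exact dvd_mul_left _ _

/-- Fixed points in a normal subgroup. -/
lemma exists_fixed_elt (N : Subgroup G) [hN : N.Normal] {s r : ℕ} [hs : Fact s.Prime] [hr : Fact r.Prime]
    (x : G) (hx : orderOf x = s) (hsN : ¬ s ∣ Nat.card N) (hrN : r ∣ Nat.card N)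
    (hmod : ∀ j, 1 ≤ j → r ^ j ∣ Nat.card N → ¬ r ^ j ≡ 1 [MOD s]) :
    ∃ y ∈ N, r ∣ orderOf y ∧ Commute x y := by
  classical
  have hZ : IsPGroup s (zpowers x) := by
    rw [IsPGroup.iff_card]
    exact ⟨1, by rw [Nat.card_zpowers, hx, pow_one]⟩
  obtain ⟨R, hR⟩ := Cfsg.Agent.Lib.PSolv.exists_invariant_sylow (p := r) (zpowers x) N hZ hsN
  -- the action of `⟨x⟩` on `R`
  let P : Subgroup G := (R : Subgroup N).map N.subtype
  have hPN : P ≤ N := Subgroup.map_subtype_le _
  have hP : ∀ γ ∈ zpowers x, ∀ y ∈ P, γ * y * γ⁻¹ ∈ P := by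
    rintro γ hγ y ⟨y', hy', rfl⟩
    exact ⟨_, hR γ hγ y' hy', rfl⟩
  letI : MulAction (zpowers x) P :=
    { smul := fun g y => ⟨(g : G) * y.1 * (g : G)⁻¹, hP g g.2 y.1 y.2⟩
      one_smul := by
        intro y
        apply Subtype.ext
        change ((1 : zpowers x) : G) * y.1 * ((1 : zpowers x) : G)⁻¹ = y.1
        simp
      mul_smul := by
        intro a b y
        apply Subtype.ext
        change ((a * b : zpowers x) : G) * y.1 * ((a * b : zpowers x) : G)⁻¹ = (a : G) * ((b : G) * y.1 * (b : G)⁻¹) * (a : G)⁻¹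
        simp only [coe_mul, mul_inv_rev]
        group }
  have hc := hZ.card_modEq_card_fixedPoints P
  have hcardP : Nat.card P = Nat.card R := by
    exact Nat.card_congr (Equiv.Set.image _ _ (N.subtype_injective)).symm
  obtain ⟨j, hj⟩ : ∃ j, Nat.card P = r ^ j := by
    rw [hcardP]
    exact (IsPGroup.iff_card.mp R.isPGroup')
  have hj1 : 1 ≤ j := by
    by_contra h0
    have h0' : j = 0 := by omega
    rw [h0', pow_zero] at hj
    rw [hcardP] at hj
    have := R.card_coprime_index
    rw [hj] at this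
    have h2 := R.card_mul_index
    rw [hj, one_mul] at h2
    have h3 := R.not_dvd_index
    rw [h2] at h3
    exact h3 hrN
  have hdvd : r ^ j ∣ Nat.card N := by
    rw [← hj, hcardP]
    exact Subgroup.card_subgroup_dvd_card _
  have hne := hmod j hj1 hdvd
  rw [← hj] at hne
  have hfix1 : Nat.card (MulAction.fixedPoints (zpowers x) P) ≠ 1 := by
    intro h1
    rw [h1] at hc
    exact hne hc
  have hone : (1 : P) ∈ MulAction.fixedPoints (zpowers x) P := by
    intro g
    apply Subtype.ext
    change (g : G) * ((1 : P) : G) * (g : G)⁻¹ = ((1 : P) : G)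
    simp
  have : ∃ y : P, y ∈ MulAction.fixedPoints (zpowers x) P ∧ y ≠ 1 := by
    by_contra hcon
    push Not at hcon
    apply hfix1
    rw [Nat.card_eq_one_iff_unique]
    refine ⟨⟨?_⟩, ⟨⟨1, hone⟩⟩⟩
    intro a b
    apply Subtype.ext
    rw [hcon a.1 a.2, hcon b.1 b.2]
  obtain ⟨y, hy, hy1⟩ := this
  refine ⟨y.1, hPN y.2, ?_, ?_⟩
  · have hyp : IsPGroup r P := by
      rw [IsPGroup.iff_card]
      exact ⟨j, hj⟩
    obtain ⟨k, hk⟩ := hyp y
    have h5 : orderOf y ∣ r ^ k := orderOf_dvd_of_pow_eq_one hk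
    obtain ⟨i, _, hi⟩ := (Nat.dvd_prime_pow hr.out).mp h5
    have h6 : i ≠ 0 := by
      intro h0
      rw [h0, pow_zero, orderOf_eq_one_iff] at hi
      exact hy1 hi
    have h7 : orderOf y.1 = orderOf y := Subgroup.orderOf_coe y
    rw [h7, hi]
    exact dvd_pow_self _ h6
  · have h8 := hy ⟨x, mem_zpowers x⟩
    have h9 := congrArg Subtype.val h8
    have h10 : x * y.1 * x⁻¹ = y.1 := h9
    exact mul_inv_eq_iff_eq_mul.mp h10

/-- Minimal normal subgroups. -/
lemma min_normal_cases (N : Subgroup G) [hN : N.Normal] (hN1 : N ≠ ⊥)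
    (hmin : ∀ M : Subgroup G, M.Normal → M ≤ N → M = ⊥ ∨ M = N) :
    ⁅N, N⁆ = N ∨ ∃ r : ℕ, r.Prime ∧ IsPGroup r N := by
  classical
  rcases hmin _ (Subgroup.commutator_normal N N) (Subgroup.commutator_le_right N N) with h | h
  · right
    have hcomm : ∀ a ∈ N, ∀ b ∈ N, a * b = b * a := by
      intro a ha b hb
      have h1 : ⁅a, b⁆ ∈ ⁅N, N⁆ := Subgroup.commutator_mem_commutator ha hb
      rw [h, mem_bot] at h1
      exact commutatorElement_eq_one_iff_mul_comm.mp h1
    have hnt : Nat.card N ≠ 1 := fun h1 => hN1 (Subgroup.card_eq_one.mp h1)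
    obtain ⟨r, hr, hrN⟩ := Nat.exists_prime_and_dvd hnt
    haveI : Fact r.Prime := ⟨hr⟩
    refine ⟨r, hr, ?_⟩
    let M : Subgroup G :=
      { carrier := {y | y ∈ N ∧ y ^ r = 1}
        mul_mem' := by
          rintro a b ⟨ha, ha1⟩ ⟨hb, hb1⟩
          refine ⟨N.mul_mem ha hb, ?_⟩
          have hc : Commute a b := hcomm a ha b hb
          rw [hc.mul_pow, ha1, hb1, one_mul]
        one_mem' := ⟨N.one_mem, one_pow _⟩
        inv_mem' := by
          rintro a ⟨ha, ha1⟩
          exact ⟨N.inv_mem ha, by rw [inv_pow, ha1, inv_one]⟩ }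
    have hMn : M.Normal := by
      constructor
      rintro a ⟨ha, ha1⟩ g
      refine ⟨hN.conj_mem a ha g, ?_⟩
      rw [conj_pow, ha1]
      simp
    have hMle : M ≤ N := fun y hy => hy.1
    have hMN : M = N := by
      rcases hmin M hMn hMle with h2 | h2
      · exfalso
        obtain ⟨y, hy⟩ := exists_prime_orderOf_dvd_card' (G := N) r hrN
        have hy1 : (y : G) ∈ M := by
          refine ⟨y.2, ?_⟩
          have := pow_orderOf_eq_one y
          rw [hy] at this
          exact congrArg Subtype.val this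
        rw [h2, mem_bot] at hy1
        have hy2 : y = 1 := Subtype.ext hy1
        rw [hy2, orderOf_one] at hy
        exact hr.one_lt.ne hy
      · exact h2
    intro y
    refine ⟨1, ?_⟩
    have hy : (y : G) ∈ M := by
      rw [hMN]
      exact y.2
    apply Subtype.ext
    simpa using hy.2
  · exact Or.inl h

/-- A perfect group with a Sylow subgroup central in its normalizer. -/
lemma perfect_sylow_triv {X : Type*} [Group X] [Finite X] (hperf : commutator X = ⊤) {p : ℕ} [Fact p.Prime]
    (P : Sylow p X) (hP : normalizer (P : Set X) ≤ centralizer (P : Set X)) : Nat.card P = 1 := by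
  classical
  have hker : (MonoidHom.transferSylow P hP).ker = ⊤ := by
    rw [eq_top_iff, ← hperf, commutator_def, Subgroup.commutator_le]
    intro a _ b _
    rw [MonoidHom.mem_ker, map_commutatorElement, commutatorElement_eq_one_iff_mul_comm]
    apply Subtype.ext
    have h1 := hP (le_normalizer (MonoidHom.transferSylow P hP b).2) _ (MonoidHom.transferSylow P hP a).2
    exact h1
  have h := MonoidHom.ker_transferSylow_isComplement' P hP
  rw [hker] at h
  have h2 := h.card_mul_card
  rw [Subgroup.card_top] at h2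
  have h3 : 0 < Nat.card X := Nat.card_pos
  exact Nat.eq_of_mul_eq_mul_left h3 (by rw [h2, mul_one])

/-- Perfect normal subgroups: Sylow subgroups with the same property. -/
lemma perfect_normal_sylow (N : Subgroup G) [hN : N.Normal] (hperf : ⁅N, N⁆ = N) {p : ℕ} [Fact p.Prime]
    (Q : Sylow p G) (hQN : (Q : Subgroup G) ≤ N) (hQ1 : Nat.card Q ≠ 1)
    (hc : ∀ x ∈ N, x ∈ normalizer ((Q : Subgroup G) : Set G) → ∀ u ∈ (Q : Subgroup G), x * u = u * x) : False := by
  have hperf' : commutator N = ⊤ := by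
    apply Subgroup.map_injective N.subtype_injective
    rw [Subgroup.map_subtype_commutator, hperf, ← MonoidHom.range_eq_map, Subgroup.range_subtype]
  have h := perfect_sylow_triv hperf' (Q.subtype hQN) ?_
  · apply hQ1
    rw [← h]
    have e : ((Q.subtype hQN : Sylow p N) : Subgroup N) = (Q : Subgroup G).subgroupOf N := Q.coe_subtype hQN
    rw [e]
    exact (Nat.card_congr (subgroupOfEquivOfLe hQN).toEquiv).symm
  · intro x hx
    have e : ((Q.subtype hQN : Sylow p N) : Set N) = ((Q : Subgroup G).subgroupOf N : Set N) :=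
      congrArg (fun S : Subgroup N => (S : Set N)) (Q.coe_subtype hQN)
    rw [e] at hx ⊢
    have hx' : (x : G) ∈ normalizer ((Q : Subgroup G) : Set G) := by
      rw [mem_normalizer_iff]
      intro u
      have hiff : u ∈ (Q : Subgroup G) ↔ (x : G) * u * (x : G)⁻¹ ∈ (Q : Subgroup G) := by
        constructor
        · intro hu
          have hu' : (⟨u, hQN hu⟩ : N) ∈ (Q : Subgroup G).subgroupOf N := by
            rw [mem_subgroupOf]
            exact hu
          have h2 := (mem_normalizer_iff.mp hx ⟨u, hQN hu⟩).mp hu'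
          rw [mem_subgroupOf] at h2
          simpa using h2
        · intro hu
          have hu0 : u ∈ N := by
            have h3 : (x : G) * u * (x : G)⁻¹ ∈ N := hQN hu
            have h4 : (x : G)⁻¹ * ((x : G) * u * (x : G)⁻¹) * (x : G) ∈ N :=
              N.mul_mem (N.mul_mem (N.inv_mem x.2) h3) x.2
            simpa [mul_assoc] using h4
          have h2 := (mem_normalizer_iff.mp hx ⟨u, hu0⟩).mpr (by
            rw [mem_subgroupOf]
            simpa using hu)
          rw [mem_subgroupOf] at h2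
          exact h2
      exact hiff
    rw [mem_centralizer_iff]
    rintro ⟨u, hu⟩ hu'
    apply Subtype.ext
    have hu2 : u ∈ (Q : Subgroup G) := by
      have : (⟨u, hu⟩ : N) ∈ (Q : Subgroup G).subgroupOf N := hu'
      rwa [mem_subgroupOf] at this
    have := hc x x.2 hx' u hu2
    simpa using this.symm

/-- Frattini counting. -/
lemma frattini_count (N : Subgroup G) [hN : N.Normal] {p : ℕ} [Fact p.Prime] (Q : Sylow p G)
    (hQN : (Q : Subgroup G) ≤ N) :
    N.index * Nat.card ↥(N ⊓ normalizer ((Q : Subgroup G) : Set G)) = Nat.card (normalizer ((Q : Subgroup G) : Set G)) := by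
  have h1 : normalizer ((Q : Subgroup G) : Set G) ⊔ N = ⊤ := Q.normalizer_sup_eq_top' hQN
  have h2 : N.relIndex (normalizer ((Q : Subgroup G) : Set G) ⊔ N) = N.relIndex (normalizer ((Q : Subgroup G) : Set G)) :=
    Subgroup.relIndex_sup_right _ _
  rw [h1, relIndex_top_right] at h2
  rw [h2]
  have h3 : Nat.card ↥(N ⊓ normalizer ((Q : Subgroup G) : Set G)) = Nat.card (N.subgroupOf (normalizer ((Q : Subgroup G) : Set G))) := by
    rw [← Subgroup.inf_subgroupOf_right]
    exact (Nat.card_congr (subgroupOfEquivOfLe inf_le_right).toEquiv).symm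
  rw [h3, mul_comm, relIndex]
  exact Subgroup.card_mul_index _

/-- The centralizer inside the normalizer has small index. -/
lemma card_normalizer_dvd (Q : Subgroup G) {p : ℕ} [hp : Fact p.Prime] (hQ : Nat.card Q = p) :
    Nat.card (normalizer (Q : Set G)) ∣ Nat.card ↥(centralizer (Q : Set G) ⊓ normalizer (Q : Set G)) * (p - 1) := by
  classical
  have hcyc : IsCyclic Q := isCyclic_of_prime_card hQ
  have key := Subgroup.card_dvd_of_injective _ (QuotientGroup.kerLift_injective Q.normalizerMonoidHom)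
  rw [normalizerMonoidHom_ker, ← index, hcyc.card_mulAut, hQ, Nat.totient_prime hp.out] at key
  have h1 : Nat.card ↥(centralizer (Q : Set G) ⊓ normalizer (Q : Set G)) =
      Nat.card ((centralizer (Q : Set G)).subgroupOf (normalizer (Q : Set G))) := by
    rw [← Subgroup.inf_subgroupOf_right]
    exact (Nat.card_congr (subgroupOfEquivOfLe inf_le_right).toEquiv).symm
  have h2 := Subgroup.card_mul_index ((centralizer (Q : Set G)).subgroupOf (normalizer (Q : Set G)))
  rw [h1]
  exact h2 ▸ mul_dvd_mul_left _ key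

end Cfsg.Agent.Lib.KS2.O79
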