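import Mathlib
import Cfsg.Agent.Lib.Known3.OrderDvd
import Cfsg.Agent.Lib.Known3.Dichotomy
import Cfsg.Agent.Lib.Known3.PSLBasic
import Cfsg.Agent.Lib.Known3.PSLCyclic
import Cfsg.Agent.Lib.Known3.PSLElements
import Cfsg.Agent.Lib.Amalgam.Zsig

/-!
Elements of order `q ^ m + 1` in `PSL_{2m}(q)`.
-/

set_option autoImplicit false
set_option linter.unusedSimpArgs false
set_option linter.unusedVariables false
set_option linter.deprecated false

namespace Cfsg.Agent.Lib.KS2.PSLOrd

open Matrix Polynomial Cfsg.Agent.Lib.Known3 Cfsg.Agent.Lib.Known3.PSLBasic Cfsg.Agent.Lib.Known3.PSLCyclic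

variable {F : Type*} [Field F] [Fintype F]

/-- The order of an endomorphism of prime order. -/
lemma exists_dvd_of_end {V : Type*} [AddCommGroup V] [Module F V] [FiniteDimensional F V] {r : ℕ}
    (hr : r.Prime) (hrF : (r : F) ≠ 0) (T : Module.End F V) (h1 : T ^ r = 1) (h2 : T ≠ 1) :
    ∃ d, 1 ≤ d ∧ d ≤ Module.finrank F V ∧ r ∣ Fintype.card F ^ d - 1 := by
  classical
  let b := Module.finBasis F V
  let e := LinearMap.toMatrixAlgEquiv (R := F) b
  obtain ⟨d, hd1, hd2, hd3⟩ := OrderDvd.exists_dvd_of_matrix (F := F) (a := 0) hr hrF (e T)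
    (by rw [zero_add, pow_one, ← map_pow, h1, map_one])
    (by
      rw [pow_zero, pow_one]
      intro h
      apply h2
      apply e.injective
      rw [h, map_one])
  exact ⟨d, hd1, hd2, by simpa using hd3⟩

/-- Arithmetic of the divisibility. -/
lemma two_part (q m : ℕ) (hm : 1 ≤ m) (hq : 3 ≤ q) :
    Nat.gcd (2 * m) (q - 1) ∣ m ↔ padicValNat 2 (q - 1) < padicValNat 2 (2 * m) := by
  haveI : Fact (Nat.Prime 2) := ⟨Nat.prime_two⟩
  have hm0 : m ≠ 0 := by omega
  have h2m : padicValNat 2 (2 * m) = padicValNat 2 m + 1 := by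
    rw [padicValNat.mul (by omega) hm0, padicValNat.self (by omega)]
    omega
  have hq0 : q - 1 ≠ 0 := by omega
  constructor
  · intro h
    by_contra hcon
    push Not at hcon
    have h1 : 2 ^ padicValNat 2 (2 * m) ∣ q - 1 := (padicValNat_dvd_iff_le hq0).mpr hcon
    have h3 : 2 ^ padicValNat 2 (2 * m) ∣ 2 * m := pow_padicValNat_dvd
    have h4 : 2 ^ padicValNat 2 (2 * m) ∣ m := (Nat.dvd_gcd h3 h1).trans h
    have h5 := (padicValNat_dvd_iff_le hm0).mp h4
    omega
  · intro h
    have hD0 : Nat.gcd (2 * m) (q - 1) ≠ 0 := Nat.gcd_ne_zero_right hq0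
    rw [← Nat.factorization_prime_le_iff_dvd hD0 hm0]
    intro p hp
    haveI : Fact p.Prime := ⟨hp⟩
    rw [Nat.factorization_def _ hp, Nat.factorization_def _ hp]
    by_cases hp2 : p = 2
    · subst hp2
      have h1 : padicValNat 2 (Nat.gcd (2 * m) (q - 1)) ≤ padicValNat 2 (q - 1) := by
        apply (padicValNat_dvd_iff_le hq0).mp
        exact (pow_padicValNat_dvd).trans (Nat.gcd_dvd_right _ _)
      omega
    · have h1 : padicValNat p (Nat.gcd (2 * m) (q - 1)) ≤ padicValNat p (2 * m) := by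
        apply (padicValNat_dvd_iff_le (by omega)).mp
        exact (pow_padicValNat_dvd).trans (Nat.gcd_dvd_left _ _)
      rw [padicValNat.mul (by omega) hm0] at h1
      have h2 : padicValNat p 2 = 0 := by
        apply padicValNat.eq_zero_of_not_dvd
        intro hd
        exact hp2 ((Nat.prime_dvd_prime_iff_eq hp Nat.prime_two).mp hd)
      omega

lemma dvd_cA_iff (q m : ℕ) (hm : 1 ≤ m) (hq : 3 ≤ q) :
    q ^ m + 1 ∣ cA q (2 * m) ↔ padicValNat 2 (q - 1) < padicValNat 2 (2 * m) := by
  rw [← two_part q m hm hq]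
  have hq1 : 0 < q - 1 := by omega
  have hq2 : 2 ≤ q := by omega
  have hC : cC q (2 * m) = (q ^ m + 1) * cC q m := by
    have h1 := mul_cC hq2 (n := 2 * m)
    have h2 := mul_cC hq2 (n := m)
    apply Nat.eq_of_mul_eq_mul_left hq1
    rw [h1]
    calc q ^ (2 * m) - 1 = (q ^ m + 1) * (q ^ m - 1) := by
          have h3 : 1 ≤ q ^ m := Nat.one_le_pow _ _ (by omega)
          obtain ⟨a, ha⟩ : ∃ a, q ^ m = a + 1 := ⟨q ^ m - 1, by omega⟩
          rw [pow_mul', ha]
          have : (a + 1) ^ 2 = (a + 1 + 1) * a + 1 := by ring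
          rw [this]
          simp
      _ = (q - 1) * ((q ^ m + 1) * cC q m) := by
          rw [← h2]; ring
  have hCmod : cC q (2 * m) ≡ 2 * m [MOD (q - 1)] := by
    rw [cC_eq_sum hq2]
    apply sum_pow_modEq
    have : q = (q - 1) + 1 := by omega
    conv_lhs => rw [this]
    simp [Nat.ModEq, Nat.add_mod]
  have hCmmod : cC q m ≡ m [MOD (q - 1)] := by
    rw [cC_eq_sum hq2]
    apply sum_pow_modEq
    have : q = (q - 1) + 1 := by omega
    conv_lhs => rw [this]
    simp [Nat.ModEq, Nat.add_mod]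
  have hg : Nat.gcd (cC q (2 * m)) (q - 1) = Nat.gcd (2 * m) (q - 1) := by
    rw [Nat.ModEq.gcd_eq hCmod]
  unfold cA
  rw [hg]
  set D := Nat.gcd (2 * m) (q - 1) with hD
  have hD0 : 0 < D := Nat.gcd_pos_of_pos_right _ hq1
  have hDC : D ∣ cC q (2 * m) := by
    rw [← hg]
    exact Nat.gcd_dvd_left _ _
  rw [Nat.dvd_div_iff_mul_dvd hDC, hC, mul_comm D]
  have hpos : 0 < q ^ m + 1 := by omega
  rw [Nat.mul_dvd_mul_iff_left hpos]
  have hDq : D ∣ q - 1 := Nat.gcd_dvd_right _ _
  have hmod2 : cC q m ≡ m [MOD D] := hCmmod.of_dvd hDq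
  exact hmod2.dvd_iff (dvd_refl D)

/-- A primitive prime divisor divides the order only on irreducible matrices. -/
theorem main_forward {p : ℕ} [Fact p.Prime] [CharP F p] {m : ℕ} (hm : 2 ≤ m) (hq : 3 ≤ Fintype.card F)
    (g : Matrix.ProjectiveSpecialLinearGroup (Fin (2 * m)) F)
    (hg : orderOf g = Fintype.card F ^ m + 1) :
    Fintype.card F ^ m + 1 ∣ cA (Fintype.card F) (2 * m) := by
  classical
  set q := Fintype.card F with hqdef
  have hpp : p.Prime := Fact.out
  obtain ⟨k, hk⟩ := FiniteField.card F p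
  have hq' : q = p ^ (k : ℕ) := hk.2
  have hpq : p ∣ q := by
    rw [hq']; exact dvd_pow_self _ k.ne_zero
  have hpcop : Nat.Coprime (q ^ m + 1) p := by
    rw [Nat.coprime_comm, hpp.coprime_iff_not_dvd]
    intro h
    have h1 : p ∣ q ^ m := dvd_pow hpq (by omega)
    have h2 : p ∣ 1 := (Nat.dvd_add_right h1).mp h
    exact hpp.one_lt.ne' (Nat.dvd_one.mp h2)
  obtain ⟨x, rfl⟩ := cls_surjective g
  haveI : Nonempty (Fin (2 * m)) := ⟨⟨0, by omega⟩⟩
  haveI : Nontrivial (Fin (2 * m) → F) := by
    haveI : Nonempty (Fin (2 * m)) := ⟨⟨0, by omega⟩⟩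
    infer_instance
  rcases Dichotomy.decomp_or_cyclic (Matrix.mulVecLin (x : Matrix (Fin (2 * m)) (Fin (2 * m)) F)) with
    ⟨V₁, V₂, hc, h1, h2, hi1, hi2⟩ | ⟨pp, e, v₀, hirr, he, h1, h2⟩
  · exfalso
    obtain ⟨r, hr, hr1, hr2⟩ := Cfsg.Agent.Lib.Amalgam.Zsig.main_ge_three q (2 * m) (by omega) (by omega)
      (by omega)
    have hrq : ¬ r ∣ q := by
      intro h
      have h1 : r ∣ q ^ (2 * m) := dvd_pow h (by omega)
      have h2 : r ∣ 1 := by
        have h3 : 1 = q ^ (2 * m) - (q ^ (2 * m) - 1) := by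
          have : 1 ≤ q ^ (2 * m) := Nat.one_le_pow _ _ (by omega)
          omega
        rw [h3]
        exact Nat.dvd_sub h1 hr1
      exact hr.one_lt.ne' (Nat.dvd_one.mp h2)
    have hrF : (r : F) ≠ 0 := by
      intro h
      have h1 : p ∣ r := (CharP.cast_eq_zero_iff F p r).mp h
      have h2 : p = r := (Nat.prime_dvd_prime_iff_eq hpp hr).mp h1
      exact hrq (h2 ▸ hpq)
    -- the prime divides the order
    have hrm : r ∣ q ^ m + 1 := by
      have h3 : q ^ (2 * m) - 1 = (q ^ m + 1) * (q ^ m - 1) := by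
        have h3 : 1 ≤ q ^ m := Nat.one_le_pow _ _ (by omega)
        obtain ⟨a, ha⟩ : ∃ a, q ^ m = a + 1 := ⟨q ^ m - 1, by omega⟩
        rw [pow_mul', ha]
        have : (a + 1) ^ 2 = (a + 1 + 1) * a + 1 := by ring
        rw [this]
        simp
      rw [h3] at hr1
      rcases (Nat.Prime.dvd_mul hr).mp hr1 with h4 | h4
      · exact h4
      · exact absurd h4 (hr2 m (by omega) (by omega))
    have hrx : r ∣ orderOf x := by
      refine hrm.trans ?_
      rw [← hg]
      have : cls x ^ orderOf x = 1 := by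
        rw [← cls_pow, pow_orderOf_eq_one]
        rfl
      exact orderOf_dvd_of_pow_eq_one this
    have hx0 : orderOf x ≠ 0 := by
      rw [orderOf_ne_zero_iff]
      exact isOfFinOrder_of_finite x
    set y := x ^ (orderOf x / r) with hy
    have hyord : orderOf y = r := orderOf_pow_orderOf_div hx0 hrx
    let T : Module.End F (Fin (2 * m) → F) := Matrix.mulVecLin (x : Matrix (Fin (2 * m)) (Fin (2 * m)) F)
    let S : Module.End F (Fin (2 * m) → F) := Matrix.mulVecLin (y : Matrix (Fin (2 * m)) (Fin (2 * m)) F)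
    have hST : ∀ (k : ℕ), Matrix.mulVecLin ((x ^ k : Matrix.SpecialLinearGroup (Fin (2 * m)) F) : Matrix (Fin (2 * m)) (Fin (2 * m)) F) = T ^ k := by
      intro k
      induction k with
      | zero =>
        refine LinearMap.ext fun v => ?_
        simp
      | succ k ih =>
        rw [pow_succ, pow_succ, ← ih]
        refine LinearMap.ext fun v => ?_
        show ((x ^ k * x : Matrix.SpecialLinearGroup (Fin (2 * m)) F) : Matrix (Fin (2 * m)) (Fin (2 * m)) F) *ᵥ v =
          ((x ^ k : Matrix.SpecialLinearGroup (Fin (2 * m)) F) : Matrix (Fin (2 * m)) (Fin (2 * m)) F) *ᵥ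
            ((x : Matrix (Fin (2 * m)) (Fin (2 * m)) F) *ᵥ v)
        rw [Matrix.SpecialLinearGroup.coe_mul, Matrix.mulVec_mulVec]
    have hSr : S ^ r = 1 := by
      have : S = T ^ (orderOf x / r) := hST _
      rw [this, ← pow_mul, ← hST]
      rw [show orderOf x / r * r = orderOf x from Nat.div_mul_cancel hrx, pow_orderOf_eq_one]
      refine LinearMap.ext fun v => ?_
      simp
    have hSinv : ∀ W : Submodule F (Fin (2 * m) → F), (∀ v ∈ W, T v ∈ W) → ∀ v ∈ W, S v ∈ W := by
      intro W hW v hv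
      have : S = T ^ (orderOf x / r) := hST _
      rw [this]
      have key : ∀ (k : ℕ), (T ^ k) v ∈ W := by
        intro k
        induction k with
        | zero => simpa using hv
        | succ k ih =>
          rw [pow_succ', Module.End.mul_apply]
          exact hW _ ih
      exact key _
    -- the restrictions are trivial
    have hfix : ∀ W : Submodule F (Fin (2 * m) → F), (∀ v ∈ W, T v ∈ W) → W ≠ ⊤ → ∀ v ∈ W, S v = v := by
      intro W hW hWtop v hv
      have hinv := hSinv W hW
      let R : Module.End F W := S.restrict hinv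
      have hRr : R ^ r = 1 := by
        have hinvr : ∀ x ∈ W, (S ^ r) x ∈ W := by
          intro x hx
          rw [hSr]
          exact hx
        have h3 := Module.End.pow_restrict (f' := S) r hinv hinvr
        refine LinearMap.ext fun w => ?_
        apply Subtype.ext
        have h4 := congrArg (fun Q => (Q w : Fin (2 * m) → F)) h3
        simp only [LinearMap.restrict_coe_apply] at h4
        rw [hSr] at h4
        simpa [R] using h4
      by_cases hR1 : R = 1
      · have := congrArg (fun Q : Module.End F W => ((Q ⟨v, hv⟩ : W) : Fin (2 * m) → F)) hR1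
        simpa [R] using this
      · exfalso
        obtain ⟨d, hd1, hd2, hd3⟩ := exists_dvd_of_end hr hrF R hRr hR1
        have hlt : Module.finrank F W < 2 * m := by
          have := Submodule.finrank_lt hWtop
          simpa using this
        exact hr2 d (by omega) (by omega) hd3
    have h1top : V₁ ≠ ⊤ := by
      intro h
      apply h2
      have := hc.1
      rw [h] at this
      exact (disjoint_top.mp this.symm)
    have h2top : V₂ ≠ ⊤ := by
      intro h
      apply h1
      have := hc.1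
      rw [h] at this
      exact (disjoint_top.mp this)
    have hS1 : S = 1 := by
      refine LinearMap.ext fun v => ?_
      have hv : v ∈ V₁ ⊔ V₂ := by
        rw [hc.2.eq_top]; trivial
      obtain ⟨a, ha, b, hb, rfl⟩ := Submodule.mem_sup.mp hv
      rw [map_add, hfix V₁ hi1 h1top a ha, hfix V₂ hi2 h2top b hb]
      rfl
    have hy1 : y = 1 := by
      apply Subtype.ext
      apply Matrix.toLin'.injective
      refine LinearMap.ext fun v => ?_
      have := congrArg (fun Q : Module.End F (Fin (2 * m) → F) => Q v) hS1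
      simpa [S] using this
    rw [hy1, orderOf_one] at hyord
    exact hr.one_lt.ne hyord
  · obtain ⟨-, c, hc⟩ := cyclic_case (p := p) x hirr he h1 h2
    have h3 : cls x ^ (cA q (2 * m) * p ^ Nat.clog p e) = 1 := by
      rw [cls_pow_eq_one_iff]
      exact ⟨c, hc⟩
    have h4 := orderOf_dvd_of_pow_eq_one h3
    rw [hg] at h4
    exact (Nat.Coprime.dvd_of_dvd_mul_right (hpcop.pow_right _) h4)

theorem main {q : ℕ} (hF : Fintype.card F = q) (hodd : Odd q) {m : ℕ} (hm : 2 ≤ m) :
    (∃ g : Matrix.ProjectiveSpecialLinearGroup (Fin (2 * m)) F, orderOf g = q ^ m + 1) ↔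
      padicValNat 2 (q - 1) < padicValNat 2 (2 * m) := by
  subst hF
  have hq : 3 ≤ Fintype.card F := by
    obtain ⟨k, hk⟩ := hodd
    have : 1 < Fintype.card F := Fintype.one_lt_card
    omega
  rw [← dvd_cA_iff _ m (by omega) hq]
  obtain ⟨p, hp⟩ := CharP.exists F
  haveI : Fact p.Prime := ⟨CharP.char_is_prime F p⟩
  constructor
  · rintro ⟨g, hg⟩
    exact main_forward hm hq g hg
  · intro h
    exact PSLElements.exists_orderOf_of_dvd_cA (by omega) h

end Cfsg.Agent.Lib.KS2.PSLOrd
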