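import Mathlib
import Cfsg.Agent.Lib.KS2.PSLOrd
import Cfsg.Agent.Lib.Known3.Singer

/-!
Adjacency of primes in the prime graph of `PSL_n(q)`: basic linear algebra.
-/

set_option autoImplicit false
set_option linter.unusedSimpArgs false
set_option linter.unusedVariables false
set_option linter.deprecated false

namespace Cfsg.Agent.Lib.KS2.PGraph

open Matrix Polynomial Cfsg.Agent.Lib.Known3 Cfsg.Agent.Lib.Known3.PSLBasic Cfsg.Agent.Lib.Known3.PSLCyclic
open Cfsg.Agent.Lib.KS2.PSLOrd

variable {F : Type*} [Field F] [Fintype F]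

/-- Divisibility of `q ^ d - 1` and the multiplicative order. -/
lemma prime_dvd_iff {r q : ℕ} (hr : r.Prime) (hq : 1 ≤ q) (d : ℕ) :
    r ∣ q ^ d - 1 ↔ orderOf ((q : ℕ) : ZMod r) ∣ d := by
  haveI : Fact r.Prime := ⟨hr⟩
  rw [orderOf_dvd_iff_pow_eq_one, ← ZMod.natCast_eq_zero_iff]
  have h1 : 1 ≤ q ^ d := Nat.one_le_pow _ _ hq
  rw [Nat.cast_sub h1]
  simp [sub_eq_zero]

section Range

variable {V : Type*} [AddCommGroup V] [Module F V]

/-- Vectors in the range of `a - 1` fixed by `a` vanish when `a ^ r = 1`. -/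
lemma range_fixed {r : ℕ} (hrF : (r : F) ≠ 0) (a : Module.End F V) (har : a ^ r = 1) (x : V)
    (hx : x ∈ LinearMap.range (a - 1)) (hfix : a x = x) : x = 0 := by
  obtain ⟨y, rfl⟩ := hx
  have h1 : a y = y + (a - 1) y := by simp
  have key : ∀ j : ℕ, (a ^ j) y = y + (j : F) • ((a - 1) y) := by
    intro j
    induction j with
    | zero => simp
    | succ j ih =>
      rw [pow_succ', Module.End.mul_apply, ih, map_add, h1, map_smul, hfix]
      push_cast
      rw [add_smul, one_smul]
      abel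
  have h2 := key r
  rw [har, Module.End.one_apply] at h2
  have h3 : (r : F) • ((a - 1) y) = 0 := by
    have := h2
    rw [left_eq_add] at this
    exact this
  exact (smul_eq_zero.mp h3).resolve_left hrF

lemma finrank_ker_add_range [FiniteDimensional F V] (a : Module.End F V) :
    Module.finrank F (LinearMap.ker a) + Module.finrank F (LinearMap.range a) = Module.finrank F V := by
  rw [add_comm]
  exact LinearMap.finrank_range_add_finrank_ker a

lemma disjoint_ker_range {r : ℕ} (hrF : (r : F) ≠ 0) (a : Module.End F V) (har : a ^ r = 1) :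
    Disjoint (LinearMap.ker (a - 1)) (LinearMap.range (a - 1)) := by
  rw [Submodule.disjoint_def]
  intro x hx hy
  apply range_fixed hrF a har x hy
  have h := LinearMap.mem_ker.mp hx
  have h2 : a x - x = 0 := by simpa using h
  exact sub_eq_zero.mp h2

lemma sup_ker_range [FiniteDimensional F V] {r : ℕ} (hrF : (r : F) ≠ 0) (a : Module.End F V) (har : a ^ r = 1) :
    LinearMap.ker (a - 1) ⊔ LinearMap.range (a - 1) = ⊤ := by
  apply Submodule.eq_top_of_finrank_eq
  have h1 := Submodule.finrank_sup_add_finrank_inf_eq (LinearMap.ker (a - 1)) (LinearMap.range (a - 1))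
  have h2 := (disjoint_ker_range hrF a har).eq_bot
  rw [h2] at h1
  simp only [finrank_bot, add_zero] at h1
  rw [h1]
  exact finrank_ker_add_range (a - 1)

/-- A subspace on which `a` has no fixed vector and `a ^ r = 1`. -/
lemma le_finrank_of_no_fixed [FiniteDimensional F V] {r k : ℕ} (hr : r.Prime) (hrF : (r : F) ≠ 0)
    (hk : ∀ d, 1 ≤ d → r ∣ Fintype.card F ^ d - 1 → k ≤ d)
    (a : Module.End F V) (har : a ^ r = 1) (W : Submodule F V) (hW : ∀ v ∈ W, a v ∈ W) (hW0 : W ≠ ⊥)
    (hfix : ∀ v ∈ W, a v = v → v = 0) : k ≤ Module.finrank F W := by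
  let R : Module.End F W := a.restrict hW
  have hRr : R ^ r = 1 := by
    have hinvr : ∀ x ∈ W, (a ^ r) x ∈ W := by
      intro x hx
      rw [har]
      exact hx
    have h3 := Module.End.pow_restrict (f' := a) r hW hinvr
    refine LinearMap.ext fun w => ?_
    apply Subtype.ext
    have h4 := congrArg (fun Q => (Q w : V)) h3
    simp only [LinearMap.restrict_coe_apply] at h4
    rw [har] at h4
    simpa [R] using h4
  have hR1 : R ≠ 1 := by
    intro h
    obtain ⟨v, hv, hv0⟩ := Submodule.exists_mem_ne_zero_of_ne_bot hW0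
    apply hv0
    apply hfix v hv
    have := congrArg (fun Q : Module.End F W => ((Q ⟨v, hv⟩ : W) : V)) h
    simpa [R] using this
  obtain ⟨d, hd1, hd2, hd3⟩ := exists_dvd_of_end hr hrF R hRr hR1
  exact (hk d hd1 hd3).trans hd2

/-- A subspace of the range of `a - 1`. -/
lemma le_finrank_range [FiniteDimensional F V] {r k : ℕ} (hr : r.Prime) (hrF : (r : F) ≠ 0)
    (hk : ∀ d, 1 ≤ d → r ∣ Fintype.card F ^ d - 1 → k ≤ d)
    (a : Module.End F V) (har : a ^ r = 1) (W : Submodule F V) (hW : ∀ v ∈ W, a v ∈ W) (hW0 : W ≠ ⊥)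
    (hle : W ≤ LinearMap.range (a - 1)) : k ≤ Module.finrank F W :=
  le_finrank_of_no_fixed hr hrF hk a har W hW hW0 fun v hv hav => range_fixed hrF a har v (hle hv) hav

/-- Square zero operators have small rank on invariant subspaces. -/
lemma two_rank [FiniteDimensional F V] (N : Module.End F V) (hN : ∀ v, N (N v) = 0) (W : Submodule F V)
    (hW : ∀ v ∈ W, N v ∈ W) : 2 * Module.finrank F (W.map N) ≤ Module.finrank F W := by
  have h1 := LinearMap.finrank_range_add_finrank_ker (N.domRestrict W)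
  have h2 : LinearMap.range (N.domRestrict W) = W.map N := by
    rw [LinearMap.range_domRestrict]
  rw [h2] at h1
  have h3 : Module.finrank F (W.map N) ≤ Module.finrank F (LinearMap.ker (N.domRestrict W)) := by
    have h4 : Module.finrank F ((LinearMap.ker (N.domRestrict W)).map W.subtype) =
        Module.finrank F (LinearMap.ker (N.domRestrict W)) := Submodule.finrank_map_subtype_eq _ _
    rw [← h4]
    apply Submodule.finrank_mono
    rintro _ ⟨w, hw, rfl⟩
    refine ⟨⟨N w, hW w hw⟩, ?_, rfl⟩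
    show N (N w) = 0
    exact hN w
  omega

end Range

/-- The two case of the linear algebra for a prime `r` with `k ≥ 2`. -/
theorem plus_two {V : Type*} [AddCommGroup V] [Module F V] [FiniteDimensional F V] {r k : ℕ} (hr : r.Prime)
    (hrF : (r : F) ≠ 0) (hk2 : 2 ≤ k)
    (hk : ∀ d, 1 ≤ d → r ∣ Fintype.card F ^ d - 1 → k ≤ d)
    (a N : Module.End F V) (har : a ^ r = 1) (ha1 : a ≠ 1) (hN0 : N ≠ 0) (hN : ∀ v, N (N v) = 0)
    (hc : ∀ v, a (N v) = N (a v)) : k + 2 ≤ Module.finrank F V := by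
  set C : Module.End F V := a - 1 with hC
  set V₁ := LinearMap.range C with hV₁
  set V₀ := LinearMap.ker C with hV₀
  have hdim : Module.finrank F V₀ + Module.finrank F V₁ = Module.finrank F V := finrank_ker_add_range C
  have hsup : V₀ ⊔ V₁ = ⊤ := sup_ker_range hrF a har
  have hV₁a : ∀ v ∈ V₁, a v ∈ V₁ := by
    rintro _ ⟨y, rfl⟩
    refine ⟨a y, ?_⟩
    simp [hC]
  have hV₁N : ∀ v ∈ V₁, N v ∈ V₁ := by
    rintro _ ⟨y, rfl⟩
    refine ⟨N y, ?_⟩
    simp [hC, hc]
  have hV₀N : ∀ v ∈ V₀, N v ∈ V₀ := by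
    intro v hv
    have h1 : a v - v = 0 := by simpa [hC, hV₀] using hv
    rw [hV₀, LinearMap.mem_ker]
    simp only [hC, LinearMap.sub_apply, Module.End.one_apply, hc, sub_eq_zero.mp h1, sub_self]
  have hV₁0 : V₁ ≠ ⊥ := by
    intro h
    apply ha1
    have : C = 0 := LinearMap.range_eq_bot.mp h
    exact sub_eq_zero.mp this
  have hk1 : k ≤ Module.finrank F V₁ :=
    le_finrank_range hr hrF hk a har V₁ hV₁a hV₁0 le_rfl
  by_cases h1 : V₁.map N = ⊥
  · -- `N` vanishes on the range
    have h2 : V₀.map N ≠ ⊥ := by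
      intro h3
      apply hN0
      refine LinearMap.ext fun v => ?_
      have hv : v ∈ V₀ ⊔ V₁ := by rw [hsup]; trivial
      obtain ⟨x, hx, y, hy, rfl⟩ := Submodule.mem_sup.mp hv
      have hx' : N x = 0 := by
        have : N x ∈ V₀.map N := Submodule.mem_map_of_mem hx
        rw [h3] at this
        simpa using this
      have hy' : N y = 0 := by
        have : N y ∈ V₁.map N := Submodule.mem_map_of_mem hy
        rw [h1] at this
        simpa using this
      simp [hx', hy']
    have h3 := two_rank N hN V₀ hV₀N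
    have h4 : 0 < Module.finrank F (V₀.map N) := by
      apply Nat.pos_of_ne_zero
      intro h5
      exact h2 (Submodule.finrank_eq_zero.mp h5)
    omega
  · have h3 := two_rank N hN V₁ hV₁N
    have h4 : k ≤ Module.finrank F (V₁.map N) := by
      refine le_finrank_range hr hrF hk a har _ ?_ h1 ?_
      · rintro _ ⟨x, hx, rfl⟩
        exact ⟨a x, hV₁a x hx, (hc x).symm⟩
      · rintro _ ⟨x, hx, rfl⟩
        exact hV₁N x hx
    omega

/-- An irreducible factor for an operator with two coprime orders. -/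
theorem exists_common {V : Type*} [AddCommGroup V] [Module F V] [FiniteDimensional F V] [Nontrivial V] {r s : ℕ}
    (hr : r.Prime) (hs : s.Prime) (T : Module.End F V) (hT : T ^ (r * s) = 1)
    (hfr : ∀ v, (T ^ s) v = v → v = 0) (hfs : ∀ v, (T ^ r) v = v → v = 0) :
    ∃ d, 1 ≤ d ∧ d ≤ Module.finrank F V ∧ r ∣ Fintype.card F ^ d - 1 ∧ s ∣ Fintype.card F ^ d - 1 := by
  classical
  set μ := minpoly F T with hμ
  have hint : IsIntegral F T := Algebra.IsIntegral.isIntegral T
  have hμm : μ.Monic := minpoly.monic hint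
  have hμ1 : μ ≠ 1 := by
    intro h
    have h0 : aeval T μ = 0 := minpoly.aeval F T
    rw [h, map_one] at h0
    obtain ⟨v, hv⟩ := exists_ne (0 : V)
    apply hv
    have := congrArg (fun Q : Module.End F V => Q v) h0
    simpa using this
  have hunit : ¬ IsUnit μ := by
    intro h
    exact hμ1 (hμm.eq_one_of_isUnit h)
  obtain ⟨f, hf, g, hg⟩ := WfDvdMonoid.exists_irreducible_factor hunit hμm.ne_zero
  have hμdeg : μ.natDegree ≤ Module.finrank F V := by
    have h1 := LinearMap.minpoly_dvd_charpoly T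
    have h2 := Polynomial.natDegree_le_of_dvd h1 (LinearMap.charpoly_monic T).ne_zero
    rwa [LinearMap.charpoly_natDegree] at h2
  have hfdeg : f.natDegree ≤ Module.finrank F V := by
    have h2 := Polynomial.natDegree_le_of_dvd (Dvd.intro _ hg.symm) hμm.ne_zero
    omega
  -- a vector killed by `f`
  have hg0 : aeval T g ≠ 0 := by
    intro h0
    have hgne : g ≠ 0 := by
      rintro rfl
      rw [mul_zero] at hg
      exact hμm.ne_zero hg
    have h1 : μ ∣ g := minpoly.dvd F T h0
    have h2 := Polynomial.natDegree_le_of_dvd h1 hgne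
    have hg' : μ.natDegree = f.natDegree + g.natDegree := by
      rw [hg]
      exact Polynomial.natDegree_mul hf.ne_zero hgne
    have h3 := hf.natDegree_pos
    omega
  obtain ⟨y, hy⟩ : ∃ y, aeval T g y ≠ 0 := by
    by_contra hcon
    push Not at hcon
    exact hg0 (LinearMap.ext hcon)
  set u := aeval T g y with hu
  have hfu : aeval T f u = 0 := by
    have h1 : aeval T μ = 0 := minpoly.aeval F T
    rw [hg, map_mul] at h1
    have := congrArg (fun Q : Module.End F V => Q y) h1
    simpa using this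
  -- the field
  haveI : Fact (Irreducible f) := ⟨hf⟩
  let E := AdjoinRoot f
  let ρ : E := AdjoinRoot.root f
  have hf0 : f ≠ 0 := hf.ne_zero
  let pb := AdjoinRoot.powerBasis hf0
  have hpbdim : pb.dim = f.natDegree := by simp [pb, AdjoinRoot.powerBasis]
  haveI : FiniteDimensional F E := pb.finite
  haveI : Finite E := Module.finite_of_finite F
  haveI : Fintype E := Fintype.ofFinite E
  have hfrE : Module.finrank F E = f.natDegree := pb.finrank.trans hpbdim
  have hcard : Nat.card E = Fintype.card F ^ f.natDegree := by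
    rw [Nat.card_eq_fintype_card, ← hfrE]
    exact Module.card_eq_pow_finrank (K := F) (V := E)
  have hdvd : f ∣ X ^ (r * s) - 1 := by
    have h1 : μ ∣ X ^ (r * s) - 1 := by
      apply minpoly.dvd
      simp [hT]
    exact (Dvd.intro _ hg.symm).trans h1
  have hρrs : ρ ^ (r * s) = 1 := by
    have : AdjoinRoot.mk f (X ^ (r * s) - 1) = 0 := AdjoinRoot.mk_eq_zero.mpr hdvd
    simp only [map_sub, map_pow, AdjoinRoot.mk_X, map_one] at this
    exact sub_eq_zero.mp this
  have key : ∀ (a : ℕ), (∀ v, (T ^ a) v = v → v = 0) → ρ ^ a ≠ 1 := by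
    intro a ha h
    have h1 : AdjoinRoot.mk f (X ^ a - 1) = 0 := by
      simp only [map_sub, map_pow, AdjoinRoot.mk_X, map_one]
      exact sub_eq_zero.mpr h
    obtain ⟨w, hw⟩ := AdjoinRoot.mk_eq_zero.mp h1
    have h2 : (T ^ a) u = u := by
      have h3 : aeval T (X ^ a - 1 : F[X]) u = 0 := by
        rw [hw, mul_comm, map_mul, Module.End.mul_apply, hfu, map_zero]
      have h4 : aeval T (X ^ a - 1 : F[X]) = T ^ a - 1 := by simp
      rw [h4] at h3
      simpa [sub_eq_zero] using h3
    exact hy (ha u h2)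
  have hρ0 : ρ ≠ 0 := by
    intro h
    rw [h, zero_pow (Nat.mul_ne_zero hr.ne_zero hs.ne_zero)] at hρrs
    exact zero_ne_one hρrs
  let ρu : Eˣ := Units.mk0 ρ hρ0
  have hord : ∀ (a b : ℕ), b.Prime → a * b = r * s → ρ ^ a ≠ 1 → b ∣ Fintype.card F ^ f.natDegree - 1 := by
    intro a b hb hab h1
    haveI : Fact b.Prime := ⟨hb⟩
    have h2 : orderOf (ρu ^ a) = b := by
      apply orderOf_eq_prime
      · apply Units.ext
        show (ρ ^ a) ^ b = 1
        rw [← pow_mul, hab, hρrs]
      · intro h3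
        apply h1
        have := congrArg Units.val h3
        simpa [ρu] using this
    rw [← h2, ← hcard, ← Nat.card_units]
    exact orderOf_dvd_natCard _
  refine ⟨f.natDegree, hf.natDegree_pos, hfdeg, ?_, ?_⟩
  · exact hord s r hr (by ring) (key s hfr)
  · exact hord r s hs rfl (key r hfs)

/-- The dichotomy for an element of order `r * s`. -/
theorem dichotomy {V : Type*} [AddCommGroup V] [Module F V] [FiniteDimensional F V] {r s k l : ℕ}
    (hr : r.Prime) (hs : s.Prime) (hrF : (r : F) ≠ 0) (hsF : (s : F) ≠ 0)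
    (hk : ∀ d, 1 ≤ d → r ∣ Fintype.card F ^ d - 1 → k ≤ d)
    (hl : ∀ d, 1 ≤ d → s ∣ Fintype.card F ^ d - 1 → l ≤ d)
    (T : Module.End F V) (hT : T ^ (r * s) = 1) (hTs : T ^ s ≠ 1) (hTr : T ^ r ≠ 1) :
    k + l ≤ Module.finrank F V ∨
      ∃ d, 1 ≤ d ∧ d ≤ Module.finrank F V ∧ r ∣ Fintype.card F ^ d - 1 ∧ s ∣ Fintype.card F ^ d - 1 := by
  classical
  set a := T ^ s with ha
  set b := T ^ r with hb
  have har : a ^ r = 1 := by rw [ha, ← pow_mul, mul_comm, hT]
  have hbs : b ^ s = 1 := by rw [hb, ← pow_mul, hT]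
  set Wa := LinearMap.range (a - 1) with hWa
  set Wb := LinearMap.range (b - 1) with hWb
  have hTcomm : ∀ (m j : ℕ) (v : V), (T ^ j) ((T ^ m) v) = (T ^ m) ((T ^ j) v) := by
    intro m j v
    rw [← Module.End.mul_apply, ← Module.End.mul_apply, ← pow_add, ← pow_add, add_comm]
  have hinv : ∀ (m j : ℕ), ∀ v ∈ LinearMap.range (T ^ m - 1), (T ^ j) v ∈ LinearMap.range (T ^ m - 1) := by
    rintro m j _ ⟨y, rfl⟩
    refine ⟨(T ^ j) y, ?_⟩
    simp only [LinearMap.sub_apply, Module.End.one_apply, map_sub, hTcomm]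
  have hWa0 : Wa ≠ ⊥ := by
    intro h
    apply hTs
    have : a - 1 = 0 := LinearMap.range_eq_bot.mp h
    exact sub_eq_zero.mp this
  have hWb0 : Wb ≠ ⊥ := by
    intro h
    apply hTr
    have : b - 1 = 0 := LinearMap.range_eq_bot.mp h
    exact sub_eq_zero.mp this
  have hk1 : k ≤ Module.finrank F Wa :=
    le_finrank_range hr hrF hk a har Wa (hinv s s) hWa0 le_rfl
  have hl1 : l ≤ Module.finrank F Wb :=
    le_finrank_range hs hsF hl b hbs Wb (hinv r r) hWb0 le_rfl
  by_cases hU : Wa ⊓ Wb = ⊥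
  · left
    have h1 := Submodule.finrank_sup_add_finrank_inf_eq Wa Wb
    rw [hU] at h1
    simp only [finrank_bot, add_zero] at h1
    have h2 : Module.finrank F ↥(Wa ⊔ Wb) ≤ Module.finrank F V := Submodule.finrank_le _
    omega
  · right
    set U := Wa ⊓ Wb with hUdef
    have hTU : ∀ v ∈ U, T v ∈ U := by
      intro v hv
      have h1 := hinv s 1 v hv.1
      have h2 := hinv r 1 v hv.2
      rw [pow_one] at h1 h2
      exact ⟨h1, h2⟩
    let R : Module.End F U := T.restrict hTU
    have hRpow : ∀ (j : ℕ) (v : U), (((R ^ j) v : U) : V) = (T ^ j) v := by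
      intro j v
      induction j generalizing v with
      | zero => simp
      | succ j ih =>
        rw [pow_succ, Module.End.mul_apply, ih, pow_succ, Module.End.mul_apply]
        rfl
    haveI : Nontrivial U := Submodule.nontrivial_iff_ne_bot.mpr hU
    obtain ⟨d, hd1, hd2, hd3, hd4⟩ := exists_common hr hs R (by
        refine LinearMap.ext fun v => ?_
        apply Subtype.ext
        rw [hRpow, hT]
        rfl)
      (by
        intro v hv
        have h1 := congrArg Subtype.val hv
        rw [hRpow] at h1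
        apply Subtype.ext
        exact range_fixed hrF a har _ v.2.1 h1)
      (by
        intro v hv
        have h1 := congrArg Subtype.val hv
        rw [hRpow] at h1
        apply Subtype.ext
        exact range_fixed hsF b hbs _ v.2.2 h1)
    refine ⟨d, hd1, hd2.trans (Submodule.finrank_le _), hd3, hd4⟩

/-- Elements of `GL_n` of order dividing `q ^ d - 1`. -/
lemma exists_gl_of_dvd {n d t : ℕ} (hd : 1 ≤ d) (hdn : d ≤ n) (h : t ∣ Fintype.card F ^ d - 1) :
    ∃ g : GL (Fin n) F, orderOf g = t := by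
  haveI : Nonempty (Fin d) := ⟨⟨0, hd⟩⟩
  obtain ⟨a, ha⟩ := Singer.exists_orderOf_of_dvd (F := F) (Fin d) (t := t) (by simpa using h)
  have e : Fin d ⊕ Fin (n - d) ≃ Fin n := finSumFinEquiv.trans (finCongr (by omega))
  obtain ⟨g, hg⟩ := Singer.exists_orderOf_lcm e a (1 : GL (Fin (n - d)) F)
  exact ⟨g, by rw [hg, ha]; simp⟩

lemma exists_gl_of_two {n d₁ d₂ t₁ t₂ : ℕ} (hd₁ : 1 ≤ d₁) (hd₂ : 1 ≤ d₂) (hdn : d₁ + d₂ ≤ n)
    (h₁ : t₁ ∣ Fintype.card F ^ d₁ - 1) (h₂ : t₂ ∣ Fintype.card F ^ d₂ - 1) :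
    ∃ g : GL (Fin n) F, orderOf g = Nat.lcm t₁ t₂ := by
  obtain ⟨a, ha⟩ := exists_gl_of_dvd (F := F) (n := d₁) hd₁ le_rfl h₁
  obtain ⟨b, hb⟩ := exists_gl_of_dvd (F := F) (n := n - d₁) hd₂ (by omega) h₂
  have e : Fin d₁ ⊕ Fin (n - d₁) ≃ Fin n := finSumFinEquiv.trans (finCongr (by omega))
  obtain ⟨g, hg⟩ := Singer.exists_orderOf_lcm e a b
  exact ⟨g, by rw [hg, ha, hb]⟩

/-- An element of `GL_n` of order prime to `q - 1` gives an element of `PSL_n` of the same order. -/
lemma exists_psl_of_gl {n t : ℕ} (hn : 1 ≤ n) (g : GL (Fin n) F) (hg : orderOf g = t)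
    (hcop : Nat.Coprime t (Fintype.card F - 1)) :
    ∃ y : Matrix.ProjectiveSpecialLinearGroup (Fin n) F, orderOf y = t := by
  classical
  have hq1 : ∀ c : F, c ≠ 0 → c ^ (Fintype.card F - 1) = 1 := fun c hc => FiniteField.pow_card_sub_one_eq_one c hc
  have hone : ∀ c : F, c ≠ 0 → c ^ t = 1 → c = 1 := by
    intro c hc h
    have h1 := hq1 c hc
    have h2 : c ^ (Nat.gcd t (Fintype.card F - 1)) = 1 := by
      have hcu : (Units.mk0 c hc) ^ t = 1 := Units.ext (by simpa using h)
      have hcu1 : (Units.mk0 c hc) ^ (Fintype.card F - 1) = 1 := Units.ext (by simpa using h1)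
      have := pow_gcd_eq_one.mpr ⟨hcu, hcu1⟩
      have h3 := congrArg Units.val this
      simpa using h3
    rw [hcop.gcd_eq_one, pow_one] at h2
    exact h2
  have hdet : (g : Matrix (Fin n) (Fin n) F).det = 1 := by
    apply hone _ (Matrix.isUnits_det_units g).ne_zero
    rw [← Matrix.det_pow, ← Units.val_pow_eq_pow_val, ← hg, pow_orderOf_eq_one]
    simp
  let x : Matrix.SpecialLinearGroup (Fin n) F := ⟨g, hdet⟩
  have hx : Matrix.SpecialLinearGroup.toGL x = g := Units.ext rfl
  have hord : orderOf x = t := by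
    rw [← hg, ← hx]
    exact (orderOf_injective _ (by
      intro a b h
      apply Subtype.ext
      exact congrArg Units.val h) x).symm
  refine ⟨cls x, ?_⟩
  apply Nat.dvd_antisymm
  · rw [← hord]
    apply orderOf_dvd_of_pow_eq_one
    rw [← cls_pow, pow_orderOf_eq_one]
    rfl
  · obtain ⟨c, hc⟩ := (cls_pow_eq_one_iff x _).mp (pow_orderOf_eq_one (cls x))
    set t' := orderOf (cls x) with ht'
    have h1 : (x ^ t' : Matrix.SpecialLinearGroup (Fin n) F) = 1 := by
      apply Subtype.ext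
      have hc0 : c ^ t = 1 := by
        have h2 : ((x : Matrix (Fin n) (Fin n) F) ^ t') ^ t = 1 := by
          rw [← pow_mul, mul_comm, pow_mul]
          have : (x : Matrix (Fin n) (Fin n) F) ^ t = 1 := by
            have h3 := congrArg Subtype.val (pow_orderOf_eq_one x)
            rw [hord] at h3
            simpa using h3
          rw [this, one_pow]
        rw [hc, _root_.smul_pow, one_pow] at h2
        have h3 := congrFun (congrFun h2 ⟨0, hn⟩) ⟨0, hn⟩
        simpa using h3
      have hc1 : c ≠ 0 := by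
        rintro rfl
        have h3 : (x : Matrix (Fin n) (Fin n) F) ^ t' = 0 := by rw [hc]; simp
        have h4 : ((x : Matrix (Fin n) (Fin n) F) ^ t').det = 1 := by
          rw [Matrix.det_pow, x.2, one_pow]
        haveI : Nonempty (Fin n) := ⟨⟨0, hn⟩⟩
        rw [h3, Matrix.det_zero] at h4
        exact zero_ne_one h4
      have hc2 := hone c hc1 hc0
      rw [hc2, one_smul] at hc
      simpa using hc
    rw [← hord]
    exact orderOf_dvd_of_pow_eq_one h1

/-- The matrices `mulVecLin` of powers. -/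
lemma mulVecLin_pow {n : ℕ} (A : Matrix (Fin n) (Fin n) F) (j : ℕ) : Matrix.mulVecLin (A ^ j) = (Matrix.mulVecLin A) ^ j := by
  induction j with
  | zero =>
    refine LinearMap.ext fun v => ?_
    simp
  | succ j ih =>
    rw [pow_succ, pow_succ, ← ih]
    refine LinearMap.ext fun v => ?_
    show (A ^ j * A) *ᵥ v = (A ^ j) *ᵥ (A *ᵥ v)
    rw [Matrix.mulVec_mulVec]

lemma mulVecLin_inj {n : ℕ} {A B : Matrix (Fin n) (Fin n) F} (h : Matrix.mulVecLin A = Matrix.mulVecLin B) : A = B := by
  apply Matrix.toLin'.injective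
  exact h

/-- The main theorem on `r * s`: a lift of order `r * s`. -/
theorem exists_lift_of_order {n r s : ℕ} (hn : 1 ≤ n) (hr : r.Prime) (hs : s.Prime) (hrs : r ≠ s)
    (hrq : ¬ r ∣ Fintype.card F - 1) (hsq : ¬ s ∣ Fintype.card F - 1)
    (y : Matrix.ProjectiveSpecialLinearGroup (Fin n) F) (hy : orderOf y = r * s) :
    ∃ x : Matrix (Fin n) (Fin n) F, x ^ (r * s) = 1 ∧ x ^ s ≠ 1 ∧ x ^ r ≠ 1 := by
  classical
  obtain ⟨x₀, rfl⟩ := cls_surjective y
  set q := Fintype.card F with hq
  have hcop : Nat.Coprime (r * s) (q - 1) := by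
    apply Nat.Coprime.mul_left
    · exact (hr.coprime_iff_not_dvd).mpr hrq
    · exact (hs.coprime_iff_not_dvd).mpr hsq
  obtain ⟨c, hc⟩ := (cls_pow_eq_one_iff x₀ _).mp (show cls x₀ ^ (r * s) = 1 by rw [← hy]; exact pow_orderOf_eq_one _)
  have hc0 : c ≠ 0 := by
    rintro rfl
    have h3 : (x₀ : Matrix (Fin n) (Fin n) F) ^ (r * s) = 0 := by rw [hc]; simp
    have h4 : ((x₀ : Matrix (Fin n) (Fin n) F) ^ (r * s)).det = 1 := by
      rw [Matrix.det_pow, x₀.2, one_pow]
    haveI : Nonempty (Fin n) := ⟨⟨0, hn⟩⟩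
    rw [h3, Matrix.det_zero] at h4
    exact zero_ne_one h4
  refine ⟨(x₀ : Matrix (Fin n) (Fin n) F) ^ (q - 1), ?_, ?_, ?_⟩
  · rw [← pow_mul, mul_comm, pow_mul, hc, _root_.smul_pow, one_pow, FiniteField.pow_card_sub_one_eq_one c hc0, one_smul]
  · intro h
    have h1 : cls x₀ ^ ((q - 1) * s) = 1 := by
      rw [cls_pow_eq_one_iff]
      exact ⟨1, by rw [pow_mul, h, one_smul]⟩
    have h2 := orderOf_dvd_of_pow_eq_one h1
    rw [hy] at h2
    have h3 : r ∣ (q - 1) * s := (Dvd.intro _ rfl).trans h2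
    rcases (Nat.Prime.dvd_mul hr).mp h3 with h4 | h4
    · exact hrq h4
    · exact hrs ((Nat.prime_dvd_prime_iff_eq hr hs).mp h4)
  · intro h
    have h1 : cls x₀ ^ ((q - 1) * r) = 1 := by
      rw [cls_pow_eq_one_iff]
      exact ⟨1, by rw [pow_mul, h, one_smul]⟩
    have h2 := orderOf_dvd_of_pow_eq_one h1
    rw [hy] at h2
    have h3 : s ∣ (q - 1) * r := (Dvd.intro_left _ rfl).trans h2
    rcases (Nat.Prime.dvd_mul hs).mp h3 with h4 | h4
    · exact hsq h4
    · exact hrs.symm ((Nat.prime_dvd_prime_iff_eq hs hr).mp h4)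

end Cfsg.Agent.Lib.KS2.PGraph
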