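import Mathlib
import Cfsg.Agent.Lib.KS2.PGraph

/-!
Adjacency of a prime and the characteristic in the prime graph of `PSL_n(q)`.
-/

set_option autoImplicit false
set_option linter.unusedSimpArgs false
set_option linter.unusedVariables false
set_option linter.deprecated false

namespace Cfsg.Agent.Lib.KS2.PGraphP

open Matrix Polynomial Cfsg.Agent.Lib.Known3 Cfsg.Agent.Lib.Known3.PSLBasic Cfsg.Agent.Lib.Known3.PSLCyclic
open Cfsg.Agent.Lib.KS2.PSLOrd Cfsg.Agent.Lib.KS2.PGraph

variable {F : Type*} [Field F] [Fintype F]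

section Existence

variable {n : ℕ}

lemma diag_mul_single (d : Fin n → F) (i j : Fin n) (c : F) :
    Matrix.diagonal d * Matrix.single i j c = Matrix.single i j (d i * c) := by
  ext a b
  rw [Matrix.diagonal_mul]
  by_cases h : a = i ∧ b = j
  · obtain ⟨rfl, rfl⟩ := h
    simp
  · have h' : ¬(i = a ∧ j = b) := fun ⟨x, y⟩ => h ⟨x.symm, y.symm⟩
    simp [Matrix.single_apply, h']

lemma single_mul_diag (d : Fin n → F) (i j : Fin n) (c : F) :
    Matrix.single i j c * Matrix.diagonal d = Matrix.single i j (c * d j) := by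
  ext a b
  rw [Matrix.mul_diagonal]
  by_cases h : a = i ∧ b = j
  · obtain ⟨rfl, rfl⟩ := h
    simp
  · have h' : ¬(i = a ∧ j = b) := fun ⟨x, y⟩ => h ⟨x.symm, y.symm⟩
    simp [Matrix.single_apply, h']

/-- The powers of a diagonal plus elementary matrix. -/
lemma diag_add_pow' (d : Fin n → F) (i₀ j₀ : Fin n) (hij : i₀ ≠ j₀) (hd : d i₀ = d j₀) (b : F) (m : ℕ) :
    (Matrix.diagonal d + Matrix.single i₀ j₀ b) ^ m =
      Matrix.diagonal (fun i => d i ^ m) + Matrix.single i₀ j₀ ((m : F) * d i₀ ^ (m - 1) * b) := by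
  induction m with
  | zero =>
    simp [Matrix.diagonal_one]
  | succ m ih =>
    rw [pow_succ, ih]
    have h1 : Matrix.diagonal (fun i => d i ^ m) * (Matrix.single i₀ j₀ b) = Matrix.single i₀ j₀ (d i₀ ^ m * b) := by
      rw [diag_mul_single]
    have h2 : Matrix.single i₀ j₀ ((m : F) * d i₀ ^ (m - 1) * b) * Matrix.diagonal d =
        Matrix.single i₀ j₀ ((m : F) * d i₀ ^ m * b) := by
      rw [single_mul_diag, ← hd]
      congr 1
      rcases m with _ | m
      · simp
      · simp [pow_succ]; ring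
    have h3 : Matrix.single i₀ j₀ ((m : F) * d i₀ ^ (m - 1) * b) * Matrix.single i₀ j₀ b = 0 := by
      rw [Matrix.single_mul_single_of_ne]
      exact hij.symm
    rw [add_mul, mul_add, mul_add, h1, h2, h3, add_zero, Matrix.diagonal_mul_diagonal, add_assoc, ← Matrix.single_add]
    congr 2
    · funext i
      rw [pow_succ]
    · simp only [Nat.add_sub_cancel]
      push_cast
      ring

lemma diag_add_pow (d : Fin n → F) (i₀ j₀ : Fin n) (hij : i₀ ≠ j₀) (hd : d i₀ = d j₀) (m : ℕ) :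
    (Matrix.diagonal d + Matrix.single i₀ j₀ 1) ^ m =
      Matrix.diagonal (fun i => d i ^ m) + Matrix.single i₀ j₀ ((m : F) * d i₀ ^ (m - 1)) := by
  rw [diag_add_pow' d i₀ j₀ hij hd 1 m, mul_one]

/-- The determinant of a diagonal plus elementary matrix. -/
lemma det_diag_add (d : Fin n → F) (i₀ j₀ : Fin n) (hij : i₀ ≠ j₀) (h0 : d i₀ ≠ 0) :
    (Matrix.diagonal d + Matrix.single i₀ j₀ (1 : F)).det = ∏ i, d i := by
  have h : Matrix.diagonal d + Matrix.single i₀ j₀ (1 : F) =
      Matrix.diagonal d * Matrix.transvection i₀ j₀ (d i₀)⁻¹ := by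
    rw [Matrix.transvection, mul_add, Matrix.mul_one, diag_mul_single]
    simp [h0]
  rw [h, Matrix.det_mul, Matrix.det_diagonal, Matrix.det_transvection_of_ne _ _ hij, mul_one]

/-- Elements of order `r * p` from diagonal matrices plus an elementary matrix. -/
theorem exists_of_diag {p r : ℕ} [Fact p.Prime] [CharP F p] (hr : r.Prime) (hrF : (r : F) ≠ 0)
    (d : Fin n → F) (i₀ j₀ : Fin n) (hij : i₀ ≠ j₀) (hd : d i₀ = d j₀)
    (hd0 : ∀ i, d i ≠ 0) (hprod : ∏ i, d i = 1) (hne : ∃ i j, d i ≠ d j) (c : F) (hc : ∀ i, d i ^ r = c) :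
    ∃ y : Matrix.ProjectiveSpecialLinearGroup (Fin n) F, orderOf y = r * p := by
  classical
  have hpp : p.Prime := Fact.out
  let x : Matrix.SpecialLinearGroup (Fin n) F := ⟨Matrix.diagonal d + Matrix.single i₀ j₀ 1, by
    rw [det_diag_add d i₀ j₀ hij (hd0 i₀), hprod]⟩
  have hxval : (x : Matrix (Fin n) (Fin n) F) = Matrix.diagonal d + Matrix.single i₀ j₀ 1 := rfl
  have hpow : ∀ m : ℕ, (x : Matrix (Fin n) (Fin n) F) ^ m =
      Matrix.diagonal (fun i => d i ^ m) + Matrix.single i₀ j₀ ((m : F) * d i₀ ^ (m - 1)) := by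
    intro m
    rw [hxval]
    exact diag_add_pow d i₀ j₀ hij hd m
  have hrp : cls x ^ (r * p) = 1 := by
    rw [cls_pow_eq_one_iff]
    refine ⟨c ^ p, ?_⟩
    rw [hpow]
    have h0 : ((r * p : ℕ) : F) = 0 := by
      push_cast
      rw [CharP.cast_eq_zero F p, mul_zero]
    rw [h0, zero_mul, Matrix.single_zero, add_zero]
    have : (fun i => d i ^ (r * p)) = fun _ => c ^ p := by
      funext i
      rw [pow_mul, hc]
    rw [this]
    ext i j
    by_cases hij : i = j
    · subst hij; simp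
    · simp [Matrix.diagonal_apply, hij]
  refine ⟨cls x, ?_⟩
  have hdvd := orderOf_dvd_of_pow_eq_one hrp
  set t := orderOf (cls x) with ht
  have hnot_r : ¬ t ∣ r := by
    intro h
    have h1 : cls x ^ r = 1 := orderOf_dvd_iff_pow_eq_one.mp h
    obtain ⟨c', hc'⟩ := (cls_pow_eq_one_iff x r).mp h1
    rw [hpow] at hc'
    have h2 := congrFun (congrFun hc' i₀) j₀
    simp [Matrix.diagonal_apply, hij, Matrix.one_apply, Matrix.single_apply] at h2
    rcases h2 with h2 | h2
    · exact hrF h2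
    · exact hd0 i₀ h2.1
  have hnot_p : ¬ t ∣ p := by
    intro h
    have h1 : cls x ^ p = 1 := orderOf_dvd_iff_pow_eq_one.mp h
    obtain ⟨c', hc'⟩ := (cls_pow_eq_one_iff x p).mp h1
    rw [hpow, CharP.cast_eq_zero F p, zero_mul, Matrix.single_zero, add_zero] at hc'
    obtain ⟨i, j, hijne⟩ := hne
    apply hijne
    have h2 : ∀ a, d a ^ p = c' := by
      intro a
      have := congrFun (congrFun hc' a) a
      simpa using this
    have h3 : d i ^ p = d j ^ p := (h2 i).trans (h2 j).symm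
    exact (frobenius_inj F p) h3
  obtain ⟨a, b, ha, hb, hab⟩ := (Nat.dvd_mul).mp hdvd
  rcases (Nat.dvd_prime hr).mp ha with rfl | rfl
  · exfalso
    apply hnot_p
    rw [← hab, one_mul]
    exact hb
  · rcases (Nat.dvd_prime hpp).mp hb with rfl | rfl
    · exfalso
      apply hnot_r
      rw [← hab, mul_one]
    · exact hab.symm

/-- An element of order `p` in `GL_m`. -/
lemma exists_gl_order_p {p m : ℕ} [Fact p.Prime] [CharP F p] (hm : 2 ≤ m) : ∃ u : GL (Fin m) F, orderOf u = p := by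
  classical
  let i₀ : Fin m := ⟨0, by omega⟩
  let j₀ : Fin m := ⟨1, by omega⟩
  have hij : i₀ ≠ j₀ := by
    intro h
    simpa [i₀, j₀] using congrArg Fin.val h
  let w : Matrix.SpecialLinearGroup (Fin m) F := ⟨Matrix.transvection i₀ j₀ 1, Matrix.det_transvection_of_ne _ _ hij _⟩
  have hpow : ∀ t : ℕ, (w : Matrix (Fin m) (Fin m) F) ^ t = Matrix.transvection i₀ j₀ (t : F) := by
    intro t
    induction t with
    | zero => simp
    | succ t ih =>
      rw [pow_succ, ih]
      show Matrix.transvection i₀ j₀ (t : F) * Matrix.transvection i₀ j₀ 1 = _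
      rw [Matrix.transvection_mul_transvection_same _ _ hij]
      push_cast
      rfl
  refine ⟨Matrix.SpecialLinearGroup.toGL w, ?_⟩
  apply orderOf_eq_prime
  · apply Units.ext
    show (w : Matrix (Fin m) (Fin m) F) ^ p = 1
    rw [hpow, CharP.cast_eq_zero F p, Matrix.transvection_zero]
  · intro h
    have h1 := congrArg (fun z : GL (Fin m) F => (z : Matrix (Fin m) (Fin m) F) i₀ j₀) h
    have h2 : (w : Matrix (Fin m) (Fin m) F) i₀ j₀ = (1 : Matrix (Fin m) (Fin m) F) i₀ j₀ := h1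
    have h3 : (w : Matrix (Fin m) (Fin m) F) i₀ j₀ = 1 := by
      show (Matrix.transvection i₀ j₀ (1 : F)) i₀ j₀ = 1
      simp [Matrix.transvection, Matrix.one_apply, hij, Matrix.single_apply]
    rw [h3, Matrix.one_apply_ne hij] at h2
    exact one_ne_zero h2

end Existence

section Nonex

variable {n : ℕ}

lemma exists_sq_zero {R : Type*} [Ring R] (N₀ : R) (h0 : N₀ ≠ 0) (m : ℕ) (hm : N₀ ^ m = 0) :
    ∃ j : ℕ, N₀ ^ j ≠ 0 ∧ N₀ ^ j * N₀ ^ j = 0 := by
  classical
  have hex : ∃ m, N₀ ^ m = 0 := ⟨m, hm⟩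
  set h := Nat.find hex with hh
  have h1 : N₀ ^ h = 0 := Nat.find_spec hex
  have h2 : h ≠ 0 := by
    intro h3
    rw [h3, pow_zero] at h1
    apply h0
    rw [← mul_one N₀, h1, mul_zero]
  have h3 : h ≠ 1 := by
    intro h3
    rw [h3, pow_one] at h1
    exact h0 h1
  refine ⟨h - 1, Nat.find_min hex (by omega), ?_⟩
  rw [← pow_add]
  have : h - 1 + (h - 1) = h + (h - 2) := by omega
  rw [this, pow_add, h1, zero_mul]

/-- Data extracted from an element of order `r * p`. -/
theorem data_of_order {p r : ℕ} [Fact p.Prime] [CharP F p] (hn : 1 ≤ n) (hr : r.Prime) (hrp : r ≠ p)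
    (y : Matrix.ProjectiveSpecialLinearGroup (Fin n) F) (hy : orderOf y = r * p) :
    ∃ (A N : Matrix (Fin n) (Fin n) F) (c : F), c ≠ 0 ∧ A ^ r = c • 1 ∧ A.det = 1 ∧ (¬ ∃ c' : F, A = c' • 1) ∧
      N ≠ 0 ∧ N * N = 0 ∧ A * N = N * A := by
  classical
  have hpp : p.Prime := Fact.out
  haveI : Nonempty (Fin n) := ⟨⟨0, hn⟩⟩
  obtain ⟨x, rfl⟩ := cls_surjective y
  set X : Matrix (Fin n) (Fin n) F := (x : Matrix (Fin n) (Fin n) F) with hX
  obtain ⟨c, hc⟩ := (cls_pow_eq_one_iff x _).mp (show cls x ^ (r * p) = 1 by rw [← hy]; exact pow_orderOf_eq_one _)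
  have hdetX : X.det = 1 := x.2
  have hc0 : c ≠ 0 := by
    rintro rfl
    have h3 : X ^ (r * p) = 0 := by rw [hX, hc]; simp
    have h4 : (X ^ (r * p)).det = 1 := by
      rw [Matrix.det_pow, hdetX, one_pow]
    rw [h3, Matrix.det_zero] at h4
    exact zero_ne_one h4
  have hnot : ∀ m, ¬ (r * p ∣ m) → ¬ ∃ c' : F, X ^ m = c' • 1 := by
    rintro m hm ⟨c', hc'⟩
    apply hm
    rw [← hy]
    apply orderOf_dvd_of_pow_eq_one
    rw [cls_pow_eq_one_iff]
    exact ⟨c', hc'⟩
  -- the `p`-th root of `c`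
  obtain ⟨e, he⟩ : ∃ e : F, e ^ p = c := ⟨(frobeniusEquiv F p).symm c, by
    have := (frobeniusEquiv F p).apply_symm_apply c
    simpa [frobeniusEquiv_apply, frobenius_def] using this⟩
  set N₀ : Matrix (Fin n) (Fin n) F := X ^ r - e • 1 with hN₀
  have hcomm : Commute (X ^ r) (e • (1 : Matrix (Fin n) (Fin n) F)) := by
    apply Commute.smul_right
    exact Commute.one_right _
  have hN₀p : N₀ ^ p = 0 := by
    rw [hN₀, sub_pow_char_of_commute p hcomm, ← pow_mul, hc, _root_.smul_pow, one_pow, he, sub_self]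
  have hN₀0 : N₀ ≠ 0 := by
    intro h
    have h1 := hnot r (by
      intro h2
      have h3 := Nat.le_of_dvd hr.pos h2
      have := hpp.two_le
      have h4 : r * 2 ≤ r * p := Nat.mul_le_mul_left _ this
      have := hr.pos
      omega)
    exact h1 ⟨e, sub_eq_zero.mp h⟩
  obtain ⟨j, hj1, hj2⟩ := exists_sq_zero N₀ hN₀0 p hN₀p
  refine ⟨X ^ p, N₀ ^ j, c, hc0, ?_, ?_, ?_, hj1, hj2, ?_⟩
  · rw [← pow_mul, mul_comm, hc]
  · rw [Matrix.det_pow, hdetX, one_pow]
  · apply hnot
    intro h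
    have h3 := Nat.le_of_dvd hpp.pos h
    have := hr.two_le
    have h4 : 2 * p ≤ r * p := Nat.mul_le_mul_right _ this
    have := hpp.pos
    omega
  · have hc1 : Commute (X ^ p) N₀ := by
      rw [hN₀]
      apply Commute.sub_right
      · exact Commute.pow_pow_self _ _ _
      · apply Commute.smul_right
        exact Commute.one_right _
    exact (hc1.pow_right j).eq

/-- The case of a prime with `k ≥ 2`. -/
theorem plus_two_of_data {r k : ℕ} (hr : r.Prime) (hrF : (r : F) ≠ 0) (hk2 : 2 ≤ k)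
    (hk : ∀ d, 1 ≤ d → r ∣ Fintype.card F ^ d - 1 → k ≤ d) (hrq : ¬ r ∣ Fintype.card F - 1)
    (A N : Matrix (Fin n) (Fin n) F) (c : F) (hc0 : c ≠ 0) (hAr : A ^ r = c • 1) (hA : ¬ ∃ c' : F, A = c' • 1)
    (hN0 : N ≠ 0) (hNN : N * N = 0) (hAN : A * N = N * A) : k + 2 ≤ n := by
  classical
  have hcop : Nat.Coprime (Nat.card Fˣ) r := by
    rw [Nat.card_units, Nat.card_eq_fintype_card, Nat.coprime_comm]
    exact hr.coprime_iff_not_dvd.mpr hrq
  let cu : Fˣ := Units.mk0 c hc0
  let δ : Fˣ := (powCoprime hcop).symm cu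
  have hδ : δ ^ r = cu := (powCoprime hcop).apply_symm_apply cu
  have hδv : ((δ : F)) ^ r = c := by
    have := congrArg Units.val hδ
    simpa [cu] using this
  have hδ0 : (δ : F) ≠ 0 := δ.ne_zero
  let a : Module.End F (Fin n → F) := Matrix.mulVecLin ((δ : F)⁻¹ • A)
  let N' : Module.End F (Fin n → F) := Matrix.mulVecLin N
  have h := plus_two (F := F) (V := Fin n → F) hr hrF hk2 hk a N' (by
      show Matrix.mulVecLin ((δ : F)⁻¹ • A) ^ r = 1
      rw [← mulVecLin_pow, _root_.smul_pow, hAr, smul_smul, inv_pow, hδv, inv_mul_cancel₀ hc0, one_smul]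
      exact LinearMap.ext fun v => by simp)
    (by
      intro h1
      apply hA
      refine ⟨(δ : F), ?_⟩
      have h2 : (δ : F)⁻¹ • A = 1 := by
        apply mulVecLin_inj (F := F)
        rw [show Matrix.mulVecLin ((δ : F)⁻¹ • A) = 1 from h1]
        exact LinearMap.ext fun v => by simp
      rw [← h2, smul_smul, mul_inv_cancel₀ hδ0, one_smul])
    (by
      intro h1
      apply hN0
      apply mulVecLin_inj (F := F)
      rw [show Matrix.mulVecLin N = 0 from h1]
      exact LinearMap.ext fun v => by simp)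
    (by
      intro v
      show N *ᵥ (N *ᵥ v) = 0
      rw [Matrix.mulVec_mulVec, hNN, Matrix.zero_mulVec])
    (by
      intro v
      show ((δ : F)⁻¹ • A) *ᵥ (N *ᵥ v) = N *ᵥ (((δ : F)⁻¹ • A) *ᵥ v)
      rw [Matrix.mulVec_mulVec, Matrix.mulVec_mulVec, Matrix.smul_mul, Matrix.mul_smul, hAN])
  rwa [Module.finrank_fin_fun] at h

/-- Conjugation of powers. -/
lemma conj_pow' {m : ℕ} (P A : Matrix (Fin m) (Fin m) F) (hP : P.det ≠ 0) (j : ℕ) :
    (P⁻¹ * A * P) ^ j = P⁻¹ * A ^ j * P := by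
  have h1 : P * P⁻¹ = 1 := Matrix.mul_nonsing_inv _ (isUnit_iff_ne_zero.mpr hP)
  have h2 : P⁻¹ * P = 1 := Matrix.nonsing_inv_mul _ (isUnit_iff_ne_zero.mpr hP)
  induction j with
  | zero => simp [h2]
  | succ j ih =>
    rw [pow_succ, ih, pow_succ]
    calc P⁻¹ * A ^ j * P * (P⁻¹ * A * P) = P⁻¹ * A ^ j * (P * P⁻¹) * A * P := by
          simp only [Matrix.mul_assoc]
      _ = P⁻¹ * (A ^ j * A) * P := by
          rw [h1]
          simp only [Matrix.mul_assoc, Matrix.mul_one]

/-- `n = 2` is impossible. -/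
theorem two_impossible {r : ℕ} (hrF : (r : F) ≠ 0)
    (A N : Matrix (Fin 2) (Fin 2) F) (c : F) (hAr : A ^ r = c • 1) (hdet : A.det = 1) (hA : ¬ ∃ c' : F, A = c' • 1)
    (hN0 : N ≠ 0) (hNN : N * N = 0) (hAN : A * N = N * A) : False := by
  classical
  obtain ⟨z, hz⟩ : ∃ z, N *ᵥ z ≠ 0 := by
    by_contra hcon
    push Not at hcon
    apply hN0
    apply mulVecLin_inj (F := F)
    exact LinearMap.ext fun v => by simpa using hcon v
  set v := N *ᵥ z with hv
  have hNv : N *ᵥ v = 0 := by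
    rw [hv, Matrix.mulVec_mulVec, hNN, Matrix.zero_mulVec]
  let P : Matrix (Fin 2) (Fin 2) F := Matrix.of fun i j => ![v, z] j i
  have hPmul : ∀ y : Fin 2 → F, P *ᵥ y = y 0 • v + y 1 • z := by
    intro y
    ext i
    simp [Matrix.mulVec, dotProduct, Fin.sum_univ_two, P, mul_comm]
  have hdetP : P.det ≠ 0 := by
    intro h0
    obtain ⟨y, hy0, hy⟩ := Matrix.exists_mulVec_eq_zero_iff.mpr h0
    rw [hPmul] at hy
    have h1 : N *ᵥ (y 0 • v + y 1 • z) = y 1 • v := by
      rw [Matrix.mulVec_add, Matrix.mulVec_smul, Matrix.mulVec_smul, hNv, smul_zero, zero_add]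
    rw [hy, Matrix.mulVec_zero] at h1
    have hy1 : y 1 = 0 := (smul_eq_zero.mp h1.symm).resolve_right hz
    rw [hy1, zero_smul, add_zero] at hy
    have hy2 : y 0 = 0 := (smul_eq_zero.mp hy).resolve_right hz
    apply hy0
    funext i
    fin_cases i
    · exact hy2
    · exact hy1
  have hP1 : P * P⁻¹ = 1 := Matrix.mul_nonsing_inv _ (isUnit_iff_ne_zero.mpr hdetP)
  have hP2 : P⁻¹ * P = 1 := Matrix.nonsing_inv_mul _ (isUnit_iff_ne_zero.mpr hdetP)
  set E : Matrix (Fin 2) (Fin 2) F := Matrix.single 0 1 1 with hE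
  have hNP : N * P = P * E := by
    ext i j
    fin_cases j
    · have : (N * P) i 0 = (N *ᵥ v) i := by
        simp [Matrix.mul_apply, Matrix.mulVec, dotProduct, P]
      simp only [Fin.zero_eta, Fin.isValue]
      rw [this, hNv]
      simp [Matrix.mul_apply, Fin.sum_univ_two, hE, Matrix.single_apply]
    · have : (N * P) i 1 = v i := by
        rw [hv]
        simp [Matrix.mul_apply, Matrix.mulVec, dotProduct, P]
      simp only [Fin.mk_one, Fin.isValue]
      rw [this]
      simp [Matrix.mul_apply, Fin.sum_univ_two, hE, Matrix.single_apply, P]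
  have hPE : P⁻¹ * N * P = E := by
    rw [Matrix.mul_assoc, hNP, ← Matrix.mul_assoc, hP2, Matrix.one_mul]
  set M := P⁻¹ * A * P with hM
  have hME : M * E = E * M := by
    rw [← hPE, hM]
    calc P⁻¹ * A * P * (P⁻¹ * N * P) = P⁻¹ * A * (P * P⁻¹) * N * P := by simp only [Matrix.mul_assoc]
      _ = P⁻¹ * (A * N) * P := by rw [hP1]; simp only [Matrix.mul_assoc, Matrix.mul_one]
      _ = P⁻¹ * (N * A) * P := by rw [hAN]
      _ = P⁻¹ * N * (P * P⁻¹) * A * P := by rw [hP1]; simp only [Matrix.mul_assoc, Matrix.mul_one]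
      _ = P⁻¹ * N * P * (P⁻¹ * A * P) := by simp only [Matrix.mul_assoc]
  have e1 := congrFun (congrFun hME 0) 1
  have e2 := congrFun (congrFun hME 1) 1
  simp [Matrix.mul_apply, Fin.sum_univ_two, hE, Matrix.single_apply] at e1 e2
  -- the shape of `M`
  have hMform : M = Matrix.diagonal (fun _ => M 0 0) + Matrix.single 0 1 (M 0 1) := by
    ext i j
    fin_cases i <;> fin_cases j <;> simp [Matrix.diagonal_apply, Matrix.single_apply, e1, e2]
  have hMr : M ^ r = c • 1 := by
    rw [hM, conj_pow' P A hdetP, hAr, Matrix.mul_smul, Matrix.smul_mul, Matrix.mul_one, hP2]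
  have hdetM : M.det = 1 := by
    rw [hM, Matrix.det_mul, Matrix.det_mul, hdet, mul_one, ← Matrix.det_mul, hP2, Matrix.det_one]
  have hα : M 0 0 ≠ 0 := by
    intro h0
    rw [Matrix.det_fin_two, e2, mul_zero, sub_zero, ← e1, h0, zero_mul] at hdetM
    exact zero_ne_one hdetM
  have hMr' := hMr
  rw [hMform, diag_add_pow' _ 0 1 (by decide) rfl] at hMr'
  have e3 := congrFun (congrFun hMr' 0) 1
  simp [Matrix.diagonal_apply, Matrix.single_apply] at e3
  have hb : M 0 1 = 0 := by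
    rcases e3 with e3 | e3
    · rcases e3 with e3 | e3
      · exact absurd e3 hrF
      · exact absurd e3.1 hα
    · exact e3
  apply hA
  obtain ⟨α, hαdef⟩ : ∃ α, α = M 0 0 := ⟨_, rfl⟩
  refine ⟨α, ?_⟩
  have hM2 : M = α • 1 := by
    ext i j
    fin_cases i <;> fin_cases j <;> simp [Matrix.one_apply, e1, e2, hb, hαdef]
  have hA2 : A = P * M * P⁻¹ := by
    rw [hM]
    calc A = (P * P⁻¹) * A * (P * P⁻¹) := by rw [hP1]; simp
      _ = P * (P⁻¹ * A * P) * P⁻¹ := by simp only [Matrix.mul_assoc]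
  rw [hA2, hM2]
  simp only [Matrix.mul_smul, Matrix.smul_mul, Matrix.mul_one, hP1]

/-- In dimension three and for `r = 3`, the prime `9` divides `q - 1`. -/
theorem nine_dvd (h3 : (3 : F) ≠ 0)
    (A N : Matrix (Fin 3) (Fin 3) F) (c : F) (hAr : A ^ 3 = c • 1) (hdet : A.det = 1) (hA : ¬ ∃ c' : F, A = c' • 1)
    (hN0 : N ≠ 0) (hNN : N * N = 0) (hAN : A * N = N * A) : 9 ∣ Fintype.card F - 1 := by
  classical
  obtain ⟨z, hz⟩ : ∃ z, N *ᵥ z ≠ 0 := by
    by_contra hcon
    push Not at hcon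
    apply hN0
    apply mulVecLin_inj (F := F)
    exact LinearMap.ext fun v => by simpa using hcon v
  set v := N *ᵥ z with hv
  have hNv : N *ᵥ v = 0 := by
    rw [hv, Matrix.mulVec_mulVec, hNN, Matrix.zero_mulVec]
  -- a second vector in the kernel
  obtain ⟨u, hu, huv⟩ : ∃ u, N *ᵥ u = 0 ∧ u ∉ Submodule.span F {v} := by
    by_contra hcon
    push Not at hcon
    have hker : LinearMap.ker (Matrix.mulVecLin N) ≤ Submodule.span F {v} := by
      intro x hx
      exact hcon x (by simpa using hx)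
    have h1 := LinearMap.finrank_range_add_finrank_ker (Matrix.mulVecLin N)
    rw [Module.finrank_fin_fun] at h1
    have h2 : LinearMap.range (Matrix.mulVecLin N) ≤ LinearMap.ker (Matrix.mulVecLin N) := by
      rintro _ ⟨x, rfl⟩
      rw [LinearMap.mem_ker]
      show N *ᵥ (N *ᵥ x) = 0
      rw [Matrix.mulVec_mulVec, hNN, Matrix.zero_mulVec]
    have h4 := Submodule.finrank_mono h2
    have h5 := Submodule.finrank_mono hker
    have h6 : Module.finrank F (Submodule.span F {v}) = 1 := finrank_span_singleton hz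
    omega
  let P : Matrix (Fin 3) (Fin 3) F := Matrix.of fun i j => ![v, u, z] j i
  have hPmul : ∀ y : Fin 3 → F, P *ᵥ y = y 0 • v + y 1 • u + y 2 • z := by
    intro y
    ext i
    simp [Matrix.mulVec, dotProduct, Fin.sum_univ_three, P, mul_comm]
  have hdetP : P.det ≠ 0 := by
    intro h0
    obtain ⟨y, hy0, hy⟩ := Matrix.exists_mulVec_eq_zero_iff.mpr h0
    rw [hPmul] at hy
    have h1 : N *ᵥ (y 0 • v + y 1 • u + y 2 • z) = y 2 • v := by
      rw [Matrix.mulVec_add, Matrix.mulVec_add, Matrix.mulVec_smul, Matrix.mulVec_smul, Matrix.mulVec_smul, hNv, hu,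
        smul_zero, smul_zero, zero_add, zero_add]
    rw [hy, Matrix.mulVec_zero] at h1
    have hy2 : y 2 = 0 := (smul_eq_zero.mp h1.symm).resolve_right hz
    rw [hy2, zero_smul, add_zero] at hy
    have hy1 : y 1 = 0 := by
      by_contra hne
      apply huv
      have : u = (-(y 1)⁻¹ * y 0) • v := by
        have h5 : y 1 • u = -(y 0 • v) := (eq_neg_of_add_eq_zero_right hy)
        calc u = (y 1)⁻¹ • (y 1 • u) := by rw [smul_smul, inv_mul_cancel₀ hne, one_smul]
          _ = _ := by rw [h5, smul_neg, smul_smul, neg_mul, neg_smul]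
      rw [this]
      exact Submodule.smul_mem _ _ (Submodule.mem_span_singleton_self v)
    rw [hy1, zero_smul, add_zero] at hy
    have hy3 : y 0 = 0 := (smul_eq_zero.mp hy).resolve_right hz
    apply hy0
    funext i
    fin_cases i
    · exact hy3
    · exact hy1
    · exact hy2
  have hP1 : P * P⁻¹ = 1 := Matrix.mul_nonsing_inv _ (isUnit_iff_ne_zero.mpr hdetP)
  have hP2 : P⁻¹ * P = 1 := Matrix.nonsing_inv_mul _ (isUnit_iff_ne_zero.mpr hdetP)
  set E : Matrix (Fin 3) (Fin 3) F := Matrix.single 0 2 1 with hE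
  have hNP : N * P = P * E := by
    ext i j
    fin_cases j
    · have : (N * P) i 0 = (N *ᵥ v) i := by
        simp [Matrix.mul_apply, Matrix.mulVec, dotProduct, P]
      simp only [Fin.zero_eta, Fin.isValue]
      rw [this, hNv]
      simp [Matrix.mul_apply, Fin.sum_univ_three, hE, Matrix.single_apply]
    · have : (N * P) i 1 = (N *ᵥ u) i := by
        simp [Matrix.mul_apply, Matrix.mulVec, dotProduct, P]
      simp only [Fin.mk_one, Fin.isValue]
      rw [this, hu]
      simp [Matrix.mul_apply, Fin.sum_univ_three, hE, Matrix.single_apply]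
    · have : (N * P) i 2 = v i := by
        rw [hv]
        simp [Matrix.mul_apply, Matrix.mulVec, dotProduct, P]
      simp only [Fin.reduceFinMk, Fin.isValue]
      rw [this]
      simp [Matrix.mul_apply, Fin.sum_univ_three, hE, Matrix.single_apply, P]
  have hPE : P⁻¹ * N * P = E := by
    rw [Matrix.mul_assoc, hNP, ← Matrix.mul_assoc, hP2, Matrix.one_mul]
  set M := P⁻¹ * A * P with hM
  have hME : M * E = E * M := by
    rw [← hPE, hM]
    calc P⁻¹ * A * P * (P⁻¹ * N * P) = P⁻¹ * A * (P * P⁻¹) * N * P := by simp only [Matrix.mul_assoc]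
      _ = P⁻¹ * (A * N) * P := by rw [hP1]; simp only [Matrix.mul_assoc, Matrix.mul_one]
      _ = P⁻¹ * (N * A) * P := by rw [hAN]
      _ = P⁻¹ * N * (P * P⁻¹) * A * P := by rw [hP1]; simp only [Matrix.mul_assoc, Matrix.mul_one]
      _ = P⁻¹ * N * P * (P⁻¹ * A * P) := by simp only [Matrix.mul_assoc]
  have e1 := congrFun (congrFun hME 0) 2
  have e2 := congrFun (congrFun hME 1) 2
  have e3 := congrFun (congrFun hME 2) 2
  have e4 := congrFun (congrFun hME 0) 1
  simp [Matrix.mul_apply, Fin.sum_univ_three, hE, Matrix.single_apply] at e1 e2 e3 e4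
  have hMr : M ^ 3 = c • 1 := by
    rw [hM, conj_pow' P A hdetP, hAr, Matrix.mul_smul, Matrix.smul_mul, Matrix.mul_one, hP2]
  have hdetM : M.det = 1 := by
    rw [hM, Matrix.det_mul, Matrix.det_mul, hdet, mul_one, ← Matrix.det_mul, hP2, Matrix.det_one]
  obtain ⟨α, hα⟩ : ∃ α, α = M 0 0 := ⟨_, rfl⟩
  obtain ⟨β, hβ⟩ : ∃ β, β = M 1 1 := ⟨_, rfl⟩
  obtain ⟨a, ha⟩ : ∃ a, a = M 0 1 := ⟨_, rfl⟩
  obtain ⟨b, hb⟩ : ∃ b, b = M 0 2 := ⟨_, rfl⟩
  obtain ⟨d, hd⟩ : ∃ d, d = M 1 2 := ⟨_, rfl⟩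
  have hMform : M = !![α, a, b; 0, β, d; 0, 0, α] := by
    ext i j
    fin_cases i <;> fin_cases j
    · exact hα.symm
    · exact ha.symm
    · exact hb.symm
    · exact e2
    · exact hβ.symm
    · exact hd.symm
    · exact e3
    · exact e4.symm
    · exact (e1.symm.trans hα.symm)
  rw [hMform] at hMr hdetM
  rw [Matrix.det_fin_three] at hdetM
  simp at hdetM
  have m00 := congrFun (congrFun hMr 0) 0
  have m11 := congrFun (congrFun hMr 1) 1
  have m01 := congrFun (congrFun hMr 0) 1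
  have m12 := congrFun (congrFun hMr 1) 2
  have m02 := congrFun (congrFun hMr 0) 2
  simp [pow_succ, Matrix.mul_apply, Fin.sum_univ_three] at m00 m11 m01 m12 m02
  have hα0 : α ≠ 0 := by
    rintro rfl
    simp at hdetM
  have hne : α ≠ β := by
    intro h
    subst h
    have h30 : (3 : F) * α * α ≠ 0 := mul_ne_zero (mul_ne_zero h3 hα0) hα0
    have ha0 : a = 0 := by
      have : (3 * α * α) * a = 0 := by linear_combination m01
      exact (mul_eq_zero.mp this).resolve_left h30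
    have hd0 : d = 0 := by
      have : (3 * α * α) * d = 0 := by linear_combination m12
      exact (mul_eq_zero.mp this).resolve_left h30
    have hb0 : b = 0 := by
      have : (3 * α * α) * b = 0 := by
        rw [ha0, hd0] at m02
        linear_combination m02
      exact (mul_eq_zero.mp this).resolve_left h30
    apply hA
    refine ⟨α, ?_⟩
    have hM2 : M = α • 1 := by
      rw [hMform, ha0, hb0, hd0]
      ext i j
      fin_cases i <;> fin_cases j <;> simp
    have hA2 : A = P * M * P⁻¹ := by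
      rw [hM]
      calc A = (P * P⁻¹) * A * (P * P⁻¹) := by rw [hP1]; simp
        _ = P * (P⁻¹ * A * P) * P⁻¹ := by simp only [Matrix.mul_assoc]
    rw [hA2, hM2]
    simp only [Matrix.mul_smul, Matrix.smul_mul, Matrix.mul_one, hP1]
  have hcube : α ^ 3 = β ^ 3 := by
    calc α ^ 3 = c := by rw [← m00]; ring
      _ = β ^ 3 := by rw [← m11]; ring
  have h9 : α ^ 9 = 1 := by
    calc α ^ 9 = α ^ 6 * α ^ 3 := by ring
      _ = α ^ 6 * β ^ 3 := by rw [hcube]
      _ = (α * β * α) ^ 3 := by ring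
      _ = 1 := by rw [hdetM, one_pow]
  have h31 : α ^ 3 ≠ 1 := by
    intro h
    apply hne
    have h5 : α * α * (β - α) = 0 := by linear_combination hdetM - h
    have h6 : α * α ≠ 0 := mul_ne_zero hα0 hα0
    have h7 := (mul_eq_zero.mp h5).resolve_left h6
    exact (sub_eq_zero.mp h7).symm
  let uu : Fˣ := Units.mk0 α hα0
  haveI : Fact (Nat.Prime 3) := ⟨Nat.prime_three⟩
  have hord : orderOf uu = 3 ^ (1 + 1) := by
    apply orderOf_eq_prime_pow
    · intro h
      apply h31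
      have := congrArg Units.val h
      simpa [uu] using this
    · apply Units.ext
      show (α) ^ (3 ^ (1 + 1)) = 1
      norm_num
      exact h9
  have hdvd := orderOf_dvd_natCard uu
  rw [hord, Nat.card_units, Nat.card_eq_fintype_card] at hdvd
  simpa using hdvd

/-- Existence for `k ≥ 2`. -/
theorem exists_of_k_ge_two {p r k : ℕ} [Fact p.Prime] [CharP F p] (hr : r.Prime) (hrp : r ≠ p) (hk1 : 1 ≤ k)
    (hkn : k + 2 ≤ n) (hrk : r ∣ Fintype.card F ^ k - 1) (hrq : ¬ r ∣ Fintype.card F - 1) :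
    ∃ y : Matrix.ProjectiveSpecialLinearGroup (Fin n) F, orderOf y = r * p := by
  have hpp : p.Prime := Fact.out
  obtain ⟨a, ha⟩ := exists_gl_of_dvd (F := F) (n := k) hk1 le_rfl hrk
  obtain ⟨u, hu⟩ := exists_gl_order_p (F := F) (p := p) (m := n - k) (by omega)
  have e : Fin k ⊕ Fin (n - k) ≃ Fin n := finSumFinEquiv.trans (finCongr (by omega))
  obtain ⟨g, hg⟩ := Singer.exists_orderOf_lcm e a u
  have hcopr : Nat.Coprime r p := (Nat.coprime_primes hr hpp).mpr hrp
  rw [ha, hu, hcopr.lcm_eq_mul] at hg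
  apply exists_psl_of_gl (by omega) g hg
  have hq2 : 2 ≤ Fintype.card F := Fintype.one_lt_card
  have hpq : p ∣ Fintype.card F := by
    obtain ⟨a, ha⟩ := FiniteField.card F p
    rw [ha.2]
    exact dvd_pow_self _ a.ne_zero
  apply Nat.Coprime.mul_left
  · exact hr.coprime_iff_not_dvd.mpr hrq
  · rw [hpp.coprime_iff_not_dvd]
    intro h
    have h1 : p ∣ Fintype.card F - (Fintype.card F - 1) := Nat.dvd_sub hpq h
    have h2 : Fintype.card F - (Fintype.card F - 1) = 1 := by omega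
    rw [h2] at h1
    exact hpp.one_lt.ne' (Nat.dvd_one.mp h1)

end Nonex

section Small

/-- Existence for `r ∣ q - 1` and `n ≥ 4`. -/
theorem exists_of_k_one {p r n : ℕ} [Fact p.Prime] [CharP F p] (hr : r.Prime) (hrF : (r : F) ≠ 0) (hn : 4 ≤ n)
    (hrq : r ∣ Fintype.card F - 1) :
    ∃ y : Matrix.ProjectiveSpecialLinearGroup (Fin n) F, orderOf y = r * p := by
  classical
  haveI : Fact r.Prime := ⟨hr⟩
  obtain ⟨γ, hγ⟩ := IsCyclic.exists_generator (α := Fˣ)
  have hγord : orderOf γ = Fintype.card F - 1 := by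
    rw [orderOf_eq_card_of_forall_mem_zpowers hγ, Nat.card_units, Nat.card_eq_fintype_card]
  have hγ0 : orderOf γ ≠ 0 := (orderOf_pos γ).ne'
  obtain ⟨ζ, hζ⟩ : ∃ ζ : Fˣ, orderOf ζ = r :=
    ⟨γ ^ (orderOf γ / r), orderOf_pow_orderOf_div hγ0 (hγord ▸ hrq)⟩
  have hζne : (ζ : F) ≠ 1 := by
    intro h
    have h1 : ζ = 1 := Units.ext h
    rw [h1, orderOf_one] at hζ
    exact hr.one_lt.ne hζ
  have hζr : (ζ : F) ^ r = 1 := by
    have := congrArg Units.val (show ζ ^ r = 1 by rw [← hζ]; exact pow_orderOf_eq_one ζ)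
    simpa using this
  let i₀ : Fin n := ⟨0, by omega⟩
  let i₁ : Fin n := ⟨1, by omega⟩
  let i₂ : Fin n := ⟨2, by omega⟩
  let i₃ : Fin n := ⟨3, by omega⟩
  have h01 : i₀ ≠ i₁ := by simp [i₀, i₁, Fin.ext_iff]
  have h23 : i₂ ≠ i₃ := by simp [i₂, i₃, Fin.ext_iff]
  have h02 : i₀ ≠ i₂ := by simp [i₀, i₂, Fin.ext_iff]
  have h03 : i₀ ≠ i₃ := by simp [i₀, i₃, Fin.ext_iff]
  have h12 : i₁ ≠ i₂ := by simp [i₁, i₂, Fin.ext_iff]
  have h13 : i₁ ≠ i₃ := by simp [i₁, i₃, Fin.ext_iff]
  let d : Fin n → F := fun i => if i = i₀ then (ζ : F) else if i = i₁ then (ζ : F)⁻¹ else 1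
  have hd0 : d i₀ = ζ := by simp [d]
  have hd1 : d i₁ = (ζ : F)⁻¹ := by simp [d, h01.symm]
  have hd2 : d i₂ = 1 := by simp [d, h02.symm, h12.symm]
  have hd3 : d i₃ = 1 := by simp [d, h03.symm, h13.symm]
  have hdother : ∀ c ∈ Finset.univ, c ≠ i₀ ∧ c ≠ i₁ → d c = 1 := by
    intro c _ hc
    simp [d, hc.1, hc.2]
  apply exists_of_diag (p := p) hr hrF d i₂ i₃ h23 (by rw [hd2, hd3])
    (by
      intro i
      simp only [d]
      split_ifs <;> simp)
    (by
      rw [Finset.prod_eq_mul i₀ i₁ h01 hdother (by simp) (by simp), hd0, hd1]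
      exact mul_inv_cancel₀ ζ.ne_zero)
    ⟨i₀, i₂, by rw [hd0, hd2]; exact hζne⟩ 1
  intro i
  simp only [d]
  split_ifs
  · exact hζr
  · rw [inv_pow, hζr, inv_one]
  · simp

/-- Existence for `n = 3`, given the element `b`. -/
theorem exists_of_three {p r : ℕ} [Fact p.Prime] [CharP F p] (hr : r.Prime) (hrF : (r : F) ≠ 0)
    (b : F) (hb0 : b ≠ 0) (hb3 : b ^ 3 ≠ 1) (c : F) (hb : (b ^ 2)⁻¹ ^ r = c ∧ b ^ r = c) :
    ∃ y : Matrix.ProjectiveSpecialLinearGroup (Fin 3) F, orderOf y = r * p := by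
  classical
  let d : Fin 3 → F := ![(b ^ 2)⁻¹, b, b]
  apply exists_of_diag (p := p) hr hrF d 1 2 (by decide) rfl
    (by
      intro i
      fin_cases i <;> simp [d, hb0])
    (by
      rw [Fin.prod_univ_three]
      simp [d]
      field_simp)
    ⟨0, 1, by
      simp only [d]
      intro h
      apply hb3
      have h1 : (b ^ 2)⁻¹ = b := h
      have h2 : b ^ 2 ≠ 0 := pow_ne_zero 2 hb0
      field_simp at h1
      rw [← h1]⟩ c
  intro i
  fin_cases i
  · exact hb.1
  · exact hb.2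
  · exact hb.2

end Small

/-- Commuting elements of order `p` and order `s` with `s` of large multiplicative order. -/
theorem plus_two_of_commute {p s l n : ℕ} [Fact p.Prime] [CharP F p] (hn : 1 ≤ n) (hs : s.Prime) (hsF : (s : F) ≠ 0)
    (hl2 : 2 ≤ l) (hl : ∀ d, 1 ≤ d → s ∣ Fintype.card F ^ d - 1 → l ≤ d) (hsq : ¬ s ∣ Fintype.card F - 1)
    (a b : Matrix.ProjectiveSpecialLinearGroup (Fin n) F) (ha : orderOf a = p) (hb : orderOf b = s) (hab : Commute a b) :
    l + 2 ≤ n := by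
  classical
  have hpp : p.Prime := Fact.out
  haveI : Nonempty (Fin n) := ⟨⟨0, hn⟩⟩
  obtain ⟨x, rfl⟩ := cls_surjective a
  obtain ⟨y, rfl⟩ := cls_surjective b
  set X : Matrix (Fin n) (Fin n) F := (x : Matrix (Fin n) (Fin n) F) with hX
  set Y₁ : Matrix (Fin n) (Fin n) F := (y : Matrix (Fin n) (Fin n) F) with hY₁
  have hXdet : X.det = 1 := x.2
  have hY₁det : Y₁.det = 1 := y.2
  set q := Fintype.card F with hq
  -- the commutator is a scalar
  obtain ⟨c, hc⟩ : ∃ c : F, X * Y₁ = c • (Y₁ * X) := by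
    have h1 : cls ((y * x)⁻¹ * (x * y)) = 1 := by
      have h2 : cls (x * y) = cls (y * x) := hab.eq
      show (cls (y * x))⁻¹ * cls (x * y) = 1
      rw [h2, inv_mul_cancel]
    obtain ⟨c, hc⟩ := (cls_eq_one_iff _).mp h1
    refine ⟨c, ?_⟩
    have h3 : ((x * y : Matrix.SpecialLinearGroup (Fin n) F) : Matrix (Fin n) (Fin n) F) =
        ((y * x : Matrix.SpecialLinearGroup (Fin n) F) : Matrix (Fin n) (Fin n) F) *
          (((y * x)⁻¹ * (x * y) : Matrix.SpecialLinearGroup (Fin n) F) : Matrix (Fin n) (Fin n) F) := by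
      rw [← Matrix.SpecialLinearGroup.coe_mul, mul_inv_cancel_left]
    rw [hc, Matrix.mul_smul, Matrix.mul_one] at h3
    exact h3
  have hc0 : c ≠ 0 := by
    rintro rfl
    rw [zero_smul] at hc
    have h1 := congrArg Matrix.det hc
    rw [Matrix.det_mul, hXdet, hY₁det, Matrix.det_zero, mul_one] at h1
    exact one_ne_zero h1
  have hXYpow : ∀ j : ℕ, X * Y₁ ^ j = c ^ j • (Y₁ ^ j * X) := by
    intro j
    induction j with
    | zero => simp
    | succ j ih =>
      rw [pow_succ, ← Matrix.mul_assoc, ih, Matrix.smul_mul, Matrix.mul_assoc, hc, Matrix.mul_smul, smul_smul,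
        ← Matrix.mul_assoc, pow_succ c]
  set Y := Y₁ ^ (q - 1) with hY
  have hXY : X * Y = Y * X := by
    rw [hY, hXYpow, FiniteField.pow_card_sub_one_eq_one c hc0, one_smul]
  -- the power of `Y`
  obtain ⟨c', hc'⟩ := (cls_pow_eq_one_iff y _).mp (show cls y ^ s = 1 by rw [← hb]; exact pow_orderOf_eq_one _)
  have hc'0 : c' ≠ 0 := by
    rintro rfl
    rw [zero_smul] at hc'
    have h1 := congrArg Matrix.det hc'
    rw [Matrix.det_pow, hY₁det, one_pow, Matrix.det_zero] at h1
    exact one_ne_zero h1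
  have hYs : Y ^ s = 1 := by
    rw [hY, ← pow_mul, mul_comm, pow_mul]
    rw [show (y : Matrix (Fin n) (Fin n) F) = Y₁ from rfl] at hc'
    rw [hc', _root_.smul_pow, one_pow, FiniteField.pow_card_sub_one_eq_one c' hc'0, one_smul]
  have hY1 : Y ≠ 1 := by
    intro h
    apply hsq
    rw [← hb]
    apply orderOf_dvd_of_pow_eq_one
    rw [cls_pow_eq_one_iff]
    exact ⟨1, by rw [one_smul]; exact h⟩
  -- the nilpotent element
  obtain ⟨c'', hc''⟩ := (cls_pow_eq_one_iff x _).mp (show cls x ^ p = 1 by rw [← ha]; exact pow_orderOf_eq_one _)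
  obtain ⟨e, he⟩ : ∃ e : F, e ^ p = c'' := ⟨(frobeniusEquiv F p).symm c'', by
    have := (frobeniusEquiv F p).apply_symm_apply c''
    simpa [frobeniusEquiv_apply, frobenius_def] using this⟩
  set N₀ : Matrix (Fin n) (Fin n) F := X - e • 1 with hN₀
  have hcomm : Commute X (e • (1 : Matrix (Fin n) (Fin n) F)) := by
    apply Commute.smul_right
    exact Commute.one_right _
  have hN₀p : N₀ ^ p = 0 := by
    rw [hN₀, sub_pow_char_of_commute p hcomm]
    rw [show X ^ p = c'' • 1 from hc'', _root_.smul_pow, one_pow, he, sub_self]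
  have hN₀0 : N₀ ≠ 0 := by
    intro h
    have h1 : X = e • 1 := sub_eq_zero.mp h
    have h2 : cls x = 1 := (cls_eq_one_iff x).mpr ⟨e, h1⟩
    rw [h2, orderOf_one] at ha
    exact hpp.one_lt.ne ha
  obtain ⟨j, hj1, hj2⟩ := exists_sq_zero N₀ hN₀0 p hN₀p
  have hYN : Y * N₀ ^ j = N₀ ^ j * Y := by
    have h1 : Commute Y N₀ := by
      rw [hN₀]
      apply Commute.sub_right
      · exact hXY.symm
      · apply Commute.smul_right
        exact Commute.one_right _
    exact (h1.pow_right j).eq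
  have h := plus_two (F := F) (V := Fin n → F) hs hsF hl2 hl (Matrix.mulVecLin Y) (Matrix.mulVecLin (N₀ ^ j))
    (by
      rw [← mulVecLin_pow, hYs]
      exact LinearMap.ext fun v => by simp)
    (by
      intro h1
      apply hY1
      apply mulVecLin_inj (F := F)
      rw [h1]
      exact LinearMap.ext fun v => by simp)
    (by
      intro h1
      apply hj1
      apply mulVecLin_inj (F := F)
      rw [h1]
      exact LinearMap.ext fun v => by simp)
    (by
      intro v
      show (N₀ ^ j) *ᵥ ((N₀ ^ j) *ᵥ v) = 0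
      rw [Matrix.mulVec_mulVec, hj2, Matrix.zero_mulVec])
    (by
      intro v
      show Y *ᵥ ((N₀ ^ j) *ᵥ v) = (N₀ ^ j) *ᵥ (Y *ᵥ v)
      rw [Matrix.mulVec_mulVec, Matrix.mulVec_mulVec, hYN])
  rwa [Module.finrank_fin_fun] at h

end Cfsg.Agent.Lib.KS2.PGraphP
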