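import Mathlib
import Cfsg.Agent.Lib.KS2.IsoSU
import Cfsg.Agent.Lib.Classical.UnitaryCount
import Cfsg.Agent.Lib.KS2.SSConj

/-!
Involutions of `SU₃(q)`, `q` odd: reflections in unit vectors.
-/

set_option autoImplicit false
set_option linter.unusedSectionVars false
set_option linter.unusedVariables false

namespace Cfsg.Agent.Lib.KS2.SU3Inv

open Matrix Polynomial Cfsg.Agent.Lib.Classical

variable {F : Type*} [Field F] [Fintype F] {q : ℕ}

lemma two_ne (hF : Fintype.card F = q ^ 2) (hq : Odd q) : (2 : F) ≠ 0 := by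
  intro h2
  have hc : ringChar F = 2 := by
    have : CharP F 2 := by
      obtain ⟨p, hp⟩ := CharP.exists F
      have hdvd : p ∣ 2 := (CharP.cast_eq_zero_iff F p 2).mp (by exact_mod_cast h2)
      have hp' : p.Prime := by
        have := CharP.char_is_prime_or_zero F p
        rcases this with h | h
        · exact h
        · subst h
          simp at hdvd
      have := (Nat.prime_dvd_prime_iff_eq hp' Nat.prime_two).mp hdvd
      subst this
      exact hp
    exact ringChar.eq F 2
  have := FiniteField.even_card_of_char_two hc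
  rw [hF] at this
  have hodd : Odd (q ^ 2) := hq.pow
  exact (Nat.not_even_iff_odd.mpr hodd) (Nat.even_iff.mpr this)

/-- Shorthand. -/
abbrev H (F : Type*) [Field F] (q : ℕ) (u v : Fin 3 → F) : F := Cfsg.hermForm 3 F q u v

lemma H_eq (u v : Fin 3 → F) : H F q u v = u 0 * (v 0) ^ q + u 1 * (v 1) ^ q + u 2 * (v 2) ^ q := by
  simp [H, Cfsg.hermForm, Fin.sum_univ_three]

/-- The matrix of the involution attached to `v`. -/
def tM (q : ℕ) (v : Fin 3 → F) : Matrix (Fin 3) (Fin 3) F :=
  Matrix.of fun i j => 2 * v i * (v j) ^ q - if i = j then 1 else 0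

lemma tM_mulVec (v u : Fin 3 → F) : tM q v *ᵥ u = (2 * H F q u v) • v - u := by
  ext i
  simp only [Matrix.mulVec, dotProduct, Fin.sum_univ_three, tM, Matrix.of_apply, Pi.sub_apply, Pi.smul_apply, smul_eq_mul,
    H_eq]
  fin_cases i <;> simp <;> ring

lemma det_tM (v : Fin 3 → F) (hv : H F q v v = 1) : (tM q v).det = 1 := by
  rw [H_eq] at hv
  rw [Matrix.det_fin_three]
  simp only [tM, Matrix.of_apply]
  simp
  linear_combination 2 * hv

lemma H_sub_left (hF : Fintype.card F = q ^ 2) (x x' y : Fin 3 → F) :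
    H F q (x - x') y = H F q x y - H F q x' y := by
  simp only [H_eq, Pi.sub_apply]
  ring

lemma H_sub_right (hF : Fintype.card F = q ^ 2) (x y y' : Fin 3 → F) :
    H F q x (y - y') = H F q x y - H F q x y' := by
  simp only [H_eq, Pi.sub_apply, conjQ_sub hF]
  ring

lemma H_add_left (hF : Fintype.card F = q ^ 2) (x x' y : Fin 3 → F) :
    H F q (x + x') y = H F q x y + H F q x' y := hermForm_add_left hF x x' y

lemma H_add_right (hF : Fintype.card F = q ^ 2) (x y y' : Fin 3 → F) :
    H F q x (y + y') = H F q x y + H F q x y' := hermForm_add_right hF x y y'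

lemma H_smul_left (c : F) (x y : Fin 3 → F) : H F q (c • x) y = c * H F q x y := hermForm_smul_left c x y

lemma H_smul_right (c : F) (x y : Fin 3 → F) : H F q x (c • y) = c ^ q * H F q x y := hermForm_smul_right c x y

lemma H_symm (hF : Fintype.card F = q ^ 2) (x y : Fin 3 → F) : (H F q x y) ^ q = H F q y x := hermForm_symm hF x y

lemma H_self_q (hF : Fintype.card F = q ^ 2) (x : Fin 3 → F) : (H F q x x) ^ q = H F q x x := hermForm_symm hF x x

lemma H_tM (hF : Fintype.card F = q ^ 2) (v : Fin 3 → F) (hv : H F q v v = 1) (a b : Fin 3 → F) :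
    H F q (tM q v *ᵥ a) (tM q v *ᵥ b) = H F q a b := by
  rw [tM_mulVec, tM_mulVec, H_sub_left hF, H_sub_right hF, H_sub_right hF, H_smul_left, H_smul_left, H_smul_right, H_smul_right, hv,
    mul_pow, H_symm hF b v, ← H_symm hF v a]
  have h2 : ((2 : F)) ^ q = 2 := by
    have := map_ofNat (conjQ hF) 2
    simpa using this
  rw [h2, H_symm hF v a]
  ring

/-- The involution as an element of `SU₃`. -/
def tE (hF : Fintype.card F = q ^ 2) (v : Fin 3 → F) (hv : H F q v v = 1) : Cfsg.SU 3 F q :=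
  ⟨⟨tM q v, det_tM v hv⟩, fun a b => H_tM hF v hv a b⟩

/-- The matrix of an element of `SU₃`. -/
abbrev mat (x : Cfsg.SU 3 F q) : Matrix (Fin 3) (Fin 3) F :=
  ((x : Matrix.SpecialLinearGroup (Fin 3) F) : Matrix (Fin 3) (Fin 3) F)

lemma mat_mul (x y : Cfsg.SU 3 F q) : mat (x * y) = mat x * mat y := rfl

lemma mat_one : mat (1 : Cfsg.SU 3 F q) = 1 := rfl

lemma mat_inj {x y : Cfsg.SU 3 F q} (h : mat x = mat y) : x = y := Subtype.ext (Subtype.ext h)

lemma mat_tE (hF : Fintype.card F = q ^ 2) (v : Fin 3 → F) (hv : H F q v v = 1) : mat (tE hF v hv) = tM q v := rfl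

lemma H_mat (x : Cfsg.SU 3 F q) (a b : Fin 3 → F) : H F q (mat x *ᵥ a) (mat x *ᵥ b) = H F q a b := x.2 a b

lemma tE_ext (hF : Fintype.card F = q ^ 2) {x : Cfsg.SU 3 F q} {v : Fin 3 → F} (hv : H F q v v = 1)
    (h : ∀ u, mat x *ᵥ u = (2 * H F q u v) • v - u) : x = tE hF v hv := by
  apply mat_inj
  rw [mat_tE]
  apply Matrix.ext_of_mulVec_single
  intro i
  rw [h, tM_mulVec]

lemma tE_apply (hF : Fintype.card F = q ^ 2) (v : Fin 3 → F) (hv : H F q v v = 1) (u : Fin 3 → F) :
    mat (tE hF v hv) *ᵥ u = (2 * H F q u v) • v - u := tM_mulVec v u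

lemma tE_mul_self (hF : Fintype.card F = q ^ 2) (v : Fin 3 → F) (hv : H F q v v = 1) :
    tE hF v hv * tE hF v hv = 1 := by
  apply mat_inj
  apply Matrix.ext_of_mulVec_single
  intro i
  rw [mat_mul, ← Matrix.mulVec_mulVec, tE_apply hF, tE_apply hF, H_sub_left hF, H_smul_left, hv, mat_one, Matrix.one_mulVec]
  ext k
  simp only [Pi.sub_apply, Pi.smul_apply, smul_eq_mul]
  ring

lemma tE_ne_one (hF : Fintype.card F = q ^ 2) (hq : Odd q) (v : Fin 3 → F) (hv : H F q v v = 1) : tE hF v hv ≠ 1 := by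
  intro h
  have h1 := congrArg Matrix.trace (congrArg mat h)
  rw [mat_tE, mat_one, Matrix.trace_fin_three, Matrix.trace_fin_three] at h1
  rw [H_eq] at hv
  simp [tM] at h1
  have h4 : (2 : F) * 2 = 0 := by linear_combination (-1 : F) * h1 + 2 * hv
  exact (mul_ne_zero (two_ne hF hq) (two_ne hF hq)) h4

/-- Classification of involutions. -/
theorem exists_unit (hF : Fintype.card F = q ^ 2) (hq : Odd q) (x : Cfsg.SU 3 F q) (hx : x ≠ 1) (hx2 : x * x = 1) :
    ∃ (v : Fin 3 → F) (hv : H F q v v = 1), x = tE hF v hv := by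
  classical
  have h2 := two_ne hF hq
  set M := mat x with hM
  have hMM : M * M = 1 := congrArg mat hx2
  have hMv : ∀ u, M *ᵥ (M *ᵥ u) = u := by
    intro u
    rw [Matrix.mulVec_mulVec, hMM, Matrix.one_mulVec]
  let T : Module.End F (Fin 3 → F) := Matrix.toLin' M
  have hT : ∀ u, T u = M *ᵥ u := fun u => Matrix.toLin'_apply M u
  let Vp : Submodule F (Fin 3 → F) := LinearMap.ker (T - 1)
  let Vm : Submodule F (Fin 3 → F) := LinearMap.ker (T + 1)
  have hVp : ∀ u, u ∈ Vp ↔ M *ᵥ u = u := by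
    intro u
    change (T - 1) u = 0 ↔ _
    simp [hT, sub_eq_zero]
  have hVm : ∀ u, u ∈ Vm ↔ M *ᵥ u = -u := by
    intro u
    change (T + 1) u = 0 ↔ _
    simp [hT, add_eq_zero_iff_eq_neg]
  have hc : IsCompl Vp Vm := by
    constructor
    · rw [Submodule.disjoint_def]
      intro u h1 h3
      rw [hVp] at h1
      rw [hVm] at h3
      have h4 : (2 : F) • u = 0 := by
        rw [two_smul]
        nth_rw 1 [← h1]
        rw [h3]
        simp
      exact (smul_eq_zero.mp h4).resolve_left h2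
    · rw [codisjoint_iff, eq_top_iff]
      intro u _
      have h4 : u = (2 : F)⁻¹ • (u + M *ᵥ u) + (2 : F)⁻¹ • (u - M *ᵥ u) := by
        ext k
        simp only [Pi.add_apply, Pi.smul_apply, Pi.sub_apply, smul_eq_mul]
        field_simp
        ring
      rw [h4]
      apply Submodule.add_mem_sup
      · rw [hVp, Matrix.mulVec_smul, Matrix.mulVec_add, hMv, add_comm]
      · rw [hVm, Matrix.mulVec_smul, Matrix.mulVec_sub, hMv, ← smul_neg, neg_sub]
  have hip : ∀ v ∈ Vp, T v ∈ Vp := by
    intro v hv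
    rw [hT, (hVp v).mp hv]
    exact hv
  have him : ∀ v ∈ Vm, T v ∈ Vm := by
    intro v hv
    rw [hT, (hVm v).mp hv]
    exact Vm.neg_mem hv
  have hχ := SSConj.charpoly_isCompl T Vp Vm hc hip him
  have h5 : T.restrict hip = 1 := by
    refine LinearMap.ext fun v => Subtype.ext ?_
    change T v.1 = v.1
    rw [hT]
    exact (hVp _).mp v.2
  have h6 : T.restrict him = 1 - (2 : F) • 1 := by
    refine LinearMap.ext fun v => Subtype.ext ?_
    change T v.1 = v.1 - (2 : F) • v.1
    rw [hT, (hVm _).mp v.2]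
    ext k
    simp only [Pi.neg_apply, Pi.sub_apply, Pi.smul_apply, smul_eq_mul]
    ring
  have h7 : (T.restrict him).charpoly = (X + 1) ^ Module.finrank F Vm := by
    rw [h6, LinearMap.charpoly_sub_smul, LinearMap.charpoly_one]
    simp only [Polynomial.pow_comp, Polynomial.sub_comp, Polynomial.X_comp, Polynomial.one_comp]
    congr 1
    have : (C (2 : F) : F[X]) = 2 := map_ofNat C 2
    rw [this]
    ring
  rw [h5, h7, LinearMap.charpoly_one] at hχ
  have hdim : Module.finrank F Vp + Module.finrank F Vm = 3 := by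
    have := Submodule.finrank_add_eq_of_isCompl hc
    simpa using this
  have hχ' : M.charpoly = (X - 1) ^ Module.finrank F Vp * (X + 1) ^ Module.finrank F Vm := by
    rw [← Matrix.charpoly_toLin' M]
    exact hχ
  -- the determinant
  have hdet : M.det = 1 := x.1.2
  have hev : Even (Module.finrank F Vm) := by
    have h8 := Matrix.det_eq_sign_charpoly_coeff M
    rw [hχ', hdet, Polynomial.coeff_zero_eq_eval_zero, Polynomial.eval_mul, Polynomial.eval_pow, Polynomial.eval_pow,
      Fintype.card_fin] at h8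
    simp only [Polynomial.eval_sub, Polynomial.eval_add, Polynomial.eval_X, Polynomial.eval_one, zero_sub, zero_add,
      one_pow, mul_one] at h8
    by_contra hodd
    have hodd' : Odd (Module.finrank F Vm) := Nat.not_even_iff_odd.mp hodd
    have hpar : Odd (Module.finrank F Vp) ∨ Even (Module.finrank F Vp) := (Nat.even_or_odd _).symm
    have h9 : Even (Module.finrank F Vp) := by
      rcases hpar with h | h
      · exfalso
        have := h.add_odd hodd'
        rw [hdim] at this
        exact absurd this (by decide)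
      · exact h
    have h10 : ((-1 : F)) ^ 3 * ((-1) ^ Module.finrank F Vp) = -1 := by
      rw [h9.neg_one_pow]
      norm_num
    rw [h10] at h8
    apply h2
    linear_combination h8
  have hne : Module.finrank F Vm ≠ 0 := by
    intro h0
    apply hx
    have h11 : Vm = ⊥ := Submodule.finrank_eq_zero.mp h0
    have h12 : Vp = ⊤ := by
      have := hc.sup_eq_top
      rwa [h11, sup_bot_eq] at this
    apply mat_inj
    rw [mat_one]
    apply Matrix.ext_of_mulVec_single
    intro i
    rw [Matrix.one_mulVec]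
    exact (hVp _).mp (h12 ▸ Submodule.mem_top)
  have hVm2 : Module.finrank F Vm = 2 := by
    obtain ⟨k, hk⟩ := hev
    omega
  have hVp1 : Module.finrank F Vp = 1 := by omega
  obtain ⟨⟨w₀, hw₀p⟩, hw₀ne, hw₀⟩ := finrank_eq_one_iff'.mp hVp1
  have hw₀ne' : w₀ ≠ 0 := fun h => hw₀ne (Subtype.ext h)
  have hspan : ∀ u ∈ Vp, ∃ c : F, u = c • w₀ := by
    intro u hu
    obtain ⟨c, hc⟩ := hw₀ ⟨u, hu⟩
    exact ⟨c, (congrArg Subtype.val hc).symm⟩
  have hMw₀ : M *ᵥ w₀ = w₀ := (hVp _).mp hw₀p
  have hperp : ∀ u ∈ Vm, H F q u w₀ = 0 := by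
    intro u hu
    have h1 := H_mat x u w₀
    rw [← hM, hMw₀, (hVm u).mp hu] at h1
    have h3 : H F q (-u) w₀ = - H F q u w₀ := by
      simp only [H_eq, Pi.neg_apply]
      ring
    rw [h3] at h1
    have h4 : (2 : F) * H F q u w₀ = 0 := by linear_combination -h1
    exact (mul_eq_zero.mp h4).resolve_left h2
  have hdecomp : ∀ u : Fin 3 → F, ∃ c : F, ∃ u' ∈ Vm, u = c • w₀ + u' := by
    intro u
    have : u ∈ Vp ⊔ Vm := by
      rw [hc.sup_eq_top]
      exact Submodule.mem_top
    obtain ⟨a, ha, b, hb, rfl⟩ := Submodule.mem_sup.mp this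
    obtain ⟨c, rfl⟩ := hspan a ha
    exact ⟨c, b, hb, rfl⟩
  have hH0 : H F q w₀ w₀ ≠ 0 := by
    intro h0
    apply hw₀ne'
    apply hermForm_nondeg_right hF
    intro u
    obtain ⟨c, u', hu', rfl⟩ := hdecomp u
    change H F q (c • w₀ + u') w₀ = 0
    have h1 : H F q (c • w₀ + u') w₀ = c * H F q w₀ w₀ + H F q u' w₀ := by
      rw [H_add_left hF, H_smul_left]
    rw [h1, h0, hperp u' hu']
    ring
  obtain ⟨a, ha0, ha⟩ := exists_norm_eq hF (inv_ne_zero hH0) (by rw [inv_pow, H_self_q hF])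
  set w := a • w₀ with hw
  have hww : H F q w w = 1 := by
    rw [hw, H_smul_left, H_smul_right]
    have : a * (a ^ q * H F q w₀ w₀) = a ^ (q + 1) * H F q w₀ w₀ := by ring
    rw [this, ha, inv_mul_cancel₀ hH0]
  refine ⟨w, hww, ?_⟩
  apply tE_ext hF hww
  intro u
  obtain ⟨c, u', hu', rfl⟩ := hdecomp u
  have h1 : H F q (c • w₀ + u') w = c * (a ^ q * H F q w₀ w₀) := by
    rw [H_add_left hF, hw, H_smul_left, H_smul_right, H_smul_right, hperp u' hu']
    ring
  rw [h1, ← hM, Matrix.mulVec_add, Matrix.mulVec_smul, hMw₀, (hVm u').mp hu', hw]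
  have h3 : a * (a ^ q * H F q w₀ w₀) = 1 := by
    have : a * (a ^ q * H F q w₀ w₀) = a ^ (q + 1) * H F q w₀ w₀ := by ring
    rw [this, ha, inv_mul_cancel₀ hH0]
  ext k
  simp only [Pi.add_apply, Pi.smul_apply, Pi.neg_apply, Pi.sub_apply, smul_eq_mul]
  linear_combination (-2 * c * w₀ k) * h3

end Cfsg.Agent.Lib.KS2.SU3Inv
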