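import Mathlib
import Cfsg.Agent.Lib.KS2.SU3Inv

/-!
Involutions of `SU₃(q)`, `q` odd: commutation, coincidences, cross products.
-/

set_option autoImplicit false
set_option linter.unusedSectionVars false
set_option linter.unusedVariables false

namespace Cfsg.Agent.Lib.KS2.SU3Inv

open Matrix Polynomial Cfsg.Agent.Lib.Classical

variable {F : Type*} [Field F] [Fintype F] {q : ℕ}

lemma tE_eq_of (hF : Fintype.card F = q ^ 2) (v w : Fin 3 → F) (hv : H F q v v = 1) (hw : H F q w w = 1) {c : F}
    (hc : c ^ (q + 1) = 1) (hcw : w = c • v) : tE hF w hw = tE hF v hv := by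
  subst hcw
  symm
  apply tE_ext hF
  intro u
  rw [tE_apply hF, H_smul_right]
  ext k
  simp only [Pi.sub_apply, Pi.smul_apply, smul_eq_mul]
  rw [pow_succ] at hc
  linear_combination (2 * H F q u v * v k) * (1 - hc)

lemma eq_smul_of_tE_eq (hF : Fintype.card F = q ^ 2) (hq : Odd q) (v w : Fin 3 → F) (hv : H F q v v = 1)
    (hw : H F q w w = 1) (h : tE hF v hv = tE hF w hw) : v = H F q v w • w := by
  have h2 := two_ne hF hq
  have h1 := congrArg (fun x => mat x *ᵥ v) h
  simp only [tE_apply hF, hv] at h1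
  ext k
  have h3 := congrFun h1 k
  simp only [Pi.sub_apply, Pi.smul_apply, smul_eq_mul] at h3 ⊢
  have h4 : (2 : F) * (v k - H F q v w * w k) = 0 := by linear_combination h3
  have := (mul_eq_zero.mp h4).resolve_left h2
  linear_combination this

lemma H_smul_eq (hF : Fintype.card F = q ^ 2) {v w : Fin 3 → F} (hw : H F q w w = 1) {c : F} (h : v = c • w) :
    H F q v w = c := by
  rw [h, H_smul_left, hw, mul_one]

theorem tE_eq_iff (hF : Fintype.card F = q ^ 2) (hq : Odd q) (v w : Fin 3 → F) (hv : H F q v v = 1) (hw : H F q w w = 1) :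
    tE hF w hw = tE hF v hv ↔ ∃ c : F, c ^ (q + 1) = 1 ∧ w = c • v := by
  constructor
  · intro h
    have h1 := eq_smul_of_tE_eq hF hq w v hw hv h
    refine ⟨H F q w v, ?_, h1⟩
    have h2 : H F q w w = H F q w v * ((H F q w v) ^ q * H F q v v) := by
      nth_rw 1 [h1]
      nth_rw 2 [h1]
      rw [H_smul_left, H_smul_right]
    rw [hv, hw] at h2
    rw [pow_succ]
    linear_combination -h2
  · rintro ⟨c, hc, hcw⟩
    exact tE_eq_of hF v w hv hw hc hcw

theorem tE_comm_iff (hF : Fintype.card F = q ^ 2) (hq : Odd q) (v w : Fin 3 → F) (hv : H F q v v = 1) (hw : H F q w w = 1) :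
    Commute (tE hF v hv) (tE hF w hw) ↔ tE hF v hv = tE hF w hw ∨ H F q v w = 0 := by
  have h2 := two_ne hF hq
  constructor
  · intro h
    have h1 := congrArg (fun x => mat x *ᵥ w) h.eq
    simp only [mat_mul, ← Matrix.mulVec_mulVec, tE_apply hF] at h1
    simp only [H_sub_left hF, H_smul_left, hw] at h1
    by_cases h0 : H F q w v = 0
    · right
      rw [← H_symm hF w v, h0]
      have := one_lt_q hF
      exact zero_pow (by omega)
    · left
      have h3 : v = H F q v w • w := by
        ext k
        have h4 := congrFun h1 k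
        simp only [Pi.sub_apply, Pi.smul_apply, smul_eq_mul] at h4 ⊢
        have h5 : (2 * 2 * H F q w v) * (v k - H F q v w * w k) = 0 := by
          linear_combination h4
        have h6 := (mul_eq_zero.mp h5).resolve_left (mul_ne_zero (mul_ne_zero h2 h2) h0)
        linear_combination h6
      have hN : (H F q v w) ^ (q + 1) = 1 := by
        have h7 : H F q v v = H F q v w * ((H F q v w) ^ q * H F q w w) := by
          nth_rw 1 [h3]
          nth_rw 2 [h3]
          rw [H_smul_left, H_smul_right]
        rw [hv, hw] at h7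
        rw [pow_succ]
        linear_combination -h7
      exact tE_eq_of hF w v hw hv hN h3
  · rintro (h | h)
    · rw [h]
    · have h' : H F q w v = 0 := by
        rw [← H_symm hF v w, h]
        have := one_lt_q hF
        exact zero_pow (by omega)
      change _ * _ = _ * _
      apply mat_inj
      apply Matrix.ext_of_mulVec_single
      intro i
      simp only [mat_mul, ← Matrix.mulVec_mulVec, tE_apply hF]
      rw [H_sub_left hF, H_smul_left, H_sub_left hF, H_smul_left, h, h']
      ext k
      simp only [Pi.sub_apply, Pi.smul_apply, smul_eq_mul]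
      ring

/-- The conjugate-cross product. -/
def cross (q : ℕ) (v w : Fin 3 → F) : Fin 3 → F :=
  ![(v 1 * w 2 - v 2 * w 1) ^ q, (v 2 * w 0 - v 0 * w 2) ^ q, (v 0 * w 1 - v 1 * w 0) ^ q]

lemma H_cross_left (hF : Fintype.card F = q ^ 2) (v w : Fin 3 → F) : H F q v (cross q v w) = 0 := by
  simp only [H_eq, cross, pow_q_pow_q hF, Matrix.cons_val_zero, Matrix.cons_val_one, Matrix.cons_val]
  ring

lemma H_cross_right (hF : Fintype.card F = q ^ 2) (v w : Fin 3 → F) : H F q w (cross q v w) = 0 := by
  simp only [H_eq, cross, pow_q_pow_q hF, Matrix.cons_val_zero, Matrix.cons_val_one, Matrix.cons_val]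
  ring

lemma H_cross_self (hF : Fintype.card F = q ^ 2) (v w : Fin 3 → F) :
    H F q (cross q v w) (cross q v w) = H F q v v * H F q w w - H F q v w * H F q w v := by
  simp only [H_eq, cross, pow_q_pow_q hF, Matrix.cons_val_zero, Matrix.cons_val_one, Matrix.cons_val, conjQ_sub hF, mul_pow]
  ring

/-- Orthonormal triples span. -/
lemma frame_expand (hF : Fintype.card F = q ^ 2) (e : Fin 3 → Fin 3 → F)
    (he : ∀ i j, H F q (e i) (e j) = if i = j then 1 else 0) (u : Fin 3 → F) :
    u = H F q u (e 0) • e 0 + H F q u (e 1) • e 1 + H F q u (e 2) • e 2 := by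
  let A : Matrix (Fin 3) (Fin 3) F := Matrix.of fun i j => e j i
  let B : Matrix (Fin 3) (Fin 3) F := Matrix.of fun i j => (e i j) ^ q
  have hBA : B * A = 1 := by
    ext i j
    have := he j i
    simp only [H_eq] at this
    simp only [Matrix.mul_apply, Fin.sum_univ_three, A, B, Matrix.of_apply, Matrix.one_apply]
    rw [show ((if i = j then (1 : F) else 0)) = if j = i then 1 else 0 by simp [eq_comm], ← this]
    ring
  have hAB : A * B = 1 := mul_eq_one_comm.mp hBA
  ext k
  have h1 := congrArg (fun M : Matrix (Fin 3) (Fin 3) F => (M *ᵥ u) k) hAB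
  simp only [Matrix.one_mulVec, ← Matrix.mulVec_mulVec] at h1
  rw [← h1]
  simp only [Matrix.mulVec, dotProduct, Fin.sum_univ_three, A, B, Matrix.of_apply, Pi.add_apply, Pi.smul_apply, smul_eq_mul, H_eq]
  ring

/-- Scale a non-isotropic vector to a unit vector. -/
lemma exists_scale (hF : Fintype.card F = q ^ 2) (z : Fin 3 → F) (hz : H F q z z ≠ 0) :
    ∃ a : F, a ≠ 0 ∧ H F q (a • z) (a • z) = 1 := by
  obtain ⟨a, ha0, ha⟩ := exists_norm_eq hF (inv_ne_zero hz) (by rw [inv_pow, H_self_q hF])
  refine ⟨a, ha0, ?_⟩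
  rw [H_smul_left, H_smul_right]
  have : a * (a ^ q * H F q z z) = a ^ (q + 1) * H F q z z := by ring
  rw [this, ha, inv_mul_cancel₀ hz]

/-- The unit vector perpendicular to two vectors spanning a nondegenerate plane. -/
lemma exists_perp (hF : Fintype.card F = q ^ 2) (v w : Fin 3 → F)
    (h : H F q v v * H F q w w - H F q v w * H F q w v ≠ 0) :
    ∃ z : Fin 3 → F, H F q z z = 1 ∧ H F q v z = 0 ∧ H F q w z = 0 := by
  have h1 : H F q (cross q v w) (cross q v w) ≠ 0 := by rwa [H_cross_self hF]
  obtain ⟨a, ha0, ha⟩ := exists_scale hF _ h1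
  refine ⟨_, ha, ?_, ?_⟩
  · rw [H_smul_right, H_cross_left hF, mul_zero]
  · rw [H_smul_right, H_cross_right hF, mul_zero]

/-- `H` of orthogonal vectors vanishes in the other order. -/
lemma H_flip (hF : Fintype.card F = q ^ 2) {v w : Fin 3 → F} (h : H F q v w = 0) : H F q w v = 0 := by
  rw [← H_symm hF v w, h]
  have := one_lt_q hF
  exact zero_pow (by omega)

/-- Uniqueness of the third vector of an orthonormal frame. -/
lemma third_unique (hF : Fintype.card F = q ^ 2) (v w z u : Fin 3 → F) (hv : H F q v v = 1) (hw : H F q w w = 1)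
    (hz : H F q z z = 1) (hvw : H F q v w = 0) (hvz : H F q v z = 0) (hwz : H F q w z = 0) (huv : H F q u v = 0)
    (huw : H F q u w = 0) : u = H F q u z • z := by
  have := frame_expand hF ![v, w, z] (by
    intro i j
    fin_cases i <;> fin_cases j <;>
      simp [hv, hw, hz, hvw, hvz, hwz, H_flip hF hvw, H_flip hF hvz, H_flip hF hwz]) u
  simpa [huv, huw] using this

lemma charpoly_tM (hF : Fintype.card F = q ^ 2) (v : Fin 3 → F) (hv : H F q v v = 1) :
    (tM q v).charpoly = (X - 1) * (X + 1) ^ 2 := by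
  rw [H_eq] at hv
  have hv' : (C (v 0) * C ((v 0) ^ q) + C (v 1) * C ((v 1) ^ q) + C (v 2) * C ((v 2) ^ q) : F[X]) = 1 := by
    rw [← C_mul, ← C_mul, ← C_mul, ← C_add, ← C_add, hv, C_1]
  rw [Matrix.charpoly, Matrix.det_fin_three]
  simp only [Matrix.charmatrix_apply, tM, Matrix.of_apply, Matrix.diagonal_apply]
  simp only [Fin.isValue, Fin.reduceEq, if_false, if_true, map_sub, map_mul, map_one, map_zero, map_ofNat]
  simp only [Fin.isValue, sub_zero, zero_sub]
  linear_combination (-2 * (X + 1) ^ 2) * hv'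

end Cfsg.Agent.Lib.KS2.SU3Inv
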