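import Mathlib
import Cfsg.Agent.Lib.KS2.SU3Inv2

/-!
Involutions of `SU₃(q)`, `q` odd: counts.
-/

set_option autoImplicit false
set_option linter.unusedSectionVars false
set_option linter.unusedVariables false

namespace Cfsg.Agent.Lib.KS2.SU3Inv

open Matrix Polynomial Cfsg.Agent.Lib.Classical

variable {F : Type*} [Field F] [Fintype F] {q : ℕ}

/-- Conjugacy of involutions. -/
theorem inv_conj (hF : Fintype.card F = q ^ 2) (hq : Odd q) (x y : Cfsg.SU 3 F q) (hx : x ≠ 1) (hx2 : x * x = 1)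
    (hy : y ≠ 1) (hy2 : y * y = 1) : ∃ g : Cfsg.SU 3 F q, g * x * g⁻¹ = y := by
  obtain ⟨p, k, hp, -, hc⟩ := exists_prime_pow_of_card_eq_sq hF
  haveI : Fact p.Prime := ⟨hp⟩
  have hp2 : p ≠ 2 := by
    rintro rfl
    exact two_ne hF hq (by exact_mod_cast CharP.cast_eq_zero F 2)
  have hcop : ∀ z : Cfsg.SU 3 F q, z ≠ 1 → z * z = 1 → (orderOf z).Coprime p := by
    intro z hz hz2
    have : orderOf z = 2 := orderOf_eq_prime (by rw [sq, hz2]) hz
    rw [this]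
    exact (Nat.coprime_primes Nat.prime_two hp).mpr (Ne.symm hp2)
  obtain ⟨v, hv, rfl⟩ := exists_unit hF hq x hx hx2
  obtain ⟨w, hw, rfl⟩ := exists_unit hF hq y hy hy2
  have h1 := IsoCl.su_conj hF p 3 _ _ (hcop _ hx hx2) (hcop _ hy hy2) (by
    change (tM q v).charpoly = (tM q w).charpoly
    rw [charpoly_tM hF v hv, charpoly_tM hF w hw])
  exact isConj_iff.mp h1

/-- Unit vectors. -/
abbrev U (F : Type*) [Field F] (q : ℕ) := {u : Fin 3 → F // H F q u u = 1}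

/-- The involution of a unit vector. -/
def tU (hF : Fintype.card F = q ^ 2) (u : U F q) : Cfsg.SU 3 F q := tE hF u.1 u.2

lemma tU_ne (hF : Fintype.card F = q ^ 2) (hq : Odd q) (u : U F q) : tU hF u ≠ 1 := tE_ne_one hF hq _ _

lemma tU_sq (hF : Fintype.card F = q ^ 2) (u : U F q) : tU hF u * tU hF u = 1 := tE_mul_self hF _ _

lemma exists_tU (hF : Fintype.card F = q ^ 2) (hq : Odd q) (x : Cfsg.SU 3 F q) (hx : x ≠ 1) (hx2 : x * x = 1) :
    ∃ u : U F q, tU hF u = x := by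
  obtain ⟨v, hv, rfl⟩ := exists_unit hF hq x hx hx2
  exact ⟨⟨v, hv⟩, rfl⟩

/-- The fibres of `tU` are the orbits of the norm one group. -/
theorem card_fib (hF : Fintype.card F = q ^ 2) (hq : Odd q) (P : Cfsg.SU 3 F q → Prop) :
    Nat.card {u : U F q // P (tU hF u)} = Nat.card {x : Cfsg.SU 3 F q // (x ≠ 1 ∧ x * x = 1) ∧ P x} * (q + 1) := by
  classical
  have hN : Nat.card {c : F // c ^ (q + 1) = 1} = q + 1 :=
    card_norm_fiber hF 1 one_ne_zero (one_pow _)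
  rw [← hN, ← Nat.card_prod]
  have hrep : ∀ x : {x : Cfsg.SU 3 F q // (x ≠ 1 ∧ x * x = 1) ∧ P x}, ∃ u : U F q, tU hF u = x.1 :=
    fun x => exists_tU hF hq x.1 x.2.1.1 x.2.1.2
  choose r hr using hrep
  have hsm : ∀ (u : U F q) (c : {c : F // c ^ (q + 1) = 1}), H F q (c.1 • u.1) (c.1 • u.1) = 1 := by
    intro u c
    rw [H_smul_left, H_smul_right, u.2, mul_one]
    have := c.2
    rw [pow_succ] at this
    linear_combination this
  have hsmt : ∀ (u : U F q) (c : {c : F // c ^ (q + 1) = 1}), tU hF ⟨c.1 • u.1, hsm u c⟩ = tU hF u :=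
    fun u c => tE_eq_of hF u.1 _ u.2 _ c.2 rfl
  refine Nat.card_congr (Equiv.ofBijective
    (fun p : {x : Cfsg.SU 3 F q // (x ≠ 1 ∧ x * x = 1) ∧ P x} × {c : F // c ^ (q + 1) = 1} =>
      (⟨⟨p.2.1 • (r p.1).1, hsm _ _⟩, by rw [hsmt, hr]; exact p.1.2.2⟩ : {u : U F q // P (tU hF u)})) ⟨?_, ?_⟩).symm
  · rintro ⟨x, c⟩ ⟨x', c'⟩ h
    have h1 : c.1 • (r x).1 = c'.1 • (r x').1 := congrArg (fun u => u.1.1) h
    have h2 : tU hF ⟨c.1 • (r x).1, hsm _ _⟩ = tU hF ⟨c'.1 • (r x').1, hsm _ _⟩ := by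
      congr 1
      exact Subtype.ext h1
    rw [hsmt, hsmt, hr, hr] at h2
    have hxx : x = x' := Subtype.ext h2
    subst hxx
    have h3 := congrArg (fun w => H F q w (r x).1) h1
    simp only [H_smul_left, (r x).2, mul_one] at h3
    exact Prod.ext rfl (Subtype.ext h3)
  · rintro ⟨u, hu⟩
    let x : {x : Cfsg.SU 3 F q // (x ≠ 1 ∧ x * x = 1) ∧ P x} := ⟨tU hF u, ⟨tU_ne hF hq u, tU_sq hF u⟩, hu⟩
    have h1 : tU hF u = tU hF (r x) := (hr x).symm
    obtain ⟨c, hc, hcu⟩ := (tE_eq_iff hF hq (r x).1 u.1 (r x).2 u.2).mp h1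
    exact ⟨(x, ⟨c, hc⟩), Subtype.ext (Subtype.ext hcu.symm)⟩

/-- A split of cardinalities. -/
lemma card_split {α : Type*} [Finite α] (A B : α → Prop) :
    Nat.card {x // A x} = Nat.card {x // A x ∧ B x} + Nat.card {x // A x ∧ ¬ B x} := by
  classical
  rw [← Nat.card_sum]
  refine Nat.card_congr ?_
  exact
    { toFun := fun x => if h : B x.1 then Sum.inl ⟨x.1, x.2, h⟩ else Sum.inr ⟨x.1, x.2, h⟩
      invFun := fun y => match y with
        | Sum.inl z => ⟨z.1, z.2.1⟩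
        | Sum.inr z => ⟨z.1, z.2.1⟩
      left_inv := by
        intro x
        by_cases h : B x.1 <;> simp [h]
      right_inv := by
        rintro (z | z)
        · simp [z.2.2]
        · simp [z.2.2] }

lemma hcnt_values (hF : Fintype.card F = q ^ 2) :
    hcnt 3 F q 1 = q ^ 2 * ((q + 1) * (q ^ 2 - q + 1)) ∧ hcnt 2 F q 1 = (q + 1) * (q * (q - 1)) ∧
      hcnt 2 F q 0 = (q + 1) * ((q + 1) * (q - 1)) + 1 := by
  have hq := one_lt_q hF
  obtain ⟨r, rfl⟩ : ∃ r, q = r + 1 := ⟨q - 1, by omega⟩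
  have h3 := (hcnt_formula hF 3).1
  have h2 := (hcnt_formula hF 2).1
  have h0 := (hcnt_formula hF 2).2
  have hq0 : ((r + 1 : ℕ) : ℤ) ≠ 0 := by positivity
  refine ⟨?_, ?_, ?_⟩
  · have e : (((r + 1 : ℕ) : ℤ)) * (hcnt 3 F (r + 1) 1 : ℤ) = ((r + 1 : ℕ) : ℤ) * (((r + 1) ^ 2 * ((r + 1 + 1) * ((r + 1) ^ 2 - (r + 1) + 1)) : ℕ) : ℤ) := by
      rw [h3]
      have h5 : (((r + 1) ^ 2 - (r + 1) + 1 : ℕ) : ℤ) = ((r + 1 : ℕ) : ℤ) ^ 2 - ((r + 1 : ℕ) : ℤ) + 1 := by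
        have : r + 1 ≤ (r + 1) ^ 2 := by nlinarith
        push_cast [Nat.cast_sub this]
        ring
      push_cast at h5 ⊢
      rw [h5]
      ring
    exact_mod_cast mul_left_cancel₀ hq0 e
  · have e : (((r + 1 : ℕ) : ℤ)) * (hcnt 2 F (r + 1) 1 : ℤ) = ((r + 1 : ℕ) : ℤ) * (((r + 1 + 1) * ((r + 1) * (r + 1 - 1)) : ℕ) : ℤ) := by
      rw [h2]
      simp only [Nat.add_sub_cancel]
      push_cast
      ring
    exact_mod_cast mul_left_cancel₀ hq0 e
  · have e : (((r + 1 : ℕ) : ℤ)) * (hcnt 2 F (r + 1) 0 : ℤ) = ((r + 1 : ℕ) : ℤ) * (((r + 1 + 1) * ((r + 1 + 1) * (r + 1 - 1)) + 1 : ℕ) : ℤ) := by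
      rw [h0]
      simp only [Nat.add_sub_cancel]
      push_cast
      ring
    exact_mod_cast mul_left_cancel₀ hq0 e

/-- The number of involutions. -/
theorem card_inv (hF : Fintype.card F = q ^ 2) (hq : Odd q) :
    Nat.card {x : Cfsg.SU 3 F q // x ≠ 1 ∧ x * x = 1} = q ^ 2 * (q ^ 2 - q + 1) := by
  have h1 := card_fib hF hq (fun _ => True)
  have h2 : Nat.card {u : U F q // True} = hcnt 3 F q 1 :=
    Nat.card_congr (Equiv.subtypeUnivEquiv (fun _ => trivial))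
  have h3 : Nat.card {x : Cfsg.SU 3 F q // (x ≠ 1 ∧ x * x = 1) ∧ True} = Nat.card {x : Cfsg.SU 3 F q // x ≠ 1 ∧ x * x = 1} :=
    Nat.card_congr (Equiv.subtypeEquivRight (fun x => by simp))
  rw [h2, h3, (hcnt_values hF).1] at h1
  have h4 : 0 < q + 1 := by omega
  apply Nat.eq_of_mul_eq_mul_right h4
  rw [← h1]
  ring

end Cfsg.Agent.Lib.KS2.SU3Inv
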