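import Mathlib
import Cfsg.Agent.Lib.KS2.SU3Inv3
import Cfsg.Agent.Lib.Classical.UnitaryDet
import Cfsg.Agent.S0277

/-!
Involutions of `SU₃(q)`, `q` odd: the order of `SU₃`, centralizers, the third involution.
-/

set_option autoImplicit false
set_option linter.unusedSectionVars false
set_option linter.unusedVariables false

namespace Cfsg.Agent.Lib.KS2.SU3Inv

open Matrix Polynomial Cfsg.Agent.Lib.Classical

variable {F : Type*} [Field F] [Fintype F] {q : ℕ}

theorem card_SU3 (hF : Fintype.card F = q ^ 2) :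
    Nat.card (Cfsg.SU 3 F q) = q ^ 3 * ((q ^ 2 - 1) * (q ^ 3 + 1)) := by
  have h1 := Cfsg.Agent.S0277.result hF 3
  have h2 := card_GU_eq (n := 3) hF (by norm_num)
  rw [h2] at h1
  simp only [Finset.prod_range_succ, Finset.prod_range_zero] at h1
  have e0 : Even 0 := by decide
  have e1 : ¬ Even 1 := by decide
  have e2 : Even 2 := by decide
  simp only [e0, e1, e2, if_true, if_false] at h1
  have h3 : 0 < q + 1 := by omega
  apply Nat.eq_of_mul_eq_mul_left h3
  rw [h1]
  norm_num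
  ring

theorem card_centralizer (hF : Fintype.card F = q ^ 2) (hq : Odd q) (t : Cfsg.SU 3 F q) (ht : t ≠ 1) (ht2 : t * t = 1) :
    Nat.card (Subgroup.centralizer ({t} : Set (Cfsg.SU 3 F q))) = q * (q + 1) * (q ^ 2 - 1) := by
  classical
  have hq1 := one_lt_q hF
  have h1 := MulAction.card_orbit_mul_card_stabilizer_eq_card_group (ConjAct (Cfsg.SU 3 F q)) t
  have h2 : Nat.card (MulAction.orbit (ConjAct (Cfsg.SU 3 F q)) t) = Nat.card {x : Cfsg.SU 3 F q // x ≠ 1 ∧ x * x = 1} := by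
    refine Nat.card_congr (Equiv.subtypeEquivRight ?_)
    intro x
    rw [ConjAct.mem_orbit_conjAct]
    constructor
    · intro h
      obtain ⟨g, hg⟩ := isConj_iff.mp h.symm
      subst hg
      constructor
      · intro h0
        apply ht
        calc t = g⁻¹ * (g * t * g⁻¹) * g := by group
          _ = 1 := by rw [h0]; group
      · calc g * t * g⁻¹ * (g * t * g⁻¹) = g * (t * t) * g⁻¹ := by group
          _ = 1 := by rw [ht2]; group
    · rintro ⟨hx, hx2⟩
      obtain ⟨g, hg⟩ := inv_conj hF hq t x ht ht2 hx hx2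
      exact (isConj_iff.mpr ⟨g, hg⟩).symm
  have h3 : Nat.card (MulAction.stabilizer (ConjAct (Cfsg.SU 3 F q)) t) =
      Nat.card (Subgroup.centralizer ({t} : Set (Cfsg.SU 3 F q))) :=
    (Subgroup.nat_card_centralizer_nat_card_stabilizer t).symm
  simp only [← Nat.card_eq_fintype_card] at h1
  rw [h2, h3, card_inv hF hq] at h1
  have h4 : Nat.card (ConjAct (Cfsg.SU 3 F q)) = Nat.card (Cfsg.SU 3 F q) := Nat.card_congr ConjAct.ofConjAct.toEquiv
  rw [h4, card_SU3 hF] at h1
  have hq3 : q ^ 3 + 1 = (q + 1) * (q ^ 2 - q + 1) := by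
    obtain ⟨r, rfl⟩ : ∃ r, q = r + 1 := ⟨q - 1, by omega⟩
    have : r + 1 ≤ (r + 1) ^ 2 := by nlinarith
    zify [this]
    ring
  have hpos : 0 < q ^ 2 * (q ^ 2 - q + 1) := by
    have : 0 < q ^ 2 := by positivity
    exact Nat.mul_pos this (by omega)
  apply Nat.eq_of_mul_eq_mul_left hpos
  rw [h1, hq3]
  ring

/-- The third involution. -/
theorem third_inv (hF : Fintype.card F = q ^ 2) (hq : Odd q) (t x : Cfsg.SU 3 F q) (ht : t ≠ 1) (ht2 : t * t = 1)
    (hx : x ≠ 1) (hx2 : x * x = 1) (hxt : x ≠ t) (hc : Commute t x) :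
    Nat.card {y : Cfsg.SU 3 F q // y ≠ 1 ∧ y * y = 1 ∧ y ≠ t ∧ y ≠ x ∧ Commute t y ∧ Commute x y} = 1 := by
  obtain ⟨v, hv, rfl⟩ := exists_unit hF hq t ht ht2
  obtain ⟨w, hw, rfl⟩ := exists_unit hF hq x hx hx2
  have hvw : H F q v w = 0 := ((tE_comm_iff hF hq v w hv hw).mp hc).resolve_left (Ne.symm hxt)
  obtain ⟨z, hz, hvz, hwz⟩ := exists_perp hF v w (by rw [hv, hw, hvw]; simp)
  have hne : ∀ (a : Fin 3 → F) (ha : H F q a a = 1), H F q a z = 0 → tE hF z hz ≠ tE hF a ha := by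
    intro a ha h0 h
    obtain ⟨c, hc, hc2⟩ := (tE_eq_iff hF hq a z ha hz).mp h
    have h1 : H F q a z = c ^ q := by
      rw [hc2, H_smul_right, ha, mul_one]
    rw [h1] at h0
    have h3 := one_lt_q hF
    have hc0 : c = 0 := by
      rwa [pow_eq_zero_iff (by omega)] at h0
    rw [hc0, zero_pow (by omega)] at hc
    exact zero_ne_one hc
  rw [Nat.card_eq_one_iff_unique]
  constructor
  · constructor
    rintro ⟨y, hy, hy2, hyt, hyx, hyc1, hyc2⟩ ⟨y', hy', hy'2, hy't, hy'x, hy'c1, hy'c2⟩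
    obtain ⟨u, hu, rfl⟩ := exists_unit hF hq y hy hy2
    obtain ⟨u', hu', rfl⟩ := exists_unit hF hq y' hy' hy'2
    have key : ∀ (u : Fin 3 → F) (hu : H F q u u = 1), tE hF u hu ≠ tE hF v hv → tE hF u hu ≠ tE hF w hw →
        Commute (tE hF v hv) (tE hF u hu) → Commute (tE hF w hw) (tE hF u hu) → tE hF u hu = tE hF z hz := by
      intro u hu h1 h3 h4 h5
      have h6 : H F q v u = 0 := ((tE_comm_iff hF hq v u hv hu).mp h4).resolve_left (Ne.symm h1)
      have h7 : H F q w u = 0 := ((tE_comm_iff hF hq w u hw hu).mp h5).resolve_left (Ne.symm h3)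
      have h8 := third_unique hF v w z u hv hw hz hvw hvz hwz (H_flip hF h6) (H_flip hF h7)
      have hN : (H F q u z) ^ (q + 1) = 1 := by
        have h9 : H F q u u = H F q u z * ((H F q u z) ^ q * H F q z z) := by
          nth_rw 1 [h8]
          nth_rw 2 [h8]
          rw [H_smul_left, H_smul_right]
        rw [hu, hz] at h9
        rw [pow_succ]
        linear_combination -h9
      exact tE_eq_of hF z u hz hu hN h8
    apply Subtype.ext
    exact (key u hu hyt hyx hyc1 hyc2).trans (key u' hu' hy't hy'x hy'c1 hy'c2).symm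
  · exact ⟨⟨tE hF z hz, tE_ne_one hF hq z hz, tE_mul_self hF z hz, hne v hv hvz, hne w hw hwz,
      (tE_comm_iff hF hq v z hv hz).mpr (Or.inr hvz), (tE_comm_iff hF hq w z hw hz).mpr (Or.inr hwz)⟩⟩

end Cfsg.Agent.Lib.KS2.SU3Inv
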