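import Mathlib
import Cfsg.Agent.Lib.KS2.SpModel

/-!
# Cyclic tori of order `q^e + 1` in `Sp_{2e}(q)`.
-/

set_option autoImplicit false
set_option linter.unusedSimpArgs false
set_option linter.unusedVariables false
set_option linter.deprecated false

universe u v

namespace Cfsg.Agent.Lib.KS2.SpM

open Matrix Polynomial Cfsg.Agent.Lib.Classical

variable {F : Type u} [Field F]

/-- Elements of order dividing `q ^ e + 1`. -/
theorem ord_plus [Fintype F] {e N : ℕ} (he : 1 ≤ e) (hN : N ∣ Fintype.card F ^ e + 1) : ∃ x : Sp e F, orderOf x = N := by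
  classical
  obtain ⟨p, hp⟩ := CharP.exists F
  haveI : Fact p.Prime := ⟨CharP.char_is_prime F p⟩
  set q := Fintype.card F with hq
  obtain ⟨f, hfp, hf⟩ := FiniteField.card F p
  have hq1 : 1 < q := Fintype.one_lt_card
  haveI : NeZero (2 * e) := ⟨by omega⟩
  let K := FiniteField.Extension F p (2 * e)
  have hfr : Module.finrank F K = 2 * e := FiniteField.finrank_extension F p (2 * e)
  set Q := q ^ e with hQ
  have hKc : Nat.card K = Q ^ 2 := by
    rw [FiniteField.natCard_extension, Nat.card_eq_fintype_card, ← hq, hQ]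
    ring
  haveI : Fintype K := Fintype.ofFinite K
  haveI : Fintype Kˣ := Fintype.ofFinite Kˣ
  haveI : CharP K p := charP_of_injective_algebraMap (algebraMap F K).injective p
  have hQ1 : 1 < Q := Nat.one_lt_pow (by omega) hq1
  have hzz : ∀ z : K, (z ^ Q) ^ Q = z := fun z => by
    have := FiniteField.pow_card z
    rw [Fintype.card_eq_nat_card, hKc] at this
    rwa [← pow_mul, ← pow_two]
  have hQp : Q = p ^ ((f : ℕ) * e) := by rw [hQ, hq, hf, ← pow_mul]
  have hadd : ∀ x y : K, (x + y) ^ Q = x ^ Q + y ^ Q := fun x y => by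
    rw [hQp]
    exact add_pow_char_pow x y p _
  have hneg : ∀ x : K, (-x) ^ Q = -(x ^ Q) := fun x => by
    rw [hQp]
    exact (iterateFrobenius K p ((f : ℕ) * e)).map_neg x
  have hsub : ∀ x y : K, (x - y) ^ Q = x ^ Q - y ^ Q := fun x y => by
    rw [sub_eq_add_neg, hadd, hneg, sub_eq_add_neg]
  have hιQ : ∀ c : F, (algebraMap F K c) ^ Q = algebraMap F K c := fun c => by
    rw [← map_pow, hQ, hq, FiniteField.pow_card_pow]
  -- the element `δ`
  obtain ⟨ε, hε⟩ : ∃ ε : K, ε ^ Q ≠ ε := by
    by_contra hcon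
    push Not at hcon
    have h1 : (X ^ Q - X : K[X]) ≠ 0 := FiniteField.X_pow_card_sub_X_ne_zero K hQ1
    have h2 : Fintype.card K ≤ (X ^ Q - X : K[X]).natDegree := by
      have h3 : (Finset.univ : Finset K) ⊆ (X ^ Q - X : K[X]).roots.toFinset := by
        intro z _
        simp only [Multiset.mem_toFinset, mem_roots h1, IsRoot.def, eval_sub, eval_pow, eval_X, hcon z, sub_self]
      have h4 := Finset.card_le_card h3
      have h5 := Multiset.toFinset_card_le (X ^ Q - X : K[X]).roots
      have h6 := Polynomial.card_roots' (X ^ Q - X : K[X])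
      simp only [Finset.card_univ] at h4
      omega
    rw [FiniteField.X_pow_card_sub_X_natDegree_eq K hQ1, Fintype.card_eq_nat_card, hKc] at h2
    have : Q < Q ^ 2 := by nlinarith
    omega
  set δ := ε ^ Q - ε with hδ
  have hδ0 : δ ≠ 0 := sub_ne_zero.mpr hε
  have hδQ : δ ^ Q = -δ := by
    rw [hδ, hsub, hzz]
    ring
  let B : LinearMap.BilinForm F K :=
    LinearMap.mk₂ F (fun x y => Algebra.trace F K (δ * x * y ^ Q))
      (fun x x' y => by rw [mul_add, add_mul, map_add])
      (fun c x y => by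
        rw [Algebra.smul_def, ← map_smul, Algebra.smul_def]
        congr 1
        ring)
      (fun x y y' => by rw [hadd, mul_add, map_add])
      (fun c x y => by
        rw [Algebra.smul_def, mul_pow, hιQ, ← map_smul, Algebra.smul_def]
        congr 1
        ring)
  have hB : ∀ x y, B x y = Algebra.trace F K (δ * x * y ^ Q) := fun _ _ => rfl
  have hA : B.IsAlt := by
    intro x
    rw [hB]
    apply (algebraMap F K).injective
    have hsum : ∀ z : K, algebraMap F K (Algebra.trace F K z) = ∑ i ∈ Finset.range (e + e), z ^ (q ^ i) := by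
      intro z
      rw [FiniteField.algebraMap_trace_eq_sum_pow, hfr, Nat.card_eq_fintype_card, ← hq]
      exact Finset.sum_congr (by rw [two_mul]) (fun _ _ => rfl)
    rw [map_zero, hsum, Finset.sum_range_add]
    set z := δ * x * x ^ Q with hz
    have hzQ : z ^ Q = -z := by
      rw [hz, mul_pow, mul_pow, hδQ, hzz]
      ring
    rw [← Finset.sum_add_distrib]
    apply Finset.sum_eq_zero
    intro i _
    have h1 : z ^ (q ^ (e + i)) = (z ^ Q) ^ (q ^ i) := by
      rw [← pow_mul, hQ, ← pow_add]
    have hqi : q ^ i = p ^ ((f : ℕ) * i) := by rw [hq, hf, ← pow_mul]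
    rw [h1, hzQ, hqi]
    have h2 : (-z) ^ (p ^ ((f : ℕ) * i)) = -(z ^ (p ^ ((f : ℕ) * i))) :=
      (iterateFrobenius K p ((f : ℕ) * i)).map_neg z
    rw [h2]
    ring
  have htr : ∀ w : K, (∀ y : K, Algebra.trace F K (w * y) = 0) → w = 0 := by
    intro w hw
    refine (traceForm_nondegenerate F K).1 w ?_
    intro y
    rw [Algebra.traceForm_apply]
    exact hw y
  have hnd : B.Nondegenerate := by
    constructor
    · intro x hx
      have h1 : δ * x = 0 := by
        apply htr
        intro w
        have h2 := hx (w ^ Q)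
        rw [hB, hzz] at h2
        exact h2
      exact (mul_eq_zero.mp h1).resolve_left hδ0
    · intro y hy
      have h1 : y ^ Q = 0 := by
        apply htr
        intro w
        have h2 := hy (w * δ⁻¹)
        rw [hB] at h2
        rw [← h2]
        congr 1
        have h3 : δ * (w * δ⁻¹) = w := by
          rw [mul_comm w, ← mul_assoc, mul_inv_cancel₀ hδ0, one_mul]
        rw [h3]
        exact mul_comm _ _
      exact pow_eq_zero_iff (by omega) |>.mp h1
  -- the element
  obtain ⟨γ, hγ⟩ := IsCyclic.exists_ofOrder_eq_natCard (α := Kˣ)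
  have hord : orderOf γ = Q ^ 2 - 1 := by
    rw [hγ, Nat.card_units, hKc]
  have hQ21 : Q ^ 2 - 1 = (Q + 1) * (Q - 1) := by
    obtain ⟨r, hr⟩ : ∃ r, Q = r + 1 := ⟨Q - 1, by omega⟩
    rw [hr]
    have e1 : (r + 1) ^ 2 = (r + 1 + 1) * r + 1 := by ring
    simp [e1]
  have hdvd : N ∣ orderOf γ := by
    rw [hord, hQ21]
    exact hN.mul_right _
  set lu : Kˣ := γ ^ (orderOf γ / N) with hlu
  have hluo : orderOf lu = N := orderOf_pow_orderOf_div (orderOf_pos γ).ne' hdvd
  set l : K := (lu : K) with hld
  have hl : ∀ n, l ^ n = 1 ↔ N ∣ n := fun n => by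
    rw [hld, ← Units.val_pow_eq_pow_val, Units.val_eq_one, ← orderOf_dvd_iff_pow_eq_one, hluo]
  have hl1 : l ^ Q * l = 1 := by
    rw [← pow_succ]
    exact (hl _).mpr hN
  let T : Module.End F K := LinearMap.mulLeft F l
  have hT : T ∈ isomSub B := by
    intro u v
    rw [hB, hB]
    show Algebra.trace F K (δ * (l * u) * (l * v) ^ Q) = _
    congr 1
    rw [mul_pow]
    linear_combination (δ * u * v ^ Q) * hl1
  obtain ⟨φ, hφ⟩ := exists_hom_inj B hA hnd (n := e) hfr
  refine ⟨φ ⟨T, hT⟩, ?_⟩
  rw [orderOf_injective φ hφ]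
  have hpow : ∀ j : ℕ, (⟨T, hT⟩ : isomSub B) ^ j = 1 ↔ N ∣ j := by
    intro j
    rw [← hl]
    constructor
    · intro h
      have h1 : T ^ j = 1 := congrArg Subtype.val h
      have h2 : T ^ j = LinearMap.mulLeft F (l ^ j) := LinearMap.pow_mulLeft F K l j
      rw [h2] at h1
      have h3 := LinearMap.congr_fun h1 1
      simpa using h3
    · intro h
      apply Subtype.ext
      show T ^ j = 1
      have h2 : T ^ j = LinearMap.mulLeft F (l ^ j) := LinearMap.pow_mulLeft F K l j
      rw [h2, h]
      ext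
      simp
  apply Nat.dvd_antisymm
  · exact orderOf_dvd_of_pow_eq_one ((hpow N).mpr dvd_rfl)
  · exact (hpow _).mp (pow_orderOf_eq_one _)

end Cfsg.Agent.Lib.KS2.SpM
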