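import Mathlib
import Cfsg.Agent.Lib.KS2.SpPlus
import Cfsg.Agent.Lib.KS2.SSConj
import Cfsg.Agent.Lib.KS2.PGraph
import Cfsg.Agent.S0752

/-!
# Semisimple isometries of prime order of symplectic spaces.
-/

set_option autoImplicit false
set_option linter.unusedSimpArgs false
set_option linter.unusedVariables false
set_option linter.deprecated false

universe u v

namespace Cfsg.Agent.Lib.KS2.SpM

open Matrix Polynomial Cfsg.Agent.Lib.Classical Cfsg.Agent.Lib.KS2.SSConj

variable {F : Type u} [Field F]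

section counting

variable [Fintype F] {V : Type v} [AddCommGroup V] [Module F V] [FiniteDimensional F V]

/-- An automorphism of prime order without fixed vectors. -/
lemma dvd_of_no_fixed {s : ℕ} (hs : s.Prime) (T : Module.End F V) (hT : T ^ s = 1) (hfix : ∀ v, T v = v → v = 0) :
    s ∣ Fintype.card F ^ Module.finrank F V - 1 := by
  classical
  haveI : Fact s.Prime := ⟨hs⟩
  haveI : Finite V := Module.finite_of_finite F
  haveI : Fintype V := Fintype.ofFinite V
  let f : Function.End V := fun v => T v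
  have hfj : ∀ j : ℕ, ∀ v, (f ^ j) v = (T ^ j) v := by
    intro j v
    induction j generalizing v with
    | zero => rfl
    | succ j ih =>
      rw [pow_succ, pow_succ]
      show (f ^ j) (T v) = (T ^ j) (T v)
      exact ih _
  have hf : f ^ s ^ 1 = 1 := by
    rw [pow_one]
    funext v
    rw [hfj, hT]
    rfl
  have h := Equiv.Perm.card_fixedPoints_modEq (f := f) hf
  have h1 : Fintype.card (Function.fixedPoints f) = 1 := by
    rw [Fintype.card_eq_one_iff]
    refine ⟨⟨0, ?_⟩, ?_⟩
    · show T 0 = 0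
      simp
    · rintro ⟨v, hv⟩
      apply Subtype.ext
      exact hfix v hv
  rw [h1] at h
  have hc : Fintype.card V = Fintype.card F ^ Module.finrank F V := Module.card_eq_pow_finrank
  rw [hc] at h
  exact (Nat.modEq_iff_dvd' (Nat.one_le_pow _ _ Fintype.card_pos)).mp h.symm

end counting

section forms

variable {V : Type u} [AddCommGroup V] [Module F V] [FiniteDimensional F V]

/-- Symplectic spaces have even dimension. -/
lemma even_finrank (B : LinearMap.BilinForm F V) (hA : B.IsAlt) (hnd : B.Nondegenerate) :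
    ∃ m, Module.finrank F V = 2 * m := by
  obtain ⟨m', k, b, -, -, -, h4⟩ := Cfsg.Agent.S0752.result B hA
  have hk : k = 0 := by
    by_contra hk
    have hpos : 0 < k := Nat.pos_of_ne_zero hk
    have h0 := hnd.1 (b (Sum.inr ⟨0, hpos⟩)) (h4 ⟨0, hpos⟩)
    exact b.ne_zero _ h0
  subst hk
  have := Module.finrank_eq_card_basis b
  simp at this
  exact ⟨m', by omega⟩

lemma restrict_alt {B : LinearMap.BilinForm F V} (hA : B.IsAlt) (S : Submodule F V) : (B.restrict S).IsAlt :=
  fun x => hA (x : V)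

lemma restrict_nondeg {B : LinearMap.BilinForm F V} (hA : B.IsAlt) (S : Submodule F V)
    (h : ∀ y ∈ S, (∀ x ∈ S, B x y = 0) → y = 0) : (B.restrict S).Nondegenerate := by
  constructor
  · intro y hy
    apply Subtype.ext
    apply h y y.2
    intro x hx
    have h1 := hy ⟨x, hx⟩
    have h2 : B y x = 0 := h1
    rw [← hA.neg_eq, h2, neg_zero]
  · intro y hy
    apply Subtype.ext
    apply h y y.2
    intro x hx
    exact hy ⟨x, hx⟩

variable {B : LinearMap.BilinForm F V}

lemma surj_of_pow {T : Module.End F V} {s : ℕ} (hs0 : s ≠ 0) (hT : T ^ s = 1) (x : V) : T ((T ^ (s - 1)) x) = x := by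
  have h1 : T * T ^ (s - 1) = 1 := by
    rw [← pow_succ', show s - 1 + 1 = s by omega, hT]
  have := LinearMap.congr_fun h1 x
  simpa using this

/-- Vectors orthogonal to the range are fixed. -/
lemma fixed_of_perp (hnd : B.Nondegenerate) {T : Module.End F V} (hT : T ∈ isomSub B) {s : ℕ} (hs0 : s ≠ 0) (hTs : T ^ s = 1)
    (y : V) (h : ∀ x ∈ LinearMap.range (T - 1), B x y = 0) : T y = y := by
  have h1 : y - T y = 0 := by
    apply hnd.2
    intro z
    obtain ⟨x, rfl⟩ : ∃ x, T x = z := ⟨_, surj_of_pow hs0 hTs z⟩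
    have h2 := h (T x - x) ⟨x, by simp⟩
    have e : B (T x - x) y = B (T x) y - B x y := by simp
    rw [e] at h2
    rw [map_sub, hT x y]
    exact h2
  exact (sub_eq_zero.mp h1).symm

lemma perp_of_fixed {T : Module.End F V} (hT : T ∈ isomSub B) {y : V} (hy : T y = y) (x : V) (hx : x ∈ LinearMap.range (T - 1)) :
    B x y = 0 := by
  obtain ⟨z, rfl⟩ := hx
  have h1 := hT z y
  rw [hy] at h1
  simp [h1]

/-- The form on the range is nondegenerate. -/
lemma range_nondeg [Fintype F] (hA : B.IsAlt) (hnd : B.Nondegenerate) {T : Module.End F V} (hT : T ∈ isomSub B) {s : ℕ} (hs0 : (s : F) ≠ 0)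
    (hTs : T ^ s = 1) : (B.restrict (LinearMap.range (T - 1))).Nondegenerate := by
  apply restrict_nondeg hA
  intro y hy h
  have hs1 : s ≠ 0 := by
    rintro rfl
    simp at hs0
  exact PGraph.range_fixed hs0 T hTs y hy (fixed_of_perp hnd hT hs1 hTs y h)

/-- The form on the kernel is nondegenerate. -/
lemma ker_nondeg [Fintype F] (hA : B.IsAlt) (hnd : B.Nondegenerate) {T : Module.End F V} (hT : T ∈ isomSub B) {s : ℕ} (hs0 : (s : F) ≠ 0)
    (hTs : T ^ s = 1) : (B.restrict (LinearMap.ker (T - 1))).Nondegenerate := by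
  apply restrict_nondeg hA
  intro y hy h
  apply hnd.2
  intro z
  have hz : z ∈ LinearMap.ker (T - 1) ⊔ LinearMap.range (T - 1) := by
    rw [PGraph.sup_ker_range hs0 T hTs]
    trivial
  obtain ⟨a, ha, b, hb, rfl⟩ := Submodule.mem_sup.mp hz
  have hy' : T y = y := by
    have : (T - 1) y = 0 := hy
    simpa [sub_eq_zero] using this
  rw [map_add, LinearMap.add_apply, h a ha, perp_of_fixed hT hy' b hb, add_zero]

end forms

/-- Restricting powers. -/
lemma restrict_pow {V : Type*} [AddCommGroup V] [Module F V] (T : Module.End F V) (S : Submodule F V) (hS : ∀ v ∈ S, T v ∈ S) (j : ℕ) (w : S) :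
    (((T.restrict hS) ^ j) w : V) = (T ^ j) (w : V) := by
  induction j generalizing w with
  | zero => simp
  | succ j ih =>
    rw [pow_succ, Module.End.mul_apply, ih, pow_succ, Module.End.mul_apply]
    rfl

lemma restrict_pow_one {V : Type*} [AddCommGroup V] [Module F V] {T : Module.End F V} {s : ℕ} (hT : T ^ s = 1) (S : Submodule F V) (hS : ∀ v ∈ S, T v ∈ S) :
    (T.restrict hS) ^ s = 1 := by
  refine LinearMap.ext fun w => ?_
  apply Subtype.ext
  rw [restrict_pow, hT]
  rfl

section eta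

variable [Fintype F]

/-- The basic divisibility for the multiplicative order. -/
lemma ord_dvd_finrank {V : Type*} [AddCommGroup V] [Module F V] [FiniteDimensional F V] {s : ℕ} (hs : s.Prime) {T : Module.End F V} (hT : T ^ s = 1)
    (S : Submodule F V) (hS : ∀ v ∈ S, T v ∈ S) (hfix : ∀ v ∈ S, T v = v → v = 0) :
    orderOf ((Fintype.card F : ℕ) : ZMod s) ∣ Module.finrank F S := by
  rw [← PGraph.prime_dvd_iff hs Fintype.card_pos]
  apply dvd_of_no_fixed hs (T.restrict hS) (restrict_pow_one hT S hS)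
  intro v hv
  apply Subtype.ext
  exact hfix v v.2 (congrArg Subtype.val hv)

lemma eta_dvd {k e j : ℕ} (h : (Odd k ∧ e = k) ∨ (Even k ∧ 2 * e = k)) (hd : k ∣ 2 * j) : e ∣ j := by
  rcases h with ⟨h1, rfl⟩ | ⟨h1, rfl⟩
  · exact Nat.Coprime.dvd_of_dvd_mul_left (Nat.coprime_two_right.mpr h1) hd
  · exact Nat.dvd_of_mul_dvd_mul_left (by norm_num) hd

lemma eta_pos {k e : ℕ} (h : (Odd k ∧ e = k) ∨ (Even k ∧ 2 * e = k)) (hk : k ≠ 0) : e ≠ 0 := by
  rcases h with ⟨h1, rfl⟩ | ⟨h1, rfl⟩
  · exact hk
  · rintro rfl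
    exact hk rfl

/-- An isometry of prime order moves a subspace of dimension a multiple of `2 η(k)`. -/
theorem range_finrank {V : Type u} [AddCommGroup V] [Module F V] [FiniteDimensional F V] {B : LinearMap.BilinForm F V}
    (hA : B.IsAlt) (hnd : B.Nondegenerate) {T : Module.End F V} (hT : T ∈ isomSub B) {s k e : ℕ} (hs : s.Prime) (hs0 : (s : F) ≠ 0)
    (hTs : T ^ s = 1) (hT1 : T ≠ 1) (hk : k = orderOf ((Fintype.card F : ℕ) : ZMod s))
    (he : (Odd k ∧ e = k) ∨ (Even k ∧ 2 * e = k)) :
    ∃ c, 1 ≤ c ∧ Module.finrank F (LinearMap.range (T - 1)) = 2 * (e * c) := by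
  set W := LinearMap.range (T - 1) with hW
  have hWinv : ∀ v ∈ W, T v ∈ W := by
    rintro _ ⟨y, rfl⟩
    refine ⟨T y, ?_⟩
    simp
  obtain ⟨m, hm⟩ := even_finrank (B.restrict W) (restrict_alt hA W) (range_nondeg hA hnd hT hs0 hTs)
  have h1 : k ∣ 2 * m := by
    rw [← hm, hk]
    apply ord_dvd_finrank hs hTs W hWinv
    intro v hv hv2
    exact PGraph.range_fixed hs0 T hTs v hv hv2
  obtain ⟨c, hc⟩ := eta_dvd he h1
  have hW0 : W ≠ ⊥ := by
    intro h
    apply hT1
    have : T - 1 = 0 := LinearMap.range_eq_bot.mp h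
    exact sub_eq_zero.mp this
  have hpos : Module.finrank F W ≠ 0 := fun h => hW0 (Submodule.finrank_eq_zero.mp h)
  refine ⟨c, ?_, by rw [hm, hc]⟩
  apply Nat.pos_of_ne_zero
  rintro rfl
  rw [hm, hc] at hpos
  simp at hpos

/-- A non-trivial isometry of prime order needs dimension at least `2 η(k)`. -/
theorem two_eta_le {V : Type u} [AddCommGroup V] [Module F V] [FiniteDimensional F V] {B : LinearMap.BilinForm F V}
    (hA : B.IsAlt) (hnd : B.Nondegenerate) {T : Module.End F V} (hT : T ∈ isomSub B) {s k e : ℕ} (hs : s.Prime) (hs0 : (s : F) ≠ 0)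
    (hTs : T ^ s = 1) (hT1 : T ≠ 1) (hk : k = orderOf ((Fintype.card F : ℕ) : ZMod s))
    (he : (Odd k ∧ e = k) ∨ (Even k ∧ 2 * e = k)) : 2 * e ≤ Module.finrank F V := by
  obtain ⟨c, hc, h⟩ := range_finrank hA hnd hT hs hs0 hTs hT1 hk he
  have h1 : Module.finrank F (LinearMap.range (T - 1)) ≤ Module.finrank F V := Submodule.finrank_le _
  have h2 : e ≤ e * c := Nat.le_mul_of_pos_right _ hc
  omega

end eta

section comm

/-- Commuting with polynomials. -/
lemma comm_aeval {V : Type*} [AddCommGroup V] [Module F V] {β T : Module.End F V} (hc : ∀ v, β (T v) = T (β v)) (a : F[X]) (v : V) :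
    β (aeval T a v) = aeval T a (β v) := by
  have h : Commute β T := by
    refine LinearMap.ext fun v => ?_
    exact hc v
  have h1 : Commute β (aeval T a) := by
    induction a using Polynomial.induction_on' with
    | add p q hp hq =>
      rw [map_add]
      exact hp.add_right hq
    | monomial n c =>
      rw [aeval_monomial]
      exact (Algebra.commute_algebraMap_right c β).mul_right (h.pow_right n)
  exact LinearMap.congr_fun h1 v

lemma aeval_mem {V : Type*} [AddCommGroup V] [Module F V] {T : Module.End F V} {K : Submodule F V} (hK : ∀ v ∈ K, T v ∈ K) (a : F[X]) {v : V} (hv : v ∈ K) :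
    aeval T a v ∈ K := by
  induction a using Polynomial.induction_on' with
  | add p q hp hq =>
    rw [map_add]
    exact K.add_mem hp hq
  | monomial n c =>
    rw [aeval_monomial, Module.End.mul_apply, Module.algebraMap_end_apply]
    apply K.smul_mem
    clear c
    induction n with
    | zero => simpa using hv
    | succ n ih =>
      rw [pow_succ', Module.End.mul_apply]
      exact hK _ ih

variable [Fintype F]

lemma aeval_pow_card_end {A : Type*} [Ring A] [Algebra F A] (T : A) (a : F[X]) (m : ℕ) :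
    (aeval T a) ^ ((Fintype.card F) ^ m) = aeval (T ^ ((Fintype.card F) ^ m)) a := by
  induction m generalizing T with
  | zero => simp
  | succ m ih =>
    rw [pow_succ', pow_mul, ← map_pow, ← FiniteField.expand_card, expand_aeval, ih, ← pow_mul]

/-- `T ^ (q ^ l) = T` for an element of prime order `s`. -/
lemma pow_card_ord {A : Type*} [Monoid A] {s : ℕ} (hs : s.Prime) {T : A} (hT : T ^ s = 1) :
    T ^ ((Fintype.card F) ^ (orderOf ((Fintype.card F : ℕ) : ZMod s))) = T := by
  have h1 : s ∣ (Fintype.card F) ^ (orderOf ((Fintype.card F : ℕ) : ZMod s)) - 1 :=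
    (PGraph.prime_dvd_iff hs Fintype.card_pos _).mpr dvd_rfl
  obtain ⟨c, hc⟩ := h1
  have h2 : 1 ≤ (Fintype.card F) ^ (orderOf ((Fintype.card F : ℕ) : ZMod s)) := Nat.one_le_pow _ _ Fintype.card_pos
  have h3 : (Fintype.card F) ^ (orderOf ((Fintype.card F : ℕ) : ZMod s)) = s * c + 1 := by omega
  rw [h3, pow_succ, pow_mul, hT, one_pow, one_mul]

/-- A commuting map on a simple `T`-module is a polynomial in `T`. -/
theorem simple_form {V : Type u} [AddCommGroup V] [Module F V] [FiniteDimensional F V] {s : ℕ} (hs : s.Prime) {T : Module.End F V} (hT : T ^ s = 1)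
    (K : Submodule F V) (hK : ∀ v ∈ K, T v ∈ K) (hfix : ∀ v ∈ K, T v = v → v = 0)
    (hdim : Module.finrank F K = orderOf ((Fintype.card F : ℕ) : ZMod s)) (hl0 : orderOf ((Fintype.card F : ℕ) : ZMod s) ≠ 0)
    {β : Module.End F V} (hc : ∀ v, β (T v) = T (β v)) (hβ : ∀ v ∈ K, β v ∈ K) :
    ∃ a : F[X], ∀ w ∈ K, β w = aeval T a w := by
  classical
  have hK0 : K ≠ ⊥ := by
    intro h
    rw [h] at hdim
    simp at hdim
    exact hl0 hdim.symm
  obtain ⟨v, hv, hv0⟩ := Submodule.exists_mem_ne_zero_of_ne_bot hK0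
  have hSle : cycSub T v ≤ K := by
    rintro _ ⟨r, rfl⟩
    exact aeval_mem hK r hv
  have hSK : cycSub T v = K := by
    apply Submodule.eq_of_le_of_finrank_eq hSle
    have h1 := ord_dvd_finrank hs hT (cycSub T v) (cycSub_inv T v) (fun w hw => hfix w (hSle hw))
    have h2 : Module.finrank F (cycSub T v) ≤ Module.finrank F K := Submodule.finrank_mono hSle
    have h3 : Module.finrank F (cycSub T v) ≠ 0 := by
      intro h
      have := Submodule.finrank_eq_zero.mp h
      have h4 := self_mem_cycSub T v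
      rw [this] at h4
      exact hv0 (by simpa using h4)
    rw [hdim] at h2 ⊢
    exact le_antisymm h2 (Nat.le_of_dvd (Nat.pos_of_ne_zero h3) h1)
  have hβv : β v ∈ cycSub T v := by
    rw [hSK]
    exact hβ v hv
  obtain ⟨a, ha⟩ := (mem_cycSub T v (β v)).mp hβv
  refine ⟨a, fun w hw => ?_⟩
  rw [← hSK] at hw
  obtain ⟨c', rfl⟩ := (mem_cycSub T v w).mp hw
  rw [comm_aeval hc, ← ha, ← Module.End.mul_apply, ← Module.End.mul_apply, ← map_mul, ← map_mul, mul_comm]

/-- Frobenius on a simple `T`-module. -/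
theorem frob_on {V : Type u} [AddCommGroup V] [Module F V] [FiniteDimensional F V] {s : ℕ} (hs : s.Prime) {T : Module.End F V} (hT : T ^ s = 1)
    (K : Submodule F V) (hK : ∀ v ∈ K, T v ∈ K) (hfix : ∀ v ∈ K, T v = v → v = 0)
    (hdim : Module.finrank F K = orderOf ((Fintype.card F : ℕ) : ZMod s)) (hl0 : orderOf ((Fintype.card F : ℕ) : ZMod s) ≠ 0)
    {β : Module.End F V} (hc : ∀ v, β (T v) = T (β v)) (hβ : ∀ v ∈ K, β v ∈ K) (w : V) (hw : w ∈ K) :
    (β ^ ((Fintype.card F) ^ (orderOf ((Fintype.card F : ℕ) : ZMod s)))) w = β w := by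
  obtain ⟨a, ha⟩ := simple_form hs hT K hK hfix hdim hl0 hc hβ
  have hpow : ∀ (j : ℕ), ∀ w ∈ K, (β ^ j) w = ((aeval T a) ^ j) w := by
    intro j
    induction j with
    | zero => simp
    | succ j ih =>
      intro w hw
      rw [pow_succ, pow_succ, Module.End.mul_apply, Module.End.mul_apply, ha w hw]
      exact ih _ (aeval_mem hK a hw)
  rw [hpow _ w hw, aeval_pow_card_end, pow_card_ord hs hT, ha w hw]

end comm

section main

variable [Fintype F] {V : Type u} [AddCommGroup V] [Module F V] [FiniteDimensional F V] {B : LinearMap.BilinForm F V}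

/-- Adjoints of polynomials in an isometry. -/
lemma adj_aeval {T T' : Module.End F V} (hT : T ∈ isomSub B) (hTT : T * T' = 1) (a : F[X]) (x y : V) :
    B (aeval T a x) y = B x (aeval T' a y) := by
  have h1 : ∀ x y, B (T x) y = B x (T' y) := by
    intro x y
    have h2 := hT x (T' y)
    have e : T (T' y) = y := LinearMap.congr_fun hTT y
    rw [e] at h2
    exact h2
  have hn : ∀ (n : ℕ) (x y : V), B ((T ^ n) x) y = B x ((T' ^ n) y) := by
    intro n
    induction n with
    | zero => intro x y; rfl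
    | succ n ih =>
      intro x y
      rw [pow_succ', pow_succ, Module.End.mul_apply, Module.End.mul_apply, h1, ih]
  induction a using Polynomial.induction_on' with
  | add p q hp hq =>
    simp only [map_add, LinearMap.add_apply, hp, hq]
  | monomial n c =>
    rw [aeval_monomial, aeval_monomial]
    simp only [Module.End.mul_apply, Module.algebraMap_end_apply, map_smul, LinearMap.smul_apply, hn]

/-- For odd order, an irreducible factor of the minimal polynomial does not annihilate the space. -/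
theorem odd_ne_zero (hnd : B.Nondegenerate) {T : Module.End F V} (hT : T ∈ isomSub B) {s : ℕ} (hs : s.Prime)
    (hs2 : s ≠ 2) (hTs : T ^ s = 1) (hfix : ∀ v, T v = v → v = 0)
    (hodd : Odd (orderOf ((Fintype.card F : ℕ) : ZMod s))) {f : F[X]} (hf : Irreducible f) (hfm : f.Monic) {v₀ : V}
    (hann : ∀ r : F[X], aeval T r v₀ = 0 ↔ f ∣ r) : aeval T f ≠ 0 := by
  classical
  intro h0
  haveI : Fact s.Prime := ⟨hs⟩
  set q := Fintype.card F with hq
  set l := orderOf ((q : ℕ) : ZMod s) with hl
  have hl0 : l ≠ 0 := by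
    rintro h
    rw [h] at hodd
    exact absurd hodd (by decide)
  have hq1 : 1 < q := Fintype.one_lt_card
  have hTT : T * T ^ (s - 1) = 1 := by
    rw [← pow_succ', show s - 1 + 1 = s by have := hs.pos; omega, hTs]
  have h1 : aeval (T ^ (s - 1)) f = 0 := by
    refine LinearMap.ext fun y => ?_
    apply hnd.2
    intro x
    rw [← adj_aeval hT hTT, h0]
    simp
  have h2 : f ∣ expand F (s - 1) f := by
    rw [← hann, expand_aeval, h1]
    simp
  have h3 : f ∣ X ^ s - 1 := by
    rw [← hann]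
    simp [hTs]
  have hv0 : v₀ ≠ 0 := by
    rintro rfl
    have := (hann 1).mp (by simp)
    exact hf.not_isUnit (isUnit_of_dvd_one this)
  haveI : Fact (Irreducible f) := ⟨hf⟩
  let K := AdjoinRoot f
  let l' : K := AdjoinRoot.root f
  have hmk : ∀ g : F[X], aeval l' g = AdjoinRoot.mk f g := fun g => AdjoinRoot.aeval_eq g
  have hzero : ∀ g : F[X], f ∣ g → aeval l' g = 0 := fun g hg => by
    rw [hmk]
    exact AdjoinRoot.mk_eq_zero.mpr hg
  have hls : l' ^ s = 1 := by
    have := hzero _ h3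
    simp only [map_sub, map_pow, aeval_X, map_one] at this
    exact sub_eq_zero.mp this
  have hl1 : l' ≠ 1 := by
    intro h
    have h4 : f ∣ X - 1 := by
      rw [← AdjoinRoot.mk_eq_zero]
      simp only [map_sub, AdjoinRoot.mk_X, map_one]
      exact sub_eq_zero.mpr h
    have h5 := (hann _).mpr h4
    simp only [map_sub, aeval_X, map_one, LinearMap.sub_apply, Module.End.one_apply] at h5
    exact hv0 (hfix v₀ (sub_eq_zero.mp h5))
  have hl00 : l' ≠ 0 := by
    intro h
    rw [h, zero_pow hs.ne_zero] at hls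
    exact zero_ne_one hls
  let lu : Kˣ := Units.mk0 l' hl00
  have hlu : orderOf lu = s := by
    apply orderOf_eq_prime
    · apply Units.ext
      simpa [lu] using hls
    · intro h
      apply hl1
      simpa [lu] using congrArg Units.val h
  have hpow_one : ∀ n, l' ^ n = 1 ↔ s ∣ n := by
    intro n
    rw [← hlu, orderOf_dvd_iff_pow_eq_one]
    constructor
    · intro h
      apply Units.ext
      simpa [lu] using h
    · intro h
      simpa [lu] using congrArg Units.val h
  have hf0 : f ≠ 0 := hf.ne_zero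
  let pb := AdjoinRoot.powerBasis hf0
  have hpbdim : pb.dim = f.natDegree := by simp [pb, AdjoinRoot.powerBasis]
  haveI : FiniteDimensional F K := pb.finite
  haveI : Finite K := Module.finite_of_finite F
  haveI : Fintype K := Fintype.ofFinite K
  have hfrK : Module.finrank F K = f.natDegree := pb.finrank.trans hpbdim
  have hcard : Fintype.card K = q ^ f.natDegree := by
    rw [← hfrK]
    exact Module.card_eq_pow_finrank (K := F) (V := K)
  set Q := q ^ l with hQ
  have hQ1 : 1 < Q := Nat.one_lt_pow hl0 hq1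
  have hfrob : l' ^ Q = l' := pow_card_ord hs hls
  have hall : ∀ z : K, z ^ Q = z := by
    intro z
    obtain ⟨a, rfl⟩ := AdjoinRoot.mk_surjective z
    rw [← hmk, hQ, hq, aeval_pow_card_end, ← hq, ← hQ, hfrob]
  have hdeg : f.natDegree ≤ l := by
    have h4 : (X ^ Q - X : K[X]) ≠ 0 := FiniteField.X_pow_card_sub_X_ne_zero K hQ1
    have h5 : (Finset.univ : Finset K) ⊆ (X ^ Q - X : K[X]).roots.toFinset := by
      intro z _
      simp only [Multiset.mem_toFinset, mem_roots h4, IsRoot.def, eval_sub, eval_pow, eval_X, hall z, sub_self]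
    have h6 := Finset.card_le_card h5
    have h7 := Multiset.toFinset_card_le (X ^ Q - X : K[X]).roots
    have h8 := Polynomial.card_roots' (X ^ Q - X : K[X])
    rw [FiniteField.X_pow_card_sub_X_natDegree_eq K hQ1] at h8
    simp only [Finset.card_univ, hcard] at h6
    have h9 : q ^ f.natDegree ≤ q ^ l := by
      rw [← hQ]
      omega
    exact (Nat.pow_le_pow_iff_right hq1).mp h9
  -- the roots
  have hfK : (f.map (algebraMap F K)) ≠ 0 := (hfm.map _).ne_zero
  have hroot : ∀ z : K, aeval z f = 0 → z ∈ (f.map (algebraMap F K)).roots.toFinset := by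
    intro z hz
    rw [Multiset.mem_toFinset, mem_roots hfK, IsRoot.def, eval_map_algebraMap]
    exact hz
  have hconj : ∀ j, aeval (l' ^ (q ^ j)) f = 0 := by
    intro j
    rw [hq, ← aeval_pow_card_end, hzero f dvd_rfl, zero_pow (pow_ne_zero _ (by omega))]
  have hρ : aeval (l' ^ (s - 1)) f = 0 := by
    have := hzero _ h2
    rwa [expand_aeval] at this
  let S : Finset K := (Finset.range l).image (fun j => l' ^ (q ^ j))
  have hSinj : S.card = l := by
    rw [Finset.card_image_of_injOn, Finset.card_range]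
    intro i hi j hj hij
    have hi' : i ∈ Set.Iio (orderOf ((q : ℕ) : ZMod s)) := Finset.mem_range.mp hi
    have hj' : j ∈ Set.Iio (orderOf ((q : ℕ) : ZMod s)) := Finset.mem_range.mp hj
    apply pow_injOn_Iio_orderOf hi' hj'
    have h4 : lu ^ (q ^ i) = lu ^ (q ^ j) := by
      apply Units.ext
      simpa [lu] using hij
    rw [pow_eq_pow_iff_modEq, hlu] at h4
    have h5 := (ZMod.natCast_eq_natCast_iff _ _ _).mpr h4
    simpa using h5
  have hmem : l' ^ (s - 1) ∈ S := by
    by_contra hno
    have h4 : insert (l' ^ (s - 1)) S ⊆ (f.map (algebraMap F K)).roots.toFinset := by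
      intro z hz
      rcases Finset.mem_insert.mp hz with rfl | hz
      · exact hroot _ hρ
      · obtain ⟨j, -, rfl⟩ := Finset.mem_image.mp hz
        exact hroot _ (hconj j)
    have h5 := Finset.card_le_card h4
    rw [Finset.card_insert_of_notMem hno, hSinj] at h5
    have h6 := Multiset.toFinset_card_le (f.map (algebraMap F K)).roots
    have h7 := Polynomial.card_roots' (f.map (algebraMap F K))
    rw [natDegree_map] at h7
    omega
  obtain ⟨j, hj, hjρ⟩ := Finset.mem_image.mp hmem
  have hjl : j < l := Finset.mem_range.mp hj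
  have h4 : l' ^ (q ^ j + 1) = 1 := by
    rw [pow_succ]
    rw [hjρ, ← pow_succ, show s - 1 + 1 = s by have := hs.pos; omega, hls]
  have h5 : s ∣ q ^ j + 1 := (hpow_one _).mp h4
  have h6 : ((q : ℕ) : ZMod s) ^ j = -1 := by
    have h7 : ((q ^ j + 1 : ℕ) : ZMod s) = 0 := (ZMod.natCast_eq_zero_iff _ _).mpr h5
    push_cast at h7
    linear_combination h7
  have h7 : ((q : ℕ) : ZMod s) ^ (j * 2) = 1 := by
    rw [pow_mul, h6]
    ring
  have h8 : l ∣ j * 2 := orderOf_dvd_of_pow_eq_one h7
  have h9 : l ∣ j := Nat.Coprime.dvd_of_dvd_mul_right (Nat.coprime_two_right.mpr hodd) h8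
  have h10 : j = 0 := Nat.eq_zero_of_dvd_of_lt h9 hjl
  rw [h10, pow_zero] at h6
  have h11 : ((2 : ℕ) : ZMod s) = 0 := by
    push_cast
    linear_combination h6
  have h12 : s ∣ 2 := (ZMod.natCast_eq_zero_iff _ _).mp h11
  exact hs2 ((Nat.prime_dvd_prime_iff_eq hs Nat.prime_two).mp h12)

/-- Odd order: commuting maps satisfy the Frobenius equation. -/
theorem codd (hnd : B.Nondegenerate) {T : Module.End F V} (hT : T ∈ isomSub B) {s : ℕ} (hs : s.Prime)
    (hs2 : s ≠ 2) (hs0 : (s : F) ≠ 0) (hTs : T ^ s = 1) (hfix : ∀ v, T v = v → v = 0)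
    (hodd : Odd (orderOf ((Fintype.card F : ℕ) : ZMod s)))
    (hdim : Module.finrank F V = 2 * orderOf ((Fintype.card F : ℕ) : ZMod s))
    {β : Module.End F V} (hc : ∀ v, β (T v) = T (β v)) :
    β ^ ((Fintype.card F) ^ (orderOf ((Fintype.card F : ℕ) : ZMod s))) = β := by
  classical
  set l := orderOf ((Fintype.card F : ℕ) : ZMod s) with hl
  have hl0 : l ≠ 0 := by
    rintro h
    rw [h] at hodd
    exact absurd hodd (by decide)
  have hχd : T.charpoly.natDegree = 2 * l := by rw [LinearMap.charpoly_natDegree, hdim]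
  have hχu : ¬ IsUnit T.charpoly := by
    intro h
    have := natDegree_eq_zero_of_isUnit h
    omega
  obtain ⟨f₀, hf₀, hf₀d⟩ := WfDvdMonoid.exists_irreducible_factor hχu (LinearMap.charpoly_monic T).ne_zero
  set f := normalize f₀ with hfd
  have hassoc : Associated f₀ f := associated_normalize f₀
  have hf : Irreducible f := hassoc.irreducible hf₀
  have hfm : f.Monic := Polynomial.monic_normalize hf₀.ne_zero
  have hfχ : f ∣ T.charpoly := hassoc.dvd_iff_dvd_left.mp hf₀d
  obtain ⟨v₀, U, h1, -, -⟩ := find_summand hs0 (Module.finrank F V) V T rfl hTs f hf hfm hfχ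
  have hf0 := odd_ne_zero hnd hT hs hs2 hTs hfix hodd hf hfm h1
  have hv0 : v₀ ≠ 0 := by
    rintro rfl
    have := (h1 1).mp (by simp)
    exact hf.not_isUnit (isUnit_of_dvd_one this)
  have h3 : f ∣ X ^ s - 1 := by
    rw [← h1]
    simp [hTs]
  obtain ⟨g, hg⟩ := h3
  have hcop : IsCoprime f g := by
    rw [hf.coprime_iff_not_dvd]
    intro hfg
    have h4 : f * f ∣ X ^ s - 1 := by
      rw [hg]
      exact mul_dvd_mul_left _ hfg
    exact hf.not_isUnit (squarefree_pow_sub_one hs0 f h4)
  set K₁ := LinearMap.ker (aeval T f) with hK₁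
  set K₂ := LinearMap.ker (aeval T g) with hK₂
  have hdisj : Disjoint K₁ K₂ := Polynomial.disjoint_ker_aeval_of_isCoprime T hcop
  have hsup : K₁ ⊔ K₂ = ⊤ := by
    rw [hK₁, hK₂, Polynomial.sup_ker_aeval_eq_ker_aeval_mul_of_coprime T hcop, ← hg]
    simp [hTs]
  have hfr : Module.finrank F K₁ + Module.finrank F K₂ = 2 * l := by
    have h4 := Submodule.finrank_sup_add_finrank_inf_eq K₁ K₂
    rw [hsup, hdisj.eq_bot, finrank_top, hdim] at h4
    simpa using h4.symm
  have hinv : ∀ (a : F[X]) (γ : Module.End F V), (∀ v, γ (T v) = T (γ v)) → ∀ v ∈ LinearMap.ker (aeval T a), γ v ∈ LinearMap.ker (aeval T a) := by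
    intro a γ hγ v hv
    rw [LinearMap.mem_ker] at hv ⊢
    rw [← comm_aeval hγ, hv, map_zero]
  have hinvT : ∀ a : F[X], ∀ v ∈ LinearMap.ker (aeval T a), T v ∈ LinearMap.ker (aeval T a) :=
    fun a => hinv a T (fun _ => rfl)
  have hd1 : l ∣ Module.finrank F K₁ :=
    ord_dvd_finrank hs hTs K₁ (hinvT f) (fun v _ h => hfix v h)
  have hd2 : l ∣ Module.finrank F K₂ :=
    ord_dvd_finrank hs hTs K₂ (hinvT g) (fun v _ h => hfix v h)
  have hK₁0 : Module.finrank F K₁ ≠ 0 := by
    intro h
    have h4 := Submodule.finrank_eq_zero.mp h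
    have h5 : v₀ ∈ K₁ := (h1 f).mpr dvd_rfl
    rw [h4] at h5
    exact hv0 (by simpa using h5)
  have hK₁T : Module.finrank F K₁ ≠ 2 * l := by
    intro h
    apply hf0
    have h4 : K₁ = ⊤ := Submodule.eq_top_of_finrank_eq (by rw [h, hdim])
    exact LinearMap.ker_eq_top.mp h4
  obtain ⟨c₁, hc₁⟩ := hd1
  obtain ⟨c₂, hc₂⟩ := hd2
  have hK₁l : Module.finrank F K₁ = l := by
    have h4 : c₁ ≠ 0 := by
      rintro rfl
      simp [hc₁] at hK₁0
    have h5 : l * (c₁ + c₂) = l * 2 := by
      rw [mul_add, ← hc₁, ← hc₂, hfr]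
      ring
    have h6 : c₁ + c₂ = 2 := Nat.eq_of_mul_eq_mul_left (Nat.pos_of_ne_zero hl0) h5
    have h7 : c₁ ≠ 2 := by
      rintro rfl
      apply hK₁T
      rw [hc₁]
      ring
    have h8 : c₁ = 1 := by omega
    rw [hc₁, h8, mul_one]
  have hK₂l : Module.finrank F K₂ = l := by omega
  have e1 := frob_on hs hTs K₁ (hinvT f) (fun v _ h => hfix v h) hK₁l hl0 hc (hinv f β hc)
  have e2 := frob_on hs hTs K₂ (hinvT g) (fun v _ h => hfix v h) hK₂l hl0 hc (hinv g β hc)
  refine LinearMap.ext fun v => ?_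
  have hv : v ∈ K₁ ⊔ K₂ := by rw [hsup]; trivial
  obtain ⟨a, ha, b, hb, rfl⟩ := Submodule.mem_sup.mp hv
  rw [map_add, map_add, e1 a ha, e2 b hb]

/-- Even order: commuting maps are polynomials. -/
theorem ceven {T : Module.End F V} {s : ℕ} (hs : s.Prime) (hTs : T ^ s = 1) (hfix : ∀ v, T v = v → v = 0)
    (hdim : Module.finrank F V = orderOf ((Fintype.card F : ℕ) : ZMod s)) (hl0 : orderOf ((Fintype.card F : ℕ) : ZMod s) ≠ 0)
    {β : Module.End F V} (hc : ∀ v, β (T v) = T (β v)) :
    (∃ a : F[X], β = aeval T a) ∧ β ^ ((Fintype.card F) ^ (orderOf ((Fintype.card F : ℕ) : ZMod s))) = β := by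
  have hK : Module.finrank F (⊤ : Submodule F V) = orderOf ((Fintype.card F : ℕ) : ZMod s) := by
    rw [finrank_top, hdim]
  constructor
  · obtain ⟨a, ha⟩ := simple_form hs hTs ⊤ (fun v _ => trivial) (fun v _ h => hfix v h) hK hl0 hc (fun v _ => trivial)
    exact ⟨a, LinearMap.ext fun v => ha v trivial⟩
  · exact LinearMap.ext fun v => frob_on hs hTs ⊤ (fun v _ => trivial) (fun v _ h => hfix v h) hK hl0 hc (fun v _ => trivial) v trivial

/-- Restricted isometries. -/
lemma restrict_mem {β : Module.End F V} (hβ : β ∈ isomSub B) (S : Submodule F V) (hS : ∀ v ∈ S, β v ∈ S) :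
    β.restrict hS ∈ isomSub (B.restrict S) := by
  intro u v
  exact hβ u v

/-- An element whose powers equal on a sum. -/
lemma end_ext_sup {C W : Submodule F V} (hsup : C ⊔ W = ⊤) {a b : Module.End F V} (hC : ∀ v ∈ C, a v = b v) (hW : ∀ v ∈ W, a v = b v) : a = b := by
  refine LinearMap.ext fun v => ?_
  have hv : v ∈ C ⊔ W := by rw [hsup]; trivial
  obtain ⟨x, hx, y, hy, rfl⟩ := Submodule.mem_sup.mp hv
  rw [map_add, map_add, hC x hx, hW y hy]

/-- The main structure theorem for commuting isometries of odd prime order. -/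
theorem pair_main {n : ℕ} (hA : B.IsAlt) (hnd : B.Nondegenerate) (hdim : Module.finrank F V = 2 * n)
    {β γ : Module.End F V} (hβ : β ∈ isomSub B) (hγ : γ ∈ isomSub B) (hcomm : ∀ v, β (γ v) = γ (β v))
    {r s k l ek el : ℕ} (hr : r.Prime) (hs : s.Prime) (hr2 : r ≠ 2) (hs2 : s ≠ 2) (hr0 : (r : F) ≠ 0) (hs0 : (s : F) ≠ 0)
    (hβr : β ^ r = 1) (hβ1 : β ≠ 1) (hγs : γ ^ s = 1) (hγ1 : γ ≠ 1)
    (hk : k = orderOf ((Fintype.card F : ℕ) : ZMod r)) (hl : l = orderOf ((Fintype.card F : ℕ) : ZMod s))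
    (hek : (Odd k ∧ ek = k) ∨ (Even k ∧ 2 * ek = k)) (hel : (Odd l ∧ el = l) ∨ (Even l ∧ 2 * el = l)) (hkl : ek ≤ el) :
    ek + el ≤ n ∨ ∃ t : ℕ, Odd t ∧ l = k * t := by
  classical
  set q := Fintype.card F with hq
  have hq0 : 1 ≤ q := Fintype.card_pos
  set W := LinearMap.range (γ - 1) with hW
  set C := LinearMap.ker (γ - 1) with hC
  have hdims : Module.finrank F C + Module.finrank F W = 2 * n := by
    rw [← hdim]
    exact PGraph.finrank_ker_add_range (γ - 1)
  obtain ⟨c, hc1, hc⟩ := range_finrank hA hnd hγ hs hs0 hγs hγ1 hl hel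
  rw [← hW] at hc
  have hsup : C ⊔ W = ⊤ := PGraph.sup_ker_range hs0 γ hγs
  have hWβ : ∀ v ∈ W, β v ∈ W := by
    rintro _ ⟨y, rfl⟩
    refine ⟨β y, ?_⟩
    simp [hcomm]
  have hWγ : ∀ v ∈ W, γ v ∈ W := by
    rintro _ ⟨y, rfl⟩
    refine ⟨γ y, ?_⟩
    simp
  have hCmem : ∀ v, v ∈ C ↔ γ v = v := by
    intro v
    rw [hC, LinearMap.mem_ker]
    simp [sub_eq_zero]
  have hCβ : ∀ v ∈ C, β v ∈ C := by
    intro v hv
    rw [hCmem] at hv ⊢
    rw [← hcomm, hv]
  have helc : el ≤ el * c := Nat.le_mul_of_pos_right _ hc1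
  by_cases hCtriv : ∀ v ∈ C, β v = v
  swap
  · -- `β` moves something in `C`
    left
    have h1 : 2 * ek ≤ Module.finrank F C := by
      apply two_eta_le (B := B.restrict C) (T := β.restrict hCβ) (restrict_alt hA C) (ker_nondeg hA hnd hγ hs0 hγs)
        (restrict_mem hβ C hCβ) hr hr0 (restrict_pow_one hβr C hCβ) _ hk hek
      intro h
      apply hCtriv
      intro v hv
      have := LinearMap.congr_fun h ⟨v, hv⟩
      exact congrArg Subtype.val this
    omega
  by_cases hc2 : c = 1
  swap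
  · left
    have h1 : 2 ≤ c := by omega
    have h2 : el * 2 ≤ el * c := Nat.mul_le_mul_left _ h1
    omega
  subst hc2
  rw [mul_one] at hc helc
  -- now the small case
  set γW := γ.restrict hWγ with hγW
  set βW := β.restrict hWβ with hβW
  have hfix : ∀ v, γW v = v → v = 0 := by
    intro v hv
    apply Subtype.ext
    exact PGraph.range_fixed hs0 γ hγs v v.2 (congrArg Subtype.val hv)
  have hγWs : γW ^ s = 1 := restrict_pow_one hγs W hWγ
  have hcW : ∀ v, βW (γW v) = γW (βW v) := by
    intro v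
    apply Subtype.ext
    exact hcomm v
  have hBW := range_nondeg hA hnd hγ hs0 hγs
  rw [← hW] at hBW
  have hγWm : γW ∈ isomSub (B.restrict W) := restrict_mem hγ W hWγ
  have hβWm : βW ∈ isomSub (B.restrict W) := restrict_mem hβ W hWβ
  have hl0 : l ≠ 0 := by
    rintro h0
    have h1 : l ∣ Module.finrank F W := by
      rw [hl]
      exact ord_dvd_finrank hs hγs W hWγ (fun v hv h => PGraph.range_fixed hs0 γ hγs v hv h)
    rw [h0, zero_dvd_iff] at h1
    have h2 : W = ⊥ := Submodule.finrank_eq_zero.mp h1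
    apply hγ1
    have : γ - 1 = 0 := LinearMap.range_eq_bot.mp h2
    exact sub_eq_zero.mp this
  haveI : Fact r.Prime := ⟨hr⟩
  have hordβ : orderOf β = r := orderOf_eq_prime hβr hβ1
  have hpowC : ∀ (j : ℕ), ∀ v ∈ C, (β ^ j) v = v := by
    intro j
    induction j with
    | zero => intro v _; rfl
    | succ j ih =>
      intro v hv
      rw [pow_succ, Module.End.mul_apply, hCtriv v hv, ih v hv]
  right
  rcases hel with ⟨hlodd, rfl⟩ | ⟨hleven, h2⟩
  · -- `l` odd
    have h1 : βW ^ (q ^ el) = βW := by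
      have := codd hBW hγWm hs hs2 hs0 hγWs hfix (by rw [← hl]; exact hlodd) (by rw [← hl]; exact hc) hcW
      rwa [← hl] at this
    have h2 : β ^ (q ^ el) = β := by
      apply end_ext_sup hsup
      · intro v hv
        rw [hpowC _ v hv, hCtriv v hv]
      · intro v hv
        have h3 := restrict_pow β W hWβ (q ^ el) ⟨v, hv⟩
        rw [← hβW, h1] at h3
        exact h3.symm
    have hQ1 : 1 ≤ q ^ el := Nat.one_le_pow _ _ hq0
    have h3 : β ^ (q ^ el - 1) = 1 := by
      have e1 : β ^ (q ^ el - 1) * β = β := by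
        rw [← pow_succ, show q ^ el - 1 + 1 = q ^ el by omega, h2]
      calc β ^ (q ^ el - 1) = β ^ (q ^ el - 1) * β ^ r := by rw [hβr, mul_one]
        _ = β ^ (q ^ el - 1) * (β * β ^ (r - 1)) := by
            rw [← pow_succ', show r - 1 + 1 = r by have := hr.pos; omega]
        _ = (β ^ (q ^ el - 1) * β) * β ^ (r - 1) := by rw [mul_assoc]
        _ = β * β ^ (r - 1) := by rw [e1]
        _ = β ^ r := by rw [← pow_succ', show r - 1 + 1 = r by have := hr.pos; omega]
        _ = 1 := hβr
    have h4 : r ∣ q ^ el - 1 := by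
      rw [← hordβ]
      exact orderOf_dvd_of_pow_eq_one h3
    have h5 : k ∣ el := by
      rw [hk]
      exact (PGraph.prime_dvd_iff hr hq0 _).mp h4
    obtain ⟨t, ht⟩ := h5
    refine ⟨t, ?_, ht⟩
    rw [ht] at hlodd
    exact (Nat.odd_mul.mp hlodd).2
  · -- `l` even
    have hel0 : el ≠ 0 := by
      rintro rfl
      exact hl0 h2.symm
    have hdW : Module.finrank F W = orderOf ((q : ℕ) : ZMod s) := by
      rw [hc, ← hl, h2]
    obtain ⟨⟨a, ha⟩, -⟩ := ceven hs hγWs hfix hdW (by rw [← hl]; exact hl0) hcW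
    set Q := q ^ el with hQ
    have hQ1 : 1 ≤ Q := Nat.one_le_pow _ _ hq0
    haveI : Fact s.Prime := ⟨hs⟩
    have hsQ : s ∣ Q + 1 := by
      have h3 : ((q : ℕ) : ZMod s) ^ l = 1 := by
        rw [hl]
        exact pow_orderOf_eq_one _
      set x := ((q : ℕ) : ZMod s) ^ el with hx
      have h4 : x ^ 2 = 1 := by
        rw [hx, ← pow_mul, mul_comm, h2, h3]
      have h5 : x ≠ 1 := by
        intro h
        have h6 : l ∣ el := by
          rw [hl]
          exact orderOf_dvd_of_pow_eq_one h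
        have h7 := Nat.le_of_dvd (Nat.pos_of_ne_zero hel0) h6
        omega
      have h6 : (x - 1) * (x + 1) = 0 := by linear_combination h4
      have h7 : x + 1 = 0 := (mul_eq_zero.mp h6).resolve_left (sub_ne_zero.mpr h5)
      rw [← ZMod.natCast_eq_zero_iff]
      push_cast
      rw [hQ]
      push_cast
      rw [← hx]
      exact h7
    have hγQ : γW * γW ^ Q = 1 := by
      obtain ⟨u, hu⟩ := hsQ
      rw [← pow_succ', hu, pow_mul, hγWs, one_pow]
    have hadj : ∀ x y, (B.restrict W) (βW x) y = (B.restrict W) x ((βW ^ Q) y) := by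
      intro x y
      have h3 := adj_aeval hγWm hγQ a x y
      rw [← ha] at h3
      rw [h3, hQ, hq, ← aeval_pow_card_end, ← ha]
    have hone : ∀ y, (βW ^ (Q + 1)) y = y := by
      intro y
      have h3 : (βW ^ (Q + 1)) y - y = 0 := by
        apply hBW.2
        intro x
        rw [map_sub]
        have h4 := hβWm x y
        rw [hadj] at h4
        have h5 : (βW ^ Q) (βW y) = (βW ^ (Q + 1)) y := by
          rw [pow_succ, Module.End.mul_apply]
        rw [h5] at h4
        rw [h4, sub_self]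
      exact sub_eq_zero.mp h3
    have h3 : β ^ (Q + 1) = 1 := by
      apply end_ext_sup hsup
      · intro v hv
        rw [hpowC _ v hv]
        rfl
      · intro v hv
        have h4 := restrict_pow β W hWβ (Q + 1) ⟨v, hv⟩
        rw [← hβW, hone] at h4
        exact h4.symm
    have h4 : r ∣ Q + 1 := by
      rw [← hordβ]
      exact orderOf_dvd_of_pow_eq_one h3
    have h5 : r ∣ q ^ l - 1 := by
      have e : q ^ l - 1 = (Q + 1) * (Q - 1) := by
        rw [← h2, two_mul, pow_add, ← hQ]
        obtain ⟨u, hu⟩ : ∃ u, Q = u + 1 := ⟨Q - 1, by omega⟩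
        rw [hu]
        have e1 : (u + 1) * (u + 1) = (u + 1 + 1) * u + 1 := by ring
        simp [e1]
      rw [e]
      exact h4.mul_right _
    have h6 : k ∣ l := by
      rw [hk]
      exact (PGraph.prime_dvd_iff hr hq0 _).mp h5
    obtain ⟨t, ht⟩ := h6
    refine ⟨t, ?_, ht⟩
    by_contra hodd
    rw [Nat.not_odd_iff_even] at hodd
    obtain ⟨t', rfl⟩ := hodd
    have h7 : k ∣ el := by
      refine ⟨t', ?_⟩
      have : 2 * el = 2 * (k * t') := by
        rw [h2, ht]
        ring
      omega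
    have h8 : r ∣ Q - 1 := by
      rw [hQ]
      rw [hk] at h7
      exact (PGraph.prime_dvd_iff hr hq0 _).mpr h7
    have h9 : r ∣ 2 := by
      have e : 2 = (Q + 1) - (Q - 1) := by omega
      rw [e]
      exact Nat.dvd_sub h4 h8
    exact hr2 ((Nat.prime_dvd_prime_iff_eq hr Nat.prime_two).mp h9)

/-- Commuting with an isometry of large prime order: no unipotent elements. -/
theorem unip_main {n p c : ℕ} [hp : Fact p.Prime] [CharP F p] (hA : B.IsAlt) (hnd : B.Nondegenerate) (hdim : Module.finrank F V = 2 * n)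
    {β : Module.End F V} (hβ : β ∈ isomSub B)
    {r k e : ℕ} (hr : r.Prime) (hr2 : r ≠ 2) (hr0 : (r : F) ≠ 0)
    (hβr : β ^ r = 1) (hβ1 : β ≠ 1)
    (hk : k = orderOf ((Fintype.card F : ℕ) : ZMod r))
    (he : (Odd k ∧ e = k) ∨ (Even k ∧ 2 * e = k)) (hn : n ≤ e)
    {u : Module.End F V} (hc : ∀ v, u (β v) = β (u v)) (hu : u ^ (p ^ c) = 1) : u = 1 := by
  classical
  set q := Fintype.card F with hq
  obtain ⟨f, hfp, hf⟩ := FiniteField.card F p
  obtain ⟨c', hc1, hc'⟩ := range_finrank hA hnd hβ hr hr0 hβr hβ1 hk he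
  have hle : e ≤ e * c' := Nat.le_mul_of_pos_right _ hc1
  have hrk : Module.finrank F (LinearMap.range (β - 1)) ≤ Module.finrank F V := Submodule.finrank_le _
  have hen : e = n := by omega
  have hW : LinearMap.range (β - 1) = ⊤ := by
    apply Submodule.eq_top_of_finrank_eq
    omega
  have hfix : ∀ v, β v = v → v = 0 := by
    intro v hv
    apply PGraph.range_fixed hr0 β hβr v _ hv
    rw [hW]
    trivial
  have hdV : Module.finrank F V = 2 * e := by omega
  have hV0 : e ≠ 0 := by
    rintro rfl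
    have hβ2 : β = 1 := by
      have h0 : LinearMap.range (β - 1) = ⊥ := by
        apply Submodule.finrank_eq_zero.mp
        omega
      have : β - 1 = 0 := LinearMap.range_eq_bot.mp h0
      exact sub_eq_zero.mp this
    exact hβ1 hβ2
  have hk0 : k ≠ 0 := by
    rintro rfl
    rcases he with ⟨h1, _⟩ | ⟨_, h1⟩
    · exact absurd h1 (by decide)
    · omega
  have hfr : u ^ (q ^ k) = u := by
    rcases he with ⟨h1, rfl⟩ | ⟨h1, h2⟩
    · have := codd hnd hβ hr hr2 hr0 hβr hfix (by rw [← hk]; exact h1) (by rw [← hk]; exact hdV) hc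
      rwa [← hk] at this
    · have h3 : Module.finrank F V = orderOf ((q : ℕ) : ZMod r) := by
        rw [← hk, hdV, h2]
      have := (ceven hr hβr hfix h3 (by rw [← hk]; exact hk0) hc).2
      rwa [← hk] at this
  have hit : ∀ M : ℕ, u ^ ((q ^ k) ^ M) = u := by
    intro M
    induction M with
    | zero => simp
    | succ M ih =>
      rw [pow_succ, pow_mul, ih, hfr]
  have hd : p ^ c ∣ (q ^ k) ^ c := by
    apply pow_dvd_pow_of_dvd
    rw [hq, hf]
    exact dvd_pow (dvd_pow_self p f.ne_zero) hk0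
  obtain ⟨w, hw⟩ := hd
  rw [← hit c, hw, pow_mul, hu, one_pow]

end main

end Cfsg.Agent.Lib.KS2.SpM
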