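import Mathlib
import Cfsg.Agent.Lib.KS2.SpOrd
import Cfsg.Agent.S0245

/-!
# The prime graph of `PSp_{2n}(q)`.
-/

set_option autoImplicit false
set_option linter.unusedSimpArgs false
set_option linter.unusedVariables false
set_option linter.deprecated false

universe u

namespace Cfsg.Agent.Lib.KS2.SpM

open Matrix Polynomial Cfsg.Agent.Lib.Classical Cfsg.Agent.Lib.KS2.SSConj

variable {F : Type u} [Field F] [Fintype F] {n : ℕ}

/-- The class of an element. -/
def cls (x : Sp n F) : Cfsg.PSp n F := QuotientGroup.mk x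

lemma cls_surjective : Function.Surjective (cls : Sp n F → Cfsg.PSp n F) := QuotientGroup.mk_surjective

lemma cls_pow (x : Sp n F) (j : ℕ) : cls x ^ j = cls (x ^ j) := rfl

/-- A power of an element trivial in `PSp` has square one. -/
lemma pow_of_cls (hn : 1 ≤ n) (x : Sp n F) (j : ℕ) (h : cls x ^ j = 1) : ∃ a : F, a * a = 1 ∧
    ((x ^ j : Sp n F) : Matrix (Fin n ⊕ Fin n) (Fin n ⊕ Fin n) F) = a • 1 := by
  rw [cls_pow] at h
  exact sp_center_scalar hn _ ((QuotientGroup.eq_one_iff _).mp h)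

lemma sq_of_cls (hn : 1 ≤ n) (x : Sp n F) (j : ℕ) (h : cls x ^ j = 1) : x ^ (2 * j) = 1 := by
  obtain ⟨a, ha, hx⟩ := pow_of_cls hn x j h
  apply Subtype.ext
  rw [mul_comm, pow_mul]
  show ((x ^ j : Sp n F) : Matrix (Fin n ⊕ Fin n) (Fin n ⊕ Fin n) F) ^ 2 = 1
  rw [hx, _root_.smul_pow, pow_two a, ha, one_smul]
  simp

lemma cls_eq_of_two {p : ℕ} [CharP F p] (hp2 : p = 2) (hn : 1 ≤ n) (x : Sp n F) (j : ℕ) (h : cls x ^ j = 1) : x ^ j = 1 := by
  obtain ⟨a, ha, hx⟩ := pow_of_cls hn x j h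
  subst hp2
  haveI : CharP F 2 := ‹CharP F 2›
  have ha1 : a = 1 := by
    have h1 : (a - 1) * (a - 1) = 0 := by
      have h2 : (2 : F) = 0 := CharTwo.two_eq_zero
      linear_combination ha + (1 - a) * h2
    have h3 := mul_self_eq_zero.mp h1
    exact sub_eq_zero.mp h3
  apply Subtype.ext
  rw [hx, ha1, one_smul]
  rfl

/-- The order in `PSp` of an element of odd order. -/
lemma order_cls_odd (hn : 1 ≤ n) (x : Sp n F) (h : Odd (orderOf x)) : orderOf (cls x) = orderOf x := by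
  apply Nat.dvd_antisymm
  · apply orderOf_dvd_of_pow_eq_one
    rw [cls_pow, pow_orderOf_eq_one]
    rfl
  · have h1 := sq_of_cls hn x _ (pow_orderOf_eq_one (cls x))
    have h2 := orderOf_dvd_of_pow_eq_one h1
    exact Nat.Coprime.dvd_of_dvd_mul_left (Nat.coprime_two_right.mpr h) h2

lemma order_cls_two {p : ℕ} [CharP F p] (hp2 : p = 2) (hn : 1 ≤ n) (x : Sp n F) : orderOf (cls x) = orderOf x := by
  apply Nat.dvd_antisymm
  · apply orderOf_dvd_of_pow_eq_one
    rw [cls_pow, pow_orderOf_eq_one]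
    rfl
  · exact orderOf_dvd_of_pow_eq_one (cls_eq_of_two hp2 hn x _ (pow_orderOf_eq_one (cls x)))

/-- The multiplicative order is not zero. -/
lemma ord_ne_zero {p r : ℕ} [hp : Fact p.Prime] [CharP F p] (hr : r.Prime) (hrp : r ≠ p) :
    orderOf ((Fintype.card F : ℕ) : ZMod r) ≠ 0 := by
  haveI : Fact r.Prime := ⟨hr⟩
  have hq0 : ((Fintype.card F : ℕ) : ZMod r) ≠ 0 := by
    intro h
    rw [ZMod.natCast_eq_zero_iff] at h
    obtain ⟨f, hfp, hf⟩ := FiniteField.card F p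
    rw [hf] at h
    have := (Nat.prime_dvd_prime_iff_eq hr hp.out).mp (hr.dvd_of_dvd_pow h)
    exact hrp this
  have h1 := ZMod.pow_card_sub_one_eq_one hq0
  have h2 : 0 < r - 1 := by
    have := hr.two_le
    omega
  exact (orderOf_pos_iff.mpr (isOfFinOrder_iff_pow_eq_one.mpr ⟨r - 1, h2, h1⟩)).ne'

lemma ne_zero_of_ne_char {p r : ℕ} [hp : Fact p.Prime] [CharP F p] (hr : r.Prime) (hrp : r ≠ p) : (r : F) ≠ 0 := by
  intro h
  have := (CharP.cast_eq_zero_iff F p r).mp h
  exact hrp ((Nat.prime_dvd_prime_iff_eq hp.out hr).mp this).symm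

/-- `q ^ e ≡ -1` when `q` has even order `2 e`. -/
lemma dvd_add_one {r k e : ℕ} (hr : r.Prime) (hk : k = orderOf ((Fintype.card F : ℕ) : ZMod r)) (hk0 : k ≠ 0) (h2 : 2 * e = k) :
    r ∣ Fintype.card F ^ e + 1 := by
  haveI : Fact r.Prime := ⟨hr⟩
  set x := ((Fintype.card F : ℕ) : ZMod r) ^ e with hx
  have h4 : x ^ 2 = 1 := by
    rw [hx, ← pow_mul, mul_comm, h2, hk]
    exact pow_orderOf_eq_one _
  have hel0 : e ≠ 0 := by
    rintro rfl
    exact hk0 h2.symm
  have h5 : x ≠ 1 := by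
    intro h
    have h6 : k ∣ e := by
      rw [hk]
      exact orderOf_dvd_of_pow_eq_one h
    have h7 := Nat.le_of_dvd (Nat.pos_of_ne_zero hel0) h6
    omega
  have h6 : (x - 1) * (x + 1) = 0 := by linear_combination h4
  have h7 : x + 1 = 0 := (mul_eq_zero.mp h6).resolve_left (sub_ne_zero.mpr h5)
  rw [← ZMod.natCast_eq_zero_iff]
  push_cast
  rw [← hx]
  exact h7

/-- Elements of prime order in the small symplectic group. -/
lemma exists_prime_order {p r k e : ℕ} [hp : Fact p.Prime] [CharP F p] (hr : r.Prime) (hrp : r ≠ p)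
    (hk : k = orderOf ((Fintype.card F : ℕ) : ZMod r)) (he : (Odd k ∧ e = k) ∨ (Even k ∧ 2 * e = k)) :
    ∃ x : Sp e F, orderOf x = r := by
  have hk0 : k ≠ 0 := by
    rw [hk]
    exact ord_ne_zero hr hrp
  rcases he with ⟨h1, rfl⟩ | ⟨h1, h2⟩
  · apply ord_minus (Nat.pos_of_ne_zero hk0)
    rw [PGraph.prime_dvd_iff hr Fintype.card_pos, ← hk]
  · apply ord_plus
    · omega
    · exact dvd_add_one hr hk hk0 h2

/-- Passing to the standard model: isometries. -/
lemma nat_pow_mem (x : Sp n F) : Matrix.mulVecLin (x : Matrix (Fin n ⊕ Fin n) (Fin n ⊕ Fin n) F) ∈ isomSub (sympBilin n F) := mulVecLin_mem n x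

lemma nat_coe_pow (x : Sp n F) (j : ℕ) :
    ((natHom n F x : isomSub (sympBilin n F)) : Module.End F (Fin n ⊕ Fin n → F)) ^ j = ((natHom n F (x ^ j) : isomSub (sympBilin n F)) : Module.End F (Fin n ⊕ Fin n → F)) := by
  rw [map_pow]
  rfl

lemma nat_coe_eq_one {x : Sp n F} : ((natHom n F x : isomSub (sympBilin n F)) : Module.End F (Fin n ⊕ Fin n → F)) = 1 ↔ x = 1 := by
  constructor
  · intro h
    apply natHom_injective n
    rw [map_one]
    exact Subtype.ext h
  · rintro rfl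
    rw [map_one]
    rfl

lemma finrank_std : Module.finrank F (Fin n ⊕ Fin n → F) = 2 * n := by
  simp
  ring

/-- The non-existence of elements of order `r p`. -/
theorem no_rp {p r k e : ℕ} [hp : Fact p.Prime] [CharP F p] (hn : 1 ≤ n) (hr : r.Prime) (hr2 : r ≠ 2) (hrp : r ≠ p)
    (hk : k = orderOf ((Fintype.card F : ℕ) : ZMod r)) (he : (Odd k ∧ e = k) ∨ (Even k ∧ 2 * e = k)) (hne : n ≤ e)
    (y : Cfsg.PSp n F) : orderOf y ≠ r * p := by
  classical
  intro hy
  have hpp : p.Prime := hp.out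
  obtain ⟨g, rfl⟩ := cls_surjective y
  have hr0 : (r : F) ≠ 0 := ne_zero_of_ne_char hr hrp
  have h1 : cls g ^ (r * p) = 1 := by
    rw [← hy]
    exact pow_orderOf_eq_one _
  have h2 : g ^ (2 * (r * p)) = 1 := sq_of_cls hn g _ h1
  have hnot : ∀ j, ¬ (r * p ∣ j) → g ^ j ≠ 1 := by
    intro j hj h
    apply hj
    rw [← hy]
    apply orderOf_dvd_of_pow_eq_one
    rw [cls_pow, h]
    rfl
  -- the semisimple part
  set β : Sp n F := g ^ (2 * p) with hβ
  have hβr : β ^ r = 1 := by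
    rw [hβ, ← pow_mul, ← h2]
    congr 1
    ring
  have hβ1 : β ≠ 1 := by
    apply hnot
    intro h
    have h3 : r * p ∣ 2 * p := h
    have h4 : r ∣ 2 := Nat.dvd_of_mul_dvd_mul_right hpp.pos h3
    exact hr2 ((Nat.prime_dvd_prime_iff_eq hr Nat.prime_two).mp h4)
  obtain ⟨u, hu1, hup, hucomm⟩ : ∃ u : Sp n F, u ≠ 1 ∧ u ^ p = 1 ∧ ∃ j, u = g ^ j := by
    by_cases hp2 : p = 2
    · refine ⟨g ^ r, ?_, ?_, r, rfl⟩
      · apply hnot
        intro h
        have h3 : r * p ∣ r * 1 := by simpa using h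
        have h4 := Nat.dvd_of_mul_dvd_mul_left hr.pos h3
        rw [hp2] at h4
        omega
      · rw [← pow_mul]
        exact cls_eq_of_two hp2 hn g _ h1
    · refine ⟨g ^ (2 * r), ?_, ?_, 2 * r, rfl⟩
      · apply hnot
        intro h
        have h3 : r * p ∣ r * 2 := by
          rw [mul_comm r 2]
          exact h
        have h4 := Nat.dvd_of_mul_dvd_mul_left hr.pos h3
        exact hp2 ((Nat.prime_dvd_prime_iff_eq hpp Nat.prime_two).mp h4)
      · rw [← pow_mul, ← h2]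
        congr 1
        ring
  obtain ⟨j, rfl⟩ := hucomm
  let βE := ((natHom n F β : isomSub (sympBilin n F)) : Module.End F (Fin n ⊕ Fin n → F))
  let uE := ((natHom n F (g ^ j) : isomSub (sympBilin n F)) : Module.End F (Fin n ⊕ Fin n → F))
  have hcomm : ∀ v, uE (βE v) = βE (uE v) := by
    intro v
    have h3 : g ^ j * β = β * g ^ j := by
      rw [hβ, ← pow_add, ← pow_add, add_comm]
    have h4 : uE * βE = βE * uE := by
      show ((natHom n F (g ^ j) * natHom n F β : isomSub (sympBilin n F)) : Module.End F (Fin n ⊕ Fin n → F)) =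
        ((natHom n F β * natHom n F (g ^ j) : isomSub (sympBilin n F)) : Module.End F (Fin n ⊕ Fin n → F))
      rw [← map_mul, ← map_mul, h3]
    exact LinearMap.congr_fun h4 v
  have hu : uE ^ (p ^ 1) = 1 := by
    rw [pow_one, nat_coe_pow, hup, map_one]
    rfl
  have hres := unip_main (p := p) (c := 1) (n := n) sympBilin_isAlt sympBilin_nondegenerate finrank_std
    (natHom n F β).2 hr hr2 hr0 (by rw [nat_coe_pow, hβr, map_one]; rfl) (by
      intro h
      exact hβ1 (nat_coe_eq_one.mp h)) hk he hne hcomm hu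
  exact hu1 (nat_coe_eq_one.mp hres)

/-- The existence of elements of order `r p`. -/
theorem exists_rp {p r k e : ℕ} [hp : Fact p.Prime] [CharP F p] (hn : 1 ≤ n) (hr : r.Prime) (hr2 : r ≠ 2) (hrp : r ≠ p)
    (hk : k = orderOf ((Fintype.card F : ℕ) : ZMod r)) (he : (Odd k ∧ e = k) ∨ (Even k ∧ 2 * e = k)) (hne : e < n) :
    ∃ y : Cfsg.PSp n F, orderOf y = r * p := by
  have hpp : p.Prime := hp.out
  obtain ⟨x₁, hx₁⟩ := exists_prime_order (p := p) hr hrp hk he
  obtain ⟨x₂, hx₂⟩ := ord_unip (F := F) (p := p) (m := n - e) (by omega)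
  obtain ⟨z, hz⟩ := ord_sum (F := F) (a := e) (b := n - e) (n := n) (by omega) x₁ x₂
  have hcop : Nat.Coprime r p := (Nat.coprime_primes hr hpp).mpr hrp
  rw [hx₁, hx₂, hcop.lcm_eq_mul] at hz
  refine ⟨cls z, ?_⟩
  rw [← hz]
  by_cases hp2 : p = 2
  · exact order_cls_two hp2 hn z
  · apply order_cls_odd hn z
    rw [hz]
    have h1 : Odd r := hr.odd_of_ne_two hr2
    have h2 : Odd p := hpp.odd_of_ne_two hp2
    exact h1.mul h2

/-- Orders dividing the group order. -/
theorem eta_le_of_dvd {p r k e : ℕ} [hp : Fact p.Prime] [CharP F p] (hr : r.Prime) (hrp : r ≠ p)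
    (hk : k = orderOf ((Fintype.card F : ℕ) : ZMod r)) (he : (Odd k ∧ e = k) ∨ (Even k ∧ 2 * e = k))
    (hG : r ∣ Nat.card (Cfsg.PSp n F)) : e ≤ n := by
  classical
  have h1 : r ∣ Nat.card (Sp n F) := by
    rw [Subgroup.card_eq_card_quotient_mul_card_subgroup (Subgroup.center (Sp n F))]
    exact hG.mul_right _
  rw [Cfsg.Agent.S0245.result rfl n] at h1
  obtain ⟨f, hfp, hf⟩ := FiniteField.card F p
  have hnq : ¬ r ∣ Fintype.card F := by
    intro h
    rw [hf] at h
    exact hrp ((Nat.prime_dvd_prime_iff_eq hr hp.out).mp (hr.dvd_of_dvd_pow h))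
  rcases (Nat.Prime.dvd_mul hr).mp h1 with h2 | h2
  · exact absurd (hr.dvd_of_dvd_pow h2) hnq
  · obtain ⟨i, hi, h3⟩ := (Prime.dvd_finset_prod_iff hr.prime _).mp h2
    have hi' : i < n := Finset.mem_range.mp hi
    have h4 : k ∣ 2 * (i + 1) := by
      rw [hk]
      exact (PGraph.prime_dvd_iff hr Fintype.card_pos _).mp h3
    have h5 := eta_dvd he h4
    have h6 := Nat.le_of_dvd (by omega) h5
    omega

/-- No element of order `r s`. -/
theorem no_rs {p r s k l ek el : ℕ} [hp : Fact p.Prime] [CharP F p] (hn : 1 ≤ n) (hr : r.Prime) (hs : s.Prime) (hr2 : r ≠ 2) (hs2 : s ≠ 2)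
    (hrp : r ≠ p) (hsp : s ≠ p) (hrs : r ≠ s)
    (hk : k = orderOf ((Fintype.card F : ℕ) : ZMod r)) (hl : l = orderOf ((Fintype.card F : ℕ) : ZMod s))
    (hek : (Odd k ∧ ek = k) ∨ (Even k ∧ 2 * ek = k)) (hel : (Odd l ∧ el = l) ∨ (Even l ∧ 2 * el = l)) (hkl : ek ≤ el)
    (y : Cfsg.PSp n F) (hy : orderOf y = r * s) : ek + el ≤ n ∨ ∃ t : ℕ, Odd t ∧ l = k * t := by
  classical
  obtain ⟨g, rfl⟩ := cls_surjective y
  have h1 : cls g ^ (r * s) = 1 := by
    rw [← hy]
    exact pow_orderOf_eq_one _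
  have h2 : g ^ (2 * (r * s)) = 1 := sq_of_cls hn g _ h1
  have hnot : ∀ j, ¬ (r * s ∣ j) → g ^ j ≠ 1 := by
    intro j hj h
    apply hj
    rw [← hy]
    apply orderOf_dvd_of_pow_eq_one
    rw [cls_pow, h]
    rfl
  set β : Sp n F := g ^ (2 * s) with hβ
  set γ : Sp n F := g ^ (2 * r) with hγ
  have hβr : β ^ r = 1 := by
    rw [hβ, ← pow_mul, ← h2]
    congr 1
    ring
  have hγs : γ ^ s = 1 := by
    rw [hγ, ← pow_mul, ← h2]
    congr 1
    ring
  have hβ1 : β ≠ 1 := by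
    apply hnot
    intro h
    have h3 : r * s ∣ 2 * s := h
    have h4 : r ∣ 2 := Nat.dvd_of_mul_dvd_mul_right hs.pos h3
    exact hr2 ((Nat.prime_dvd_prime_iff_eq hr Nat.prime_two).mp h4)
  have hγ1 : γ ≠ 1 := by
    apply hnot
    intro h
    have h3 : r * s ∣ r * 2 := by
      rw [mul_comm r 2]
      exact h
    have h4 : s ∣ 2 := Nat.dvd_of_mul_dvd_mul_left hr.pos h3
    exact hs2 ((Nat.prime_dvd_prime_iff_eq hs Nat.prime_two).mp h4)
  let βE := ((natHom n F β : isomSub (sympBilin n F)) : Module.End F (Fin n ⊕ Fin n → F))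
  let γE := ((natHom n F γ : isomSub (sympBilin n F)) : Module.End F (Fin n ⊕ Fin n → F))
  have hcomm : ∀ v, βE (γE v) = γE (βE v) := by
    intro v
    have h3 : β * γ = γ * β := by
      rw [hβ, hγ, ← pow_add, ← pow_add, add_comm]
    have h4 : βE * γE = γE * βE := by
      show ((natHom n F β * natHom n F γ : isomSub (sympBilin n F)) : Module.End F (Fin n ⊕ Fin n → F)) =
        ((natHom n F γ * natHom n F β : isomSub (sympBilin n F)) : Module.End F (Fin n ⊕ Fin n → F))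
      rw [← map_mul, ← map_mul, h3]
    exact LinearMap.congr_fun h4 v
  exact pair_main sympBilin_isAlt sympBilin_nondegenerate finrank_std (natHom n F β).2 (natHom n F γ).2 hcomm hr hs hr2 hs2
    (ne_zero_of_ne_char hr hrp) (ne_zero_of_ne_char hs hsp) (by rw [nat_coe_pow, hβr, map_one]; rfl)
    (fun h => hβ1 (nat_coe_eq_one.mp h)) (by rw [nat_coe_pow, hγs, map_one]; rfl) (fun h => hγ1 (nat_coe_eq_one.mp h))
    hk hl hek hel hkl

/-- Elements of order `r s` in two orthogonal pieces. -/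
theorem exists_rs_sum {p r s k l ek el : ℕ} [hp : Fact p.Prime] [CharP F p] (hn : 1 ≤ n) (hr : r.Prime) (hs : s.Prime) (hr2 : r ≠ 2) (hs2 : s ≠ 2)
    (hrp : r ≠ p) (hsp : s ≠ p) (hrs : r ≠ s)
    (hk : k = orderOf ((Fintype.card F : ℕ) : ZMod r)) (hl : l = orderOf ((Fintype.card F : ℕ) : ZMod s))
    (hek : (Odd k ∧ ek = k) ∨ (Even k ∧ 2 * ek = k)) (hel : (Odd l ∧ el = l) ∨ (Even l ∧ 2 * el = l)) (h : ek + el ≤ n) :
    ∃ y : Cfsg.PSp n F, orderOf y = r * s := by
  obtain ⟨x₁, hx₁⟩ := exists_prime_order (p := p) hr hrp hk hek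
  obtain ⟨x₂, hx₂⟩ := exists_prime_order (p := p) hs hsp hl hel
  obtain ⟨z, hz⟩ := ord_sum (F := F) h x₁ x₂
  have hcop : Nat.Coprime r s := (Nat.coprime_primes hr hs).mpr hrs
  rw [hx₁, hx₂, hcop.lcm_eq_mul] at hz
  refine ⟨cls z, ?_⟩
  rw [← hz]
  apply order_cls_odd hn z
  rw [hz]
  exact (hr.odd_of_ne_two hr2).mul (hs.odd_of_ne_two hs2)

/-- Elements of order `r s` in one torus. -/
theorem exists_rs_torus {p r s k l ek el t : ℕ} [hp : Fact p.Prime] [CharP F p] (hn : 1 ≤ n) (hr : r.Prime) (hs : s.Prime) (hr2 : r ≠ 2) (hs2 : s ≠ 2)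
    (hrp : r ≠ p) (hsp : s ≠ p) (hrs : r ≠ s)
    (hk : k = orderOf ((Fintype.card F : ℕ) : ZMod r)) (hl : l = orderOf ((Fintype.card F : ℕ) : ZMod s))
    (hek : (Odd k ∧ ek = k) ∨ (Even k ∧ 2 * ek = k)) (hel : (Odd l ∧ el = l) ∨ (Even l ∧ 2 * el = l)) (h : el ≤ n)
    (ht : Odd t) (hlk : l = k * t) :
    ∃ y : Cfsg.PSp n F, orderOf y = r * s := by
  have hcop : Nat.Coprime r s := (Nat.coprime_primes hr hs).mpr hrs
  have hl0 : l ≠ 0 := by
    rw [hl]
    exact ord_ne_zero hs hsp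
  have hk0 : k ≠ 0 := by
    rw [hk]
    exact ord_ne_zero hr hrp
  have key : ∃ x : Sp el F, orderOf x = r * s := by
    rcases hel with ⟨h1, rfl⟩ | ⟨h1, h2⟩
    · -- `l` odd
      apply ord_minus (Nat.pos_of_ne_zero hl0)
      apply hcop.mul_dvd_of_dvd_of_dvd
      · rw [PGraph.prime_dvd_iff hr Fintype.card_pos, ← hk, hlk]
        exact dvd_mul_right _ _
      · rw [PGraph.prime_dvd_iff hs Fintype.card_pos, ← hl]
    · -- `l` even
      have hkeven : Even k := by
        rw [hlk] at h1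
        rcases Nat.even_mul.mp h1 with h3 | h3
        · exact h3
        · exact absurd ht (Nat.not_odd_iff_even.mpr h3)
      have h2k : 2 * ek = k := by
        rcases hek with ⟨h3, _⟩ | ⟨_, h3⟩
        · exact absurd h3 (Nat.not_odd_iff_even.mpr hkeven)
        · exact h3
      have helt : el = ek * t := by
        have : 2 * el = 2 * (ek * t) := by
          rw [h2, hlk, ← h2k]
          ring
        omega
      apply ord_plus (by omega)
      apply hcop.mul_dvd_of_dvd_of_dvd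
      · have h3 := dvd_add_one (F := F) hr hk hk0 h2k
        refine h3.trans ?_
        rw [helt, pow_mul]
        have h4 := ht.nat_add_dvd_pow_add_pow (Fintype.card F ^ ek) 1
        simpa using h4
      · exact dvd_add_one hs hl hl0 h2
  obtain ⟨x, hx⟩ := key
  obtain ⟨z, hz⟩ := ord_le h x
  rw [hx] at hz
  refine ⟨cls z, ?_⟩
  rw [← hz]
  apply order_cls_odd hn z
  rw [hz]
  exact (hr.odd_of_ne_two hr2).mul (hs.odd_of_ne_two hs2)

end Cfsg.Agent.Lib.KS2.SpM
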